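import Cfsg.Agent.Lib.Sporadic.ThPres.Check

set_option autoImplicit false
set_option maxRecDepth 20000

/-! The 120 cosets at the central involution (generated; owner: helper9). -/

namespace CfsgLib.Sporadic.ThPres.Cent

/-- representatives -/
def cosetReps : List (List ℕ) := [
  [],
  [14],
  [6, 14],
  [10, 14],
  [11, 14],
  [8, 6, 14],
  [10, 6, 14],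
  [14, 6, 14],
  [11, 6, 14],
  [10, 10, 14],
  [12, 10, 14],
  [12, 11, 14],
  [11, 11, 14],
  [10, 8, 6, 14],
  [14, 8, 6, 14],
  [11, 8, 6, 14],
  [8, 10, 6, 14],
  [10, 10, 6, 14],
  [12, 10, 6, 14],
  [14, 10, 6, 14],
  [10, 14, 6, 14],
  [11, 14, 6, 14],
  [8, 11, 6, 14],
  [12, 11, 6, 14],
  [14, 11, 6, 14],
  [11, 11, 6, 14],
  [8, 10, 8, 6, 14],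
  [10, 10, 8, 6, 14],
  [12, 10, 8, 6, 14],
  [14, 10, 8, 6, 14],
  [10, 14, 8, 6, 14],
  [11, 14, 8, 6, 14],
  [8, 11, 8, 6, 14],
  [12, 11, 8, 6, 14],
  [14, 11, 8, 6, 14],
  [11, 11, 8, 6, 14],
  [12, 8, 10, 6, 14],
  [14, 8, 10, 6, 14],
  [11, 8, 10, 6, 14],
  [13, 8, 10, 6, 14],
  [14, 10, 10, 6, 14],
  [14, 12, 10, 6, 14],
  [10, 14, 10, 6, 14],
  [8, 10, 14, 6, 14],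
  [10, 10, 14, 6, 14],
  [12, 10, 14, 6, 14],
  [14, 10, 14, 6, 14],
  [8, 11, 14, 6, 14],
  [12, 11, 14, 6, 14],
  [11, 11, 14, 6, 14],
  [10, 8, 11, 6, 14],
  [12, 8, 11, 6, 14],
  [14, 8, 11, 6, 14],
  [11, 8, 11, 6, 14],
  [13, 8, 11, 6, 14],
  [14, 12, 11, 6, 14],
  [6, 14, 11, 6, 14],
  [10, 14, 11, 6, 14],
  [12, 14, 11, 6, 14],
  [6, 8, 10, 8, 6, 14],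
  [10, 8, 10, 8, 6, 14],
  [12, 8, 10, 8, 6, 14],
  [11, 8, 10, 8, 6, 14],
  [6, 14, 10, 8, 6, 14],
  [11, 14, 10, 8, 6, 14],
  [8, 10, 14, 8, 6, 14],
  [10, 10, 14, 8, 6, 14],
  [12, 10, 14, 8, 6, 14],
  [14, 10, 14, 8, 6, 14],
  [8, 11, 14, 8, 6, 14],
  [12, 11, 14, 8, 6, 14],
  [11, 11, 14, 8, 6, 14],
  [6, 8, 11, 8, 6, 14],
  [10, 8, 11, 8, 6, 14],
  [13, 8, 11, 8, 6, 14],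
  [6, 14, 11, 8, 6, 14],
  [10, 14, 11, 8, 6, 14],
  [12, 14, 11, 8, 6, 14],
  [14, 12, 8, 10, 6, 14],
  [11, 12, 8, 10, 6, 14],
  [6, 14, 8, 10, 6, 14],
  [12, 14, 8, 10, 6, 14],
  [12, 11, 8, 10, 6, 14],
  [14, 11, 8, 10, 6, 14],
  [11, 11, 8, 10, 6, 14],
  [10, 13, 8, 10, 6, 14],
  [12, 8, 10, 14, 6, 14],
  [11, 8, 10, 14, 6, 14],
  [6, 14, 10, 14, 6, 14],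
  [11, 14, 10, 14, 6, 14],
  [11, 8, 11, 14, 6, 14],
  [14, 10, 8, 11, 6, 14],
  [13, 10, 8, 11, 6, 14],
  [10, 12, 8, 11, 6, 14],
  [14, 12, 8, 11, 6, 14],
  [6, 14, 8, 11, 6, 14],
  [10, 14, 8, 11, 6, 14],
  [11, 14, 8, 11, 6, 14],
  [8, 11, 8, 11, 6, 14],
  [12, 11, 8, 11, 6, 14],
  [14, 11, 8, 11, 6, 14],
  [11, 11, 8, 11, 6, 14],
  [13, 11, 8, 11, 6, 14],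
  [10, 13, 8, 11, 6, 14],
  [6, 14, 12, 11, 6, 14],
  [10, 14, 12, 11, 6, 14],
  [11, 14, 12, 11, 6, 14],
  [8, 10, 14, 11, 6, 14],
  [10, 10, 14, 11, 6, 14],
  [13, 10, 14, 11, 6, 14],
  [10, 12, 14, 11, 6, 14],
  [8, 10, 8, 10, 8, 6, 14],
  [12, 10, 8, 10, 8, 6, 14],
  [13, 8, 10, 14, 8, 6, 14],
  [14, 10, 10, 14, 8, 6, 14],
  [14, 12, 10, 14, 8, 6, 14],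
  [6, 14, 10, 14, 8, 6, 14],
  [8, 6, 14, 11, 8, 6, 14],
  [10, 12, 14, 11, 8, 6, 14],
  [6, 14, 11, 8, 10, 6, 14]]

/-- images of the cosets under letter 0 -/
def cosetImg0 : List ℕ := [0, 1, 2, 3, 4, 5, 6, 7, 8, 9, 10, 11, 12, 13, 14, 15, 16, 17, 18, 19, 20, 21, 22, 23, 24, 25, 26, 27, 28, 29, 30, 31, 32, 33, 34, 35, 36, 37, 38, 39, 40, 41, 42, 43, 44, 45, 46, 47, 48, 49, 50, 51, 52, 53, 54, 55, 56, 57, 58, 59, 60, 61, 62, 63, 64, 65, 66, 67, 68, 69, 70, 71, 72, 73, 74, 75, 76, 77, 78, 79, 80, 81, 82, 83, 84, 85, 86, 87, 88, 89, 90, 91, 92, 93, 94, 95, 96, 97, 98, 99, 100, 101, 102, 103, 104, 105, 106, 107, 108, 109, 110, 111, 112, 113, 114, 115, 116, 117, 118, 119]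

/-- traces for letter 0 -/
def cosetUses0 : List (List Use) := [
  [],
  [⟨[], 7, false, []⟩, ⟨[], 7, true, [1]⟩],
  [⟨[], 7, false, []⟩, ⟨[], 7, true, [1]⟩],
  [⟨[], 7, false, []⟩, ⟨[], 7, true, [1]⟩],
  [⟨[], 7, false, []⟩, ⟨[], 7, true, [1]⟩],
  [⟨[], 7, false, []⟩, ⟨[], 7, true, [1]⟩],
  [⟨[], 7, false, []⟩, ⟨[], 7, true, [1]⟩],
  [⟨[], 7, false, []⟩, ⟨[10], 40, false, [4, 6, 1, 4, 6, 4, 6, 10]⟩, ⟨[], 40, true, [3, 4, 6, 1, 4, 6, 4, 6]⟩, ⟨[], 7, true, [1, 2]⟩],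
  [⟨[], 7, false, []⟩, ⟨[], 7, true, [1]⟩],
  [⟨[], 7, false, []⟩, ⟨[], 7, true, [1]⟩],
  [⟨[], 7, false, []⟩, ⟨[], 7, true, [1]⟩],
  [⟨[], 7, false, []⟩, ⟨[], 7, true, [1]⟩],
  [⟨[], 7, false, []⟩, ⟨[], 7, true, [1]⟩],
  [⟨[], 7, false, []⟩, ⟨[], 7, true, [1]⟩],
  [⟨[], 7, false, []⟩, ⟨[10], 40, false, [2, 4, 6, 4, 6, 4, 6, 10]⟩, ⟨[], 40, true, [2, 3, 4, 6, 4, 6, 4, 6]⟩, ⟨[], 7, true, [1, 2]⟩],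
  [⟨[], 7, false, []⟩, ⟨[], 7, true, [1]⟩],
  [⟨[], 7, false, []⟩, ⟨[], 7, true, [1]⟩],
  [⟨[], 7, false, []⟩, ⟨[], 7, true, [1]⟩],
  [⟨[], 7, false, []⟩, ⟨[], 7, true, [1]⟩],
  [⟨[], 7, false, []⟩, ⟨[14, 11, 11, 13, 12], 54, false, [0, 2, 4, 6, 4, 6, 5, 3, 6]⟩, ⟨[], 54, false, [0, 2, 5, 6, 4, 5, 6, 5, 6, 10]⟩, ⟨[], 7, true, [3, 5, 6, 5, 3, 6, 4, 5, 6, 4, 10]⟩],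
  [⟨[], 7, false, []⟩, ⟨[10], 40, false, [4, 6, 1, 4, 6, 4, 6, 10]⟩, ⟨[], 40, true, [3, 4, 6, 1, 4, 6, 4, 6]⟩, ⟨[], 7, true, [1, 2]⟩],
  [⟨[], 7, false, []⟩, ⟨[10], 40, false, [4, 6, 1, 4, 6, 4, 6, 10]⟩, ⟨[], 40, true, [3, 4, 6, 1, 4, 6, 4, 6]⟩, ⟨[], 7, true, [1, 2]⟩],
  [⟨[], 7, false, []⟩, ⟨[], 7, true, [1]⟩],
  [⟨[], 7, false, []⟩, ⟨[], 7, true, [1]⟩],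
  [⟨[], 7, false, []⟩, ⟨[14, 11, 11, 13, 12], 47, false, [2, 5, 3, 6, 5, 3, 6, 2]⟩, ⟨[], 47, true, [5, 6, 10, 5, 6, 10]⟩, ⟨[], 7, true, [0, 2, 3, 4, 6, 4, 6, 5]⟩],
  [⟨[], 7, false, []⟩, ⟨[], 7, true, [1]⟩],
  [⟨[], 7, false, []⟩, ⟨[], 7, true, [1]⟩],
  [⟨[], 7, false, []⟩, ⟨[], 7, true, [1]⟩],
  [⟨[], 7, false, []⟩, ⟨[], 7, true, [1]⟩],
  [⟨[], 7, false, []⟩, ⟨[14, 11, 11, 13, 12], 54, false, [5, 3, 6, 4, 6, 5, 6, 2, 6]⟩, ⟨[], 54, false, [1, 3, 6, 5, 3, 6, 2, 6, 4]⟩, ⟨[], 7, true, [3, 5, 6, 5, 3, 6, 4, 5, 6, 4, 10]⟩],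
  [⟨[], 7, false, []⟩, ⟨[10], 40, false, [2, 4, 6, 4, 6, 4, 6, 10]⟩, ⟨[], 40, true, [2, 3, 4, 6, 4, 6, 4, 6]⟩, ⟨[], 7, true, [1, 2]⟩],
  [⟨[], 7, false, []⟩, ⟨[10], 40, false, [2, 4, 6, 4, 6, 4, 6, 10]⟩, ⟨[], 40, true, [2, 3, 4, 6, 4, 6, 4, 6]⟩, ⟨[], 7, true, [1, 2]⟩],
  [⟨[], 7, false, []⟩, ⟨[], 7, true, [1]⟩],
  [⟨[], 7, false, []⟩, ⟨[], 7, true, [1]⟩],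
  [⟨[], 7, false, []⟩, ⟨[14, 11, 11, 13, 12], 47, false, [0, 10, 5, 6, 10, 5, 3, 6]⟩, ⟨[], 47, true, [5, 6, 10, 5, 6, 2, 5, 10]⟩, ⟨[], 7, true, [0, 2, 3, 4, 6, 4, 6, 5]⟩],
  [⟨[], 7, false, []⟩, ⟨[], 7, true, [1]⟩],
  [⟨[], 7, false, []⟩, ⟨[], 7, true, [1]⟩],
  [⟨[], 7, false, []⟩, ⟨[14, 11, 11, 13, 12], 54, false, [0, 2, 4, 6, 4, 6, 5, 3, 6, 2]⟩, ⟨[], 54, false, [4, 10, 5, 6, 2, 4, 5, 6, 5]⟩, ⟨[], 7, true, [3, 5, 6, 5, 3, 6, 4, 5, 6, 4, 10]⟩],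
  [⟨[], 7, false, []⟩, ⟨[], 7, true, [1]⟩],
  [⟨[], 7, false, []⟩, ⟨[], 7, true, [1]⟩],
  [⟨[], 7, false, []⟩, ⟨[14, 11, 11, 11, 11, 13, 12], 54, false, [0, 2, 4, 6, 4, 6, 5, 6, 10]⟩, ⟨[], 54, false, [1, 3, 6, 5, 6, 2, 6, 4, 5]⟩, ⟨[], 7, true, [3, 5, 6, 5, 3, 6, 4, 5, 6, 4]⟩],
  [⟨[], 7, false, []⟩, ⟨[14, 11, 11, 13, 12], 54, false, [0, 2, 4, 6, 4, 6, 5, 6]⟩, ⟨[], 54, false, [0, 2, 5, 6, 4, 5, 6, 5, 6]⟩, ⟨[], 7, true, [3, 5, 6, 5, 3, 6, 4, 5, 6, 4, 10]⟩],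
  [⟨[], 7, false, []⟩, ⟨[14, 11, 11, 13, 12], 54, false, [0, 2, 4, 6, 4, 6, 5, 3, 6]⟩, ⟨[], 54, false, [0, 2, 5, 6, 4, 5, 6, 5, 6, 10]⟩, ⟨[], 7, true, [3, 5, 6, 5, 3, 6, 4, 5, 6, 4, 10]⟩],
  [⟨[], 7, false, []⟩, ⟨[10], 40, false, [4, 6, 1, 4, 6, 4, 6, 10]⟩, ⟨[], 40, true, [3, 4, 6, 1, 4, 6, 4, 6]⟩, ⟨[], 7, true, [1, 2]⟩],
  [⟨[], 7, false, []⟩, ⟨[10], 40, false, [4, 6, 1, 4, 6, 4, 6, 10]⟩, ⟨[], 40, true, [3, 4, 6, 1, 4, 6, 4, 6]⟩, ⟨[], 7, true, [1, 2]⟩],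
  [⟨[], 7, false, []⟩, ⟨[10], 40, false, [4, 6, 1, 4, 6, 4, 6, 10]⟩, ⟨[], 40, true, [3, 4, 6, 1, 4, 6, 4, 6]⟩, ⟨[], 7, true, [1, 2]⟩],
  [⟨[], 7, false, []⟩, ⟨[10], 40, false, [4, 6, 1, 4, 6, 4, 6, 10]⟩, ⟨[52, 52, 52, 52, 52, 52, 52, 52, 52, 52, 52, 52, 52, 52, 52, 52], 48, false, [0, 5, 3, 6, 2, 6, 5, 6, 2]⟩, ⟨[42, 42, 42, 42, 42], 48, false, [0, 5, 6, 10, 5, 3, 6, 5, 6, 10]⟩, ⟨[52, 52, 52, 52, 52, 52, 52, 52, 42, 42, 42, 42, 42], 40, true, [4, 6, 1, 4, 10, 5, 6, 4, 10]⟩, ⟨[], 7, true, [2, 4, 6, 4, 10, 5, 3, 6, 4]⟩],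
  [⟨[], 7, false, []⟩, ⟨[10], 40, false, [4, 6, 1, 4, 6, 4, 6, 10]⟩, ⟨[], 40, true, [3, 4, 6, 1, 4, 6, 4, 6]⟩, ⟨[], 7, true, [1, 2]⟩],
  [⟨[], 7, false, []⟩, ⟨[10], 40, false, [4, 6, 1, 4, 6, 4, 6, 10]⟩, ⟨[], 40, true, [3, 4, 6, 1, 4, 6, 4, 6]⟩, ⟨[], 7, true, [1, 2]⟩],
  [⟨[], 7, false, []⟩, ⟨[10], 40, false, [4, 6, 1, 4, 6, 4, 6, 10]⟩, ⟨[], 40, true, [3, 4, 6, 1, 4, 6, 4, 6]⟩, ⟨[], 7, true, [1, 2]⟩],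
  [⟨[], 7, false, []⟩, ⟨[], 7, true, [1]⟩],
  [⟨[], 7, false, []⟩, ⟨[], 7, true, [1]⟩],
  [⟨[], 7, false, []⟩, ⟨[14, 11, 11, 13, 12], 47, false, [2, 5, 3, 6, 5, 3, 6]⟩, ⟨[], 47, true, [5, 6, 10, 5, 6, 2, 10]⟩, ⟨[], 7, true, [0, 2, 3, 4, 6, 4, 6, 5]⟩],
  [⟨[], 7, false, []⟩, ⟨[], 7, true, [1]⟩],
  [⟨[], 7, false, []⟩, ⟨[], 7, true, [1]⟩],
  [⟨[], 7, false, []⟩, ⟨[14, 11, 11, 13, 12], 47, false, [2, 5, 3, 6, 5, 6, 2]⟩, ⟨[], 47, true, [5, 6, 10, 5, 6]⟩, ⟨[], 7, true, [0, 2, 3, 4, 6, 4, 6, 5]⟩],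
  [⟨[], 7, false, []⟩, ⟨[14, 11, 11, 13, 12], 47, false, [2, 5, 3, 6, 5, 3, 6, 2]⟩, ⟨[], 47, true, [5, 6, 10, 5, 6, 10]⟩, ⟨[], 7, true, [0, 2, 3, 4, 6, 4, 6, 5]⟩],
  [⟨[], 7, false, []⟩, ⟨[14, 11, 11, 13, 12], 47, false, [2, 5, 3, 6, 5, 3, 6, 2]⟩, ⟨[], 47, true, [5, 6, 10, 5, 6, 10]⟩, ⟨[], 7, true, [0, 2, 3, 4, 6, 4, 6, 5]⟩],
  [⟨[], 7, false, []⟩, ⟨[14, 11, 11, 13, 12], 47, false, [2, 5, 3, 6, 5, 3, 6, 2]⟩, ⟨[], 47, true, [5, 6, 10, 5, 6, 10]⟩, ⟨[], 7, true, [0, 2, 3, 4, 6, 4, 6, 5]⟩],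
  [⟨[], 7, false, []⟩, ⟨[], 7, true, [1]⟩],
  [⟨[], 7, false, []⟩, ⟨[], 7, true, [1]⟩],
  [⟨[], 7, false, []⟩, ⟨[], 7, true, [1]⟩],
  [⟨[], 7, false, []⟩, ⟨[], 7, true, [1]⟩],
  [⟨[], 7, false, []⟩, ⟨[14, 11, 11, 13, 12], 54, false, [5, 3, 6, 4, 6, 5, 6, 2, 6]⟩, ⟨[], 54, false, [1, 3, 6, 5, 3, 6, 2, 6, 4]⟩, ⟨[], 7, true, [3, 5, 6, 5, 3, 6, 4, 5, 6, 4, 10]⟩],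
  [⟨[], 7, false, []⟩, ⟨[14, 11, 11, 13, 12], 54, false, [5, 3, 6, 4, 6, 5, 6, 2, 6]⟩, ⟨[], 54, false, [1, 3, 6, 5, 3, 6, 2, 6, 4]⟩, ⟨[], 7, true, [3, 5, 6, 5, 3, 6, 4, 5, 6, 4, 10]⟩],
  [⟨[], 7, false, []⟩, ⟨[10], 40, false, [2, 4, 6, 4, 6, 4, 6, 10]⟩, ⟨[], 40, true, [2, 3, 4, 6, 4, 6, 4, 6]⟩, ⟨[], 7, true, [1, 2]⟩],
  [⟨[], 7, false, []⟩, ⟨[10], 40, false, [2, 4, 6, 4, 6, 4, 6, 10]⟩, ⟨[], 40, true, [2, 3, 4, 6, 4, 6, 4, 6]⟩, ⟨[], 7, true, [1, 2]⟩],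
  [⟨[], 7, false, []⟩, ⟨[10], 40, false, [2, 4, 6, 4, 6, 4, 6, 10]⟩, ⟨[], 40, true, [2, 3, 4, 6, 4, 6, 4, 6]⟩, ⟨[], 7, true, [1, 2]⟩],
  [⟨[], 7, false, []⟩, ⟨[10], 40, false, [2, 4, 6, 4, 6, 4, 6, 10]⟩, ⟨[52, 52, 52, 52, 52, 52, 52, 52, 52, 52, 52, 52, 52, 52, 52, 52], 48, false, [1, 4, 6, 4, 5, 3, 5, 6, 2, 4]⟩, ⟨[42, 42, 42, 42, 42], 48, false, [1, 4, 5, 6, 4, 5, 6, 2, 4, 10]⟩, ⟨[52, 52, 52, 52, 52, 52, 52, 52, 42, 42, 42, 42, 42], 40, true, [3, 6, 5, 3, 6, 5, 3, 6, 5, 3]⟩, ⟨[], 7, true, [2, 4, 6, 4, 10, 5, 3, 6, 4]⟩],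
  [⟨[], 7, false, []⟩, ⟨[10], 40, false, [2, 4, 6, 4, 6, 4, 6, 10]⟩, ⟨[], 40, true, [2, 3, 4, 6, 4, 6, 4, 6]⟩, ⟨[], 7, true, [1, 2]⟩],
  [⟨[], 7, false, []⟩, ⟨[10], 40, false, [2, 4, 6, 4, 6, 4, 6, 10]⟩, ⟨[], 40, true, [2, 3, 4, 6, 4, 6, 4, 6]⟩, ⟨[], 7, true, [1, 2]⟩],
  [⟨[], 7, false, []⟩, ⟨[10], 40, false, [2, 4, 6, 4, 6, 4, 6, 10]⟩, ⟨[], 40, true, [2, 3, 4, 6, 4, 6, 4, 6]⟩, ⟨[], 7, true, [1, 2]⟩],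
  [⟨[], 7, false, []⟩, ⟨[], 7, true, [1]⟩],
  [⟨[], 7, false, []⟩, ⟨[], 7, true, [1]⟩],
  [⟨[], 7, false, []⟩, ⟨[], 7, true, [1]⟩],
  [⟨[], 7, false, []⟩, ⟨[14, 11, 11, 13, 12], 47, false, [0, 10, 5, 6, 10, 5, 3, 6]⟩, ⟨[], 47, true, [5, 6, 10, 5, 6, 2, 5, 10]⟩, ⟨[], 7, true, [0, 2, 3, 4, 6, 4, 6, 5]⟩],
  [⟨[], 7, false, []⟩, ⟨[14, 11, 11, 13, 12], 47, false, [0, 10, 5, 6, 10, 5, 3, 6]⟩, ⟨[], 47, true, [5, 6, 10, 5, 6, 2, 5, 10]⟩, ⟨[], 7, true, [0, 2, 3, 4, 6, 4, 6, 5]⟩],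
  [⟨[], 7, false, []⟩, ⟨[14, 11, 11, 13, 12], 47, false, [0, 10, 5, 6, 10, 5, 3, 6]⟩, ⟨[], 47, true, [5, 6, 10, 5, 6, 2, 5, 10]⟩, ⟨[], 7, true, [0, 2, 3, 4, 6, 4, 6, 5]⟩],
  [⟨[], 7, false, []⟩, ⟨[14, 11, 11, 13, 12], 54, false, [0, 2, 4, 6, 4, 6, 5, 6, 2]⟩, ⟨[], 54, false, [0, 2, 5, 6, 4, 5, 6, 5, 6, 2]⟩, ⟨[], 7, true, [3, 5, 6, 5, 3, 6, 4, 5, 6, 4, 10]⟩],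
  [⟨[], 7, false, []⟩, ⟨[], 7, true, [1]⟩],
  [⟨[], 7, false, []⟩, ⟨[14, 11, 11, 13, 12], 54, false, [0, 2, 4, 6, 4, 6, 5, 3, 6, 2]⟩, ⟨[], 54, false, [4, 10, 5, 6, 2, 4, 5, 6, 5]⟩, ⟨[], 7, true, [3, 5, 6, 5, 3, 6, 4, 5, 6, 4, 10]⟩],
  [⟨[], 7, false, []⟩, ⟨[14, 11, 11, 13, 12], 54, false, [0, 2, 4, 6, 4, 6, 5, 3, 6, 2]⟩, ⟨[], 54, false, [4, 10, 5, 6, 2, 4, 5, 6, 5]⟩, ⟨[], 7, true, [3, 5, 6, 5, 3, 6, 4, 5, 6, 4, 10]⟩],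
  [⟨[], 7, false, []⟩, ⟨[], 7, true, [1]⟩],
  [⟨[], 7, false, []⟩, ⟨[10], 40, false, [4, 5, 6, 4, 6, 4, 6, 10, 5]⟩, ⟨[], 40, true, [4, 5, 3, 6, 4, 6, 4, 6, 5]⟩, ⟨[], 7, true, [1, 2]⟩],
  [⟨[], 7, false, []⟩, ⟨[], 7, true, [1]⟩],
  [⟨[], 7, false, []⟩, ⟨[], 7, true, [1]⟩],
  [⟨[], 7, false, []⟩, ⟨[10], 40, false, [4, 6, 1, 4, 6, 4, 6, 10]⟩, ⟨[], 40, true, [3, 4, 6, 1, 4, 6, 4, 6]⟩, ⟨[], 7, true, [1, 2]⟩],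
  [⟨[], 7, false, []⟩, ⟨[10], 40, false, [4, 6, 1, 4, 6, 4, 6, 10]⟩, ⟨[], 40, true, [3, 4, 6, 1, 4, 6, 4, 6]⟩, ⟨[], 7, true, [1, 2]⟩],
  [⟨[], 7, false, []⟩, ⟨[10], 40, false, [4, 6, 1, 4, 6, 4, 6, 10]⟩, ⟨[52, 52, 52, 52, 52, 52, 52, 52, 52, 52, 52, 52, 52, 52, 52, 52], 48, false, [0, 5, 3, 6, 2, 6, 5, 6, 2]⟩, ⟨[42, 42, 42, 42, 42], 48, false, [0, 5, 6, 10, 5, 3, 6, 5, 6, 10]⟩, ⟨[52, 52, 52, 52, 52, 52, 52, 52, 42, 42, 42, 42, 42], 40, true, [4, 6, 1, 4, 10, 5, 6, 4, 10]⟩, ⟨[], 7, true, [2, 4, 6, 4, 10, 5, 3, 6, 4]⟩],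
  [⟨[], 7, false, []⟩, ⟨[10], 40, false, [4, 6, 1, 4, 6, 4, 6, 10]⟩, ⟨[52, 52, 52, 52, 52, 52, 52, 52, 52, 52, 52, 52, 52, 52, 52, 52], 48, false, [0, 5, 3, 6, 2, 6, 5, 6, 2]⟩, ⟨[42, 42, 42, 42, 42], 48, false, [0, 5, 6, 10, 5, 3, 6, 5, 6, 10]⟩, ⟨[52, 52, 52, 52, 52, 52, 52, 52, 42, 42, 42, 42, 42], 40, true, [4, 6, 1, 4, 10, 5, 6, 4, 10]⟩, ⟨[], 7, true, [2, 4, 6, 4, 10, 5, 3, 6, 4]⟩],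
  [⟨[], 7, false, []⟩, ⟨[10], 40, false, [4, 6, 1, 4, 6, 4, 6, 10]⟩, ⟨[], 40, true, [3, 4, 6, 1, 4, 6, 4, 6]⟩, ⟨[], 7, true, [1, 2]⟩],
  [⟨[], 7, false, []⟩, ⟨[10], 40, false, [4, 5, 6, 4, 6, 4, 6, 10]⟩, ⟨[], 40, true, [4, 5, 3, 6, 4, 6, 4, 6]⟩, ⟨[], 7, true, [1, 2]⟩],
  [⟨[], 7, false, []⟩, ⟨[], 7, true, [1]⟩],
  [⟨[], 7, false, []⟩, ⟨[], 7, true, [1]⟩],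
  [⟨[], 7, false, []⟩, ⟨[14, 11, 11, 13, 12], 47, false, [2, 5, 3, 6, 5, 6]⟩, ⟨[], 47, true, [5, 6, 10, 5, 6, 2]⟩, ⟨[], 7, true, [0, 2, 3, 4, 6, 4, 6, 5]⟩],
  [⟨[], 7, false, []⟩, ⟨[14, 11, 11, 13, 12], 47, false, [2, 5, 3, 6, 5, 3, 6]⟩, ⟨[], 47, true, [5, 6, 10, 5, 6, 2, 10]⟩, ⟨[], 7, true, [0, 2, 3, 4, 6, 4, 6, 5]⟩],
  [⟨[], 7, false, []⟩, ⟨[14, 11, 11, 13, 12], 47, false, [2, 5, 3, 6, 5, 3, 6]⟩, ⟨[], 47, true, [5, 6, 10, 5, 6, 2, 10]⟩, ⟨[], 7, true, [0, 2, 3, 4, 6, 4, 6, 5]⟩],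
  [⟨[], 7, false, []⟩, ⟨[14, 11, 11, 13, 12], 47, false, [2, 5, 3, 6, 5, 3, 6]⟩, ⟨[], 47, true, [5, 6, 10, 5, 6, 2, 10]⟩, ⟨[], 7, true, [0, 2, 3, 4, 6, 4, 6, 5]⟩],
  [⟨[], 7, false, []⟩, ⟨[], 7, true, [1]⟩],
  [⟨[], 7, false, []⟩, ⟨[], 7, true, [1]⟩],
  [⟨[], 7, false, []⟩, ⟨[14, 11, 11, 11, 11, 13, 12], 47, false, [2, 5, 3, 6, 5, 3, 6, 5, 3]⟩, ⟨[], 47, true, [5, 6, 10, 5, 6, 5, 3, 5]⟩, ⟨[], 7, true, [0, 2, 3, 4, 6, 4, 6, 5, 3]⟩],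
  [⟨[], 7, false, []⟩, ⟨[], 7, true, [1]⟩],
  [⟨[], 7, false, []⟩, ⟨[], 7, true, [1]⟩],
  [⟨[], 7, false, []⟩, ⟨[], 7, true, [1]⟩],
  [⟨[], 7, false, []⟩, ⟨[14, 11, 11, 13, 12], 47, false, [2, 5, 3, 6, 5, 6, 2]⟩, ⟨[], 47, true, [5, 6, 10, 5, 6]⟩, ⟨[], 7, true, [0, 2, 3, 4, 6, 4, 6, 5]⟩],
  [⟨[], 7, false, []⟩, ⟨[14, 11, 11, 13, 12], 47, false, [2, 5, 3, 6, 5, 6, 2]⟩, ⟨[], 47, true, [5, 6, 10, 5, 6]⟩, ⟨[], 7, true, [0, 2, 3, 4, 6, 4, 6, 5]⟩],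
  [⟨[], 7, false, []⟩, ⟨[14, 11, 11, 13, 12], 47, false, [2, 5, 3, 6, 5, 6, 2]⟩, ⟨[], 47, true, [5, 6, 10, 5, 6]⟩, ⟨[], 7, true, [0, 2, 3, 4, 6, 4, 6, 5]⟩],
  [⟨[], 7, false, []⟩, ⟨[14, 11, 11, 13, 12], 47, false, [2, 5, 3, 6, 5, 3, 6, 2]⟩, ⟨[], 47, true, [5, 6, 10, 5, 6, 10]⟩, ⟨[], 7, true, [0, 2, 3, 4, 6, 4, 6, 5]⟩],
  [⟨[], 7, false, []⟩, ⟨[14, 11, 11, 13, 12], 47, false, [2, 5, 3, 6, 5, 3, 6, 2]⟩, ⟨[], 47, true, [5, 6, 10, 5, 6, 10]⟩, ⟨[], 7, true, [0, 2, 3, 4, 6, 4, 6, 5]⟩],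
  [⟨[], 7, false, []⟩, ⟨[14, 11, 11, 13, 12], 47, false, [2, 5, 3, 6, 5, 3, 6, 2]⟩, ⟨[], 47, true, [5, 6, 10, 5, 6, 10]⟩, ⟨[], 7, true, [0, 2, 3, 4, 6, 4, 6, 5]⟩],
  [⟨[], 7, false, []⟩, ⟨[14, 11, 11, 13, 12], 47, false, [2, 5, 3, 6, 5, 3, 6, 2]⟩, ⟨[], 47, true, [5, 6, 10, 5, 6, 10]⟩, ⟨[], 7, true, [0, 2, 3, 4, 6, 4, 6, 5]⟩],
  [⟨[], 7, false, []⟩, ⟨[], 7, true, [1]⟩],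
  [⟨[], 7, false, []⟩, ⟨[], 7, true, [1]⟩],
  [⟨[], 7, false, []⟩, ⟨[10], 40, false, [2, 4, 6, 4, 6, 4, 6, 10]⟩, ⟨[], 40, true, [2, 3, 4, 6, 4, 6, 4, 6]⟩, ⟨[], 7, true, [1, 2]⟩],
  [⟨[], 7, false, []⟩, ⟨[10], 40, false, [2, 4, 6, 4, 6, 4, 6, 10]⟩, ⟨[44, 44, 44, 44, 44, 52, 52, 52, 52, 52, 52, 52, 52, 52, 52, 52, 52, 52, 52, 52, 52], 48, false, [1, 10, 5, 6, 5, 6, 2, 6]⟩, ⟨[42, 42, 42, 42, 42], 48, false, [0, 3, 5, 6, 10, 5, 3, 6, 5, 6, 2]⟩, ⟨[52, 52, 52, 52, 52, 52, 52, 52, 42, 42, 42, 42, 42], 40, true, [1, 6, 4, 6, 10, 5, 6, 2, 4]⟩, ⟨[], 7, true, [6, 1, 2, 4, 6, 10, 5, 6, 4]⟩],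
  [⟨[], 7, false, []⟩, ⟨[10], 40, false, [2, 4, 6, 4, 6, 4, 6, 10]⟩, ⟨[52, 52, 52, 52, 52, 52, 52, 52, 52, 52, 52, 52, 52, 52, 52, 52], 48, false, [1, 4, 6, 10, 5, 3, 6, 2, 4, 6]⟩, ⟨[42, 42, 42, 42, 42], 48, false, [1, 4, 5, 6, 4, 5, 6, 2, 4]⟩, ⟨[52, 52, 52, 52, 52, 52, 52, 52, 42, 42, 42, 42, 42], 40, true, [3, 6, 5, 3, 6, 5, 3, 6, 5, 3]⟩, ⟨[], 7, true, [2, 4, 6, 4, 10, 5, 3, 6, 4]⟩],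
  [⟨[], 7, false, []⟩, ⟨[10], 40, false, [2, 4, 6, 4, 6, 4, 6, 10]⟩, ⟨[52, 52, 52, 52, 52, 52, 52, 52, 52, 52, 52, 52, 52, 52, 52, 52], 48, false, [1, 4, 6, 4, 5, 3, 5, 6, 2, 4]⟩, ⟨[42, 42, 42, 42, 42], 48, false, [1, 4, 5, 6, 4, 5, 6, 2, 4, 10]⟩, ⟨[52, 52, 52, 52, 52, 52, 52, 52, 42, 42, 42, 42, 42], 40, true, [3, 6, 5, 3, 6, 5, 3, 6, 5, 3]⟩, ⟨[], 7, true, [2, 4, 6, 4, 10, 5, 3, 6, 4]⟩],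
  [⟨[], 7, false, []⟩, ⟨[14, 11, 11, 13, 12], 47, false, [0, 10, 5, 6, 10, 5, 3, 6]⟩, ⟨[], 47, true, [5, 6, 10, 5, 6, 2, 5, 10]⟩, ⟨[], 7, true, [0, 2, 3, 4, 6, 4, 6, 5]⟩],
  [⟨[], 7, false, []⟩, ⟨[14, 11, 11, 13, 12], 47, false, [0, 10, 5, 6, 10, 5, 3, 6]⟩, ⟨[], 47, true, [5, 6, 10, 5, 6, 2, 5, 10]⟩, ⟨[], 7, true, [0, 2, 3, 4, 6, 4, 6, 5]⟩],
  [⟨[], 7, false, []⟩, ⟨[10], 40, false, [4, 5, 6, 4, 6, 4, 6, 10, 5]⟩, ⟨[], 40, true, [4, 5, 3, 6, 4, 6, 4, 6, 5]⟩, ⟨[], 7, true, [1, 2]⟩]]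

/-- images of the cosets under letter 4 -/
def cosetImg4 : List ℕ := [0, 1, 2, 3, 4, 5, 6, 7, 8, 9, 10, 11, 12, 13, 14, 15, 16, 17, 18, 19, 20, 21, 22, 23, 24, 25, 26, 27, 28, 29, 30, 31, 32, 33, 34, 35, 36, 37, 38, 39, 40, 41, 42, 43, 44, 45, 46, 47, 48, 49, 50, 51, 52, 53, 54, 55, 56, 57, 58, 59, 60, 61, 62, 63, 64, 65, 66, 67, 68, 69, 70, 71, 72, 73, 74, 75, 76, 77, 78, 79, 80, 81, 82, 83, 84, 85, 86, 87, 88, 89, 90, 91, 92, 93, 94, 95, 96, 97, 98, 99, 100, 101, 102, 103, 104, 105, 106, 107, 108, 109, 110, 111, 112, 113, 114, 115, 116, 117, 118, 119]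

/-- traces for letter 4 -/
def cosetUses4 : List (List Use) := [
  [],
  [⟨[], 7, false, []⟩, ⟨[], 7, true, [0]⟩],
  [⟨[], 7, false, []⟩, ⟨[], 7, true, [6, 4, 6, 2, 6, 4]⟩],
  [⟨[], 7, false, []⟩, ⟨[], 7, true, [0]⟩],
  [⟨[], 7, false, []⟩, ⟨[], 7, true, [0]⟩],
  [⟨[], 7, false, []⟩, ⟨[], 7, true, [6, 4, 6, 2, 6, 4]⟩],
  [⟨[], 7, false, []⟩, ⟨[], 7, true, [6, 4, 6, 2, 6, 4]⟩],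
  [⟨[], 7, false, []⟩, ⟨[10], 40, false, [4, 6, 1, 4, 6, 4, 6, 10]⟩, ⟨[], 40, true, [3, 4, 6, 4, 6, 4, 6]⟩, ⟨[], 7, true, [2, 6, 4, 6, 2, 6, 4]⟩],
  [⟨[], 7, false, []⟩, ⟨[], 7, true, [6, 4, 6, 2, 6, 4]⟩],
  [⟨[], 7, false, []⟩, ⟨[], 7, true, [0]⟩],
  [⟨[], 7, false, []⟩, ⟨[], 7, true, [0]⟩],
  [⟨[], 7, false, []⟩, ⟨[], 7, true, [0]⟩],
  [⟨[], 7, false, []⟩, ⟨[], 7, true, [0]⟩],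
  [⟨[], 7, false, []⟩, ⟨[], 7, true, [6, 4, 6, 2, 6, 4]⟩],
  [⟨[], 7, false, []⟩, ⟨[10], 40, false, [2, 4, 6, 4, 6, 4, 6, 10]⟩, ⟨[], 40, true, [3, 4, 6, 4, 6, 4, 6, 2]⟩, ⟨[], 7, true, [2, 6, 4, 6, 2, 6, 4]⟩],
  [⟨[], 7, false, []⟩, ⟨[], 7, true, [6, 4, 6, 2, 6, 4]⟩],
  [⟨[], 7, false, []⟩, ⟨[], 7, true, [6, 4, 6, 2, 6, 4]⟩],
  [⟨[], 7, false, []⟩, ⟨[], 7, true, [6, 4, 6, 2, 6, 4]⟩],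
  [⟨[], 7, false, []⟩, ⟨[], 7, true, [6, 4, 6, 2, 6, 4]⟩],
  [⟨[], 7, false, []⟩, ⟨[14, 11, 11, 13, 12], 54, false, [0, 2, 4, 6, 4, 6, 5, 3, 6]⟩, ⟨[], 54, false, [2, 5, 6, 4, 6, 5, 6, 5, 10]⟩, ⟨[], 7, true, [5, 3, 5, 6, 1, 4, 6, 5, 6]⟩],
  [⟨[], 7, false, []⟩, ⟨[10], 40, false, [4, 6, 1, 4, 6, 4, 6, 10]⟩, ⟨[], 40, true, [3, 4, 6, 4, 6, 4, 6]⟩, ⟨[], 7, true, [2, 6, 4, 6, 2, 6, 4]⟩],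
  [⟨[], 7, false, []⟩, ⟨[10], 40, false, [4, 6, 1, 4, 6, 4, 6, 10]⟩, ⟨[], 40, true, [3, 4, 6, 4, 6, 4, 6]⟩, ⟨[], 7, true, [2, 6, 4, 6, 2, 6, 4]⟩],
  [⟨[], 7, false, []⟩, ⟨[], 7, true, [6, 4, 6, 2, 6, 4]⟩],
  [⟨[], 7, false, []⟩, ⟨[], 7, true, [6, 4, 6, 2, 6, 4]⟩],
  [⟨[], 7, false, []⟩, ⟨[14, 11, 11, 13, 12], 47, false, [2, 5, 3, 6, 5, 3, 6, 2]⟩, ⟨[], 47, true, [5, 6, 1, 10, 5, 6, 10]⟩, ⟨[], 7, true, [1, 2, 3, 6, 2, 4, 5, 6, 2]⟩],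
  [⟨[], 7, false, []⟩, ⟨[], 7, true, [6, 4, 6, 2, 6, 4]⟩],
  [⟨[], 7, false, []⟩, ⟨[], 7, true, [6, 4, 6, 2, 6, 4]⟩],
  [⟨[], 7, false, []⟩, ⟨[], 7, true, [6, 4, 6, 2, 6, 4]⟩],
  [⟨[], 7, false, []⟩, ⟨[], 7, true, [6, 4, 6, 2, 6, 4]⟩],
  [⟨[], 7, false, []⟩, ⟨[14, 11, 11, 13, 12], 54, false, [5, 3, 6, 4, 6, 5, 6, 2, 6]⟩, ⟨[], 54, false, [3, 6, 5, 3, 6, 2, 6, 4]⟩, ⟨[], 7, true, [5, 3, 5, 6, 1, 4, 6, 5, 6]⟩],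
  [⟨[], 7, false, []⟩, ⟨[10], 40, false, [2, 4, 6, 4, 6, 4, 6, 10]⟩, ⟨[], 40, true, [3, 4, 6, 4, 6, 4, 6, 2]⟩, ⟨[], 7, true, [2, 6, 4, 6, 2, 6, 4]⟩],
  [⟨[], 7, false, []⟩, ⟨[10], 40, false, [2, 4, 6, 4, 6, 4, 6, 10]⟩, ⟨[], 40, true, [3, 4, 6, 4, 6, 4, 6, 2]⟩, ⟨[], 7, true, [2, 6, 4, 6, 2, 6, 4]⟩],
  [⟨[], 7, false, []⟩, ⟨[], 7, true, [6, 4, 6, 2, 6, 4]⟩],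
  [⟨[], 7, false, []⟩, ⟨[], 7, true, [6, 4, 6, 2, 6, 4]⟩],
  [⟨[], 7, false, []⟩, ⟨[14, 11, 11, 13, 12], 47, false, [0, 10, 5, 6, 10, 5, 3, 6]⟩, ⟨[], 47, true, [1, 5, 10, 5, 6, 5, 6, 2, 10]⟩, ⟨[], 7, true, [1, 2, 3, 6, 2, 4, 5, 6, 2]⟩],
  [⟨[], 7, false, []⟩, ⟨[], 7, true, [6, 4, 6, 2, 6, 4]⟩],
  [⟨[], 7, false, []⟩, ⟨[], 7, true, [6, 4, 6, 2, 6, 4]⟩],
  [⟨[], 7, false, []⟩, ⟨[14, 11, 11, 13, 12], 54, false, [0, 2, 4, 6, 4, 6, 5, 3, 6, 2]⟩, ⟨[], 54, false, [1, 4, 10, 5, 6, 2, 4, 5, 6, 5]⟩, ⟨[], 7, true, [5, 3, 5, 6, 1, 4, 6, 5, 6]⟩],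
  [⟨[], 7, false, []⟩, ⟨[], 7, true, [6, 4, 6, 2, 6, 4]⟩],
  [⟨[], 7, false, []⟩, ⟨[], 7, true, [6, 4, 6, 2, 6, 4]⟩],
  [⟨[], 7, false, []⟩, ⟨[14, 11, 11, 11, 11, 13, 12], 54, false, [0, 2, 4, 6, 4, 6, 5, 6, 10]⟩, ⟨[], 54, false, [3, 6, 5, 6, 2, 6, 4, 5]⟩, ⟨[], 7, true, [0, 6, 2, 4, 6, 5, 6, 10, 5]⟩],
  [⟨[], 7, false, []⟩, ⟨[14, 11, 11, 13, 12], 54, false, [0, 2, 4, 6, 4, 6, 5, 6]⟩, ⟨[], 54, false, [2, 5, 6, 4, 6, 5, 6, 5]⟩, ⟨[], 7, true, [5, 3, 5, 6, 1, 4, 6, 5, 6]⟩],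
  [⟨[], 7, false, []⟩, ⟨[14, 11, 11, 13, 12], 54, false, [0, 2, 4, 6, 4, 6, 5, 3, 6]⟩, ⟨[], 54, false, [2, 5, 6, 4, 6, 5, 6, 5, 10]⟩, ⟨[], 7, true, [5, 3, 5, 6, 1, 4, 6, 5, 6]⟩],
  [⟨[], 7, false, []⟩, ⟨[10], 40, false, [4, 6, 1, 4, 6, 4, 6, 10]⟩, ⟨[], 40, true, [3, 4, 6, 4, 6, 4, 6]⟩, ⟨[], 7, true, [2, 6, 4, 6, 2, 6, 4]⟩],
  [⟨[], 7, false, []⟩, ⟨[10], 40, false, [4, 6, 1, 4, 6, 4, 6, 10]⟩, ⟨[], 40, true, [3, 4, 6, 4, 6, 4, 6]⟩, ⟨[], 7, true, [2, 6, 4, 6, 2, 6, 4]⟩],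
  [⟨[], 7, false, []⟩, ⟨[10], 40, false, [4, 6, 1, 4, 6, 4, 6, 10]⟩, ⟨[], 40, true, [3, 4, 6, 4, 6, 4, 6]⟩, ⟨[], 7, true, [2, 6, 4, 6, 2, 6, 4]⟩],
  [⟨[], 7, false, []⟩, ⟨[10], 40, false, [4, 6, 1, 4, 6, 4, 6, 10]⟩, ⟨[52, 52, 52, 52, 52, 52, 52, 52, 52, 52, 52, 52, 52, 52, 52, 52], 48, false, [0, 5, 3, 6, 2, 6, 5, 6, 2]⟩, ⟨[42, 42, 42, 42, 42], 48, false, [4, 5, 6, 4, 5, 6, 4, 5, 10, 5]⟩, ⟨[52, 52, 52, 52, 52, 52, 52, 52, 42, 42, 42, 42, 42], 40, true, [0, 4, 6, 4, 10, 5, 6, 4, 10]⟩, ⟨[], 7, true, [1, 6, 2, 4, 6, 10, 5, 3, 6, 4, 6]⟩],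
  [⟨[], 7, false, []⟩, ⟨[10], 40, false, [4, 6, 1, 4, 6, 4, 6, 10]⟩, ⟨[], 40, true, [3, 4, 6, 4, 6, 4, 6]⟩, ⟨[], 7, true, [2, 6, 4, 6, 2, 6, 4]⟩],
  [⟨[], 7, false, []⟩, ⟨[10], 40, false, [4, 6, 1, 4, 6, 4, 6, 10]⟩, ⟨[], 40, true, [3, 4, 6, 4, 6, 4, 6]⟩, ⟨[], 7, true, [2, 6, 4, 6, 2, 6, 4]⟩],
  [⟨[], 7, false, []⟩, ⟨[10], 40, false, [4, 6, 1, 4, 6, 4, 6, 10]⟩, ⟨[], 40, true, [3, 4, 6, 4, 6, 4, 6]⟩, ⟨[], 7, true, [2, 6, 4, 6, 2, 6, 4]⟩],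
  [⟨[], 7, false, []⟩, ⟨[], 7, true, [6, 4, 6, 2, 6, 4]⟩],
  [⟨[], 7, false, []⟩, ⟨[], 7, true, [6, 4, 6, 2, 6, 4]⟩],
  [⟨[], 7, false, []⟩, ⟨[14, 11, 11, 13, 12], 47, false, [2, 5, 3, 6, 5, 3, 6]⟩, ⟨[], 47, true, [5, 6, 1, 10, 5, 6, 2, 10]⟩, ⟨[], 7, true, [1, 2, 3, 6, 2, 4, 5, 6, 2]⟩],
  [⟨[], 7, false, []⟩, ⟨[], 7, true, [6, 4, 6, 2, 6, 4]⟩],
  [⟨[], 7, false, []⟩, ⟨[], 7, true, [6, 4, 6, 2, 6, 4]⟩],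
  [⟨[], 7, false, []⟩, ⟨[14, 11, 11, 13, 12], 47, false, [2, 5, 3, 6, 5, 6, 2]⟩, ⟨[], 47, true, [5, 6, 1, 10, 5, 6]⟩, ⟨[], 7, true, [1, 2, 3, 6, 2, 4, 5, 6, 2]⟩],
  [⟨[], 7, false, []⟩, ⟨[14, 11, 11, 13, 12], 47, false, [2, 5, 3, 6, 5, 3, 6, 2]⟩, ⟨[], 47, true, [1, 10, 5, 6, 2, 5, 6, 10, 5, 6]⟩, ⟨[], 7, true, [1, 2, 3, 5, 6, 4, 6, 5, 6]⟩],
  [⟨[], 7, false, []⟩, ⟨[14, 11, 11, 13, 12], 47, false, [2, 5, 3, 6, 5, 3, 6, 2]⟩, ⟨[], 47, true, [5, 6, 1, 10, 5, 6, 10]⟩, ⟨[], 7, true, [1, 2, 3, 6, 2, 4, 5, 6, 2]⟩],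
  [⟨[], 7, false, []⟩, ⟨[14, 11, 11, 13, 12], 47, false, [2, 5, 3, 6, 5, 3, 6, 2]⟩, ⟨[], 47, true, [5, 6, 1, 10, 5, 6, 10]⟩, ⟨[], 7, true, [1, 2, 3, 6, 2, 4, 5, 6, 2]⟩],
  [⟨[], 7, false, []⟩, ⟨[], 7, true, [4, 5, 6, 1, 4, 6, 4, 5]⟩],
  [⟨[], 7, false, []⟩, ⟨[], 7, true, [6, 4, 6, 2, 6, 4]⟩],
  [⟨[], 7, false, []⟩, ⟨[], 7, true, [6, 4, 6, 2, 6, 4]⟩],
  [⟨[], 7, false, []⟩, ⟨[], 7, true, [6, 4, 6, 2, 6, 4]⟩],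
  [⟨[], 7, false, []⟩, ⟨[14, 11, 11, 13, 12], 54, false, [5, 3, 6, 4, 6, 5, 6, 2, 6]⟩, ⟨[], 54, false, [3, 6, 4, 5, 3, 6]⟩, ⟨[], 7, true, [1, 3, 6, 4, 5]⟩],
  [⟨[], 7, false, []⟩, ⟨[14, 11, 11, 13, 12], 54, false, [5, 3, 6, 4, 6, 5, 6, 2, 6]⟩, ⟨[], 54, false, [3, 6, 5, 3, 6, 2, 6, 4]⟩, ⟨[], 7, true, [5, 3, 5, 6, 1, 4, 6, 5, 6]⟩],
  [⟨[], 7, false, []⟩, ⟨[10], 40, false, [2, 4, 6, 4, 6, 4, 6, 10]⟩, ⟨[], 40, true, [3, 4, 6, 4, 6, 4, 6, 2]⟩, ⟨[], 7, true, [2, 6, 4, 6, 2, 6, 4]⟩],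
  [⟨[], 7, false, []⟩, ⟨[10], 40, false, [2, 4, 6, 4, 6, 4, 6, 10]⟩, ⟨[], 40, true, [3, 4, 6, 4, 6, 4, 6, 2]⟩, ⟨[], 7, true, [2, 6, 4, 6, 2, 6, 4]⟩],
  [⟨[], 7, false, []⟩, ⟨[10], 40, false, [2, 4, 6, 4, 6, 4, 6, 10]⟩, ⟨[], 40, true, [3, 4, 6, 4, 6, 4, 6, 2]⟩, ⟨[], 7, true, [2, 6, 4, 6, 2, 6, 4]⟩],
  [⟨[], 7, false, []⟩, ⟨[10], 40, false, [2, 4, 6, 4, 6, 4, 6, 10]⟩, ⟨[52, 52, 52, 52, 52, 52, 52, 52, 52, 52, 52, 52, 52, 52, 52, 52], 48, false, [1, 4, 6, 4, 5, 3, 5, 6, 2, 4]⟩, ⟨[42, 42, 42, 42, 42], 48, false, [4, 5, 6, 4, 5, 6, 2, 4, 10]⟩, ⟨[52, 52, 52, 52, 52, 52, 52, 52, 42, 42, 42, 42, 42], 40, true, [0, 4, 6, 4, 10, 5, 6, 2, 4, 10]⟩, ⟨[], 7, true, [1, 6, 2, 4, 6, 10, 5, 3, 6, 4, 6]⟩],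
  [⟨[], 7, false, []⟩, ⟨[10], 40, false, [2, 4, 6, 4, 6, 4, 6, 10]⟩, ⟨[], 40, true, [3, 4, 6, 4, 6, 4, 6, 2]⟩, ⟨[], 7, true, [2, 6, 4, 6, 2, 6, 4]⟩],
  [⟨[], 7, false, []⟩, ⟨[10], 40, false, [2, 4, 6, 4, 6, 4, 6, 10]⟩, ⟨[], 40, true, [3, 4, 6, 4, 6, 4, 6, 2]⟩, ⟨[], 7, true, [2, 6, 4, 6, 2, 6, 4]⟩],
  [⟨[], 7, false, []⟩, ⟨[10], 40, false, [2, 4, 6, 4, 6, 4, 6, 10]⟩, ⟨[], 40, true, [3, 4, 6, 4, 6, 4, 6, 2]⟩, ⟨[], 7, true, [2, 6, 4, 6, 2, 6, 4]⟩],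
  [⟨[], 7, false, []⟩, ⟨[], 7, true, [5, 6, 4, 6, 2, 6, 4, 5]⟩],
  [⟨[], 7, false, []⟩, ⟨[], 7, true, [6, 4, 6, 2, 6, 4]⟩],
  [⟨[], 7, false, []⟩, ⟨[], 7, true, [6, 4, 6, 2, 6, 4]⟩],
  [⟨[], 7, false, []⟩, ⟨[14, 11, 11, 13, 12], 47, false, [0, 10, 5, 6, 10, 5, 3, 6]⟩, ⟨[], 47, true, [0, 6, 5, 3, 5, 6, 2, 5, 6]⟩, ⟨[], 7, true, [0, 6, 4, 5, 6, 5, 3, 5, 6]⟩],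
  [⟨[], 7, false, []⟩, ⟨[14, 11, 11, 13, 12], 47, false, [0, 10, 5, 6, 10, 5, 3, 6]⟩, ⟨[], 47, true, [1, 5, 10, 5, 6, 5, 6, 2, 10]⟩, ⟨[], 7, true, [1, 2, 3, 6, 2, 4, 5, 6, 2]⟩],
  [⟨[], 7, false, []⟩, ⟨[14, 11, 11, 13, 12], 47, false, [0, 10, 5, 6, 10, 5, 3, 6]⟩, ⟨[], 47, true, [1, 5, 10, 5, 6, 5, 6, 2, 10]⟩, ⟨[], 7, true, [1, 2, 3, 6, 2, 4, 5, 6, 2]⟩],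
  [⟨[], 7, false, []⟩, ⟨[14, 11, 11, 13, 12], 54, false, [0, 2, 4, 6, 4, 6, 5, 6, 2]⟩, ⟨[], 54, false, [2, 5, 6, 4, 6, 5, 6, 2, 5]⟩, ⟨[], 7, true, [5, 3, 5, 6, 1, 4, 6, 5, 6]⟩],
  [⟨[], 7, false, []⟩, ⟨[], 7, true, [6, 4, 6, 2, 6, 4]⟩],
  [⟨[], 7, false, []⟩, ⟨[14, 11, 11, 13, 12], 54, false, [0, 2, 4, 6, 4, 6, 5, 3, 6, 2]⟩, ⟨[], 54, false, [10, 5, 6, 2, 4, 5, 6, 5]⟩, ⟨[], 7, true, [3, 4, 6, 4, 5]⟩],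
  [⟨[], 7, false, []⟩, ⟨[14, 11, 11, 13, 12], 54, false, [0, 2, 4, 6, 4, 6, 5, 3, 6, 2]⟩, ⟨[], 54, false, [1, 4, 10, 5, 6, 2, 4, 5, 6, 5]⟩, ⟨[], 7, true, [5, 3, 5, 6, 1, 4, 6, 5, 6]⟩],
  [⟨[], 7, false, []⟩, ⟨[], 7, true, [6, 4, 6, 2, 6, 4]⟩],
  [⟨[], 7, false, []⟩, ⟨[10], 40, false, [4, 5, 6, 4, 6, 4, 6, 10, 5]⟩, ⟨[], 40, true, [4, 5, 3, 5, 6, 4, 6, 4, 6]⟩, ⟨[], 7, true, [2, 6, 4, 6, 2, 6, 4]⟩],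
  [⟨[], 7, false, []⟩, ⟨[], 7, true, [6, 4, 6, 2, 6, 4]⟩],
  [⟨[], 7, false, []⟩, ⟨[], 7, true, [6, 4, 6, 2, 6, 4]⟩],
  [⟨[], 7, false, []⟩, ⟨[10], 40, false, [4, 6, 1, 4, 6, 4, 6, 10]⟩, ⟨[], 40, true, [3, 4, 6, 4, 6, 4, 6]⟩, ⟨[], 7, true, [2, 6, 4, 6, 2, 6, 4]⟩],
  [⟨[], 7, false, []⟩, ⟨[10], 40, false, [4, 6, 1, 4, 6, 4, 6, 10]⟩, ⟨[], 40, true, [3, 4, 6, 4, 6, 4, 6]⟩, ⟨[], 7, true, [2, 6, 4, 6, 2, 6, 4]⟩],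
  [⟨[], 7, false, []⟩, ⟨[10], 40, false, [4, 6, 1, 4, 6, 4, 6, 10]⟩, ⟨[52, 52, 52, 52, 52, 52, 52, 52, 52, 52, 52, 52, 52, 52, 52, 52], 48, false, [0, 5, 3, 6, 2, 6, 5, 6, 2]⟩, ⟨[42, 42, 42, 42, 42], 48, false, [1, 6, 5, 3, 6, 2, 6, 5, 3, 6]⟩, ⟨[52, 52, 52, 52, 52, 52, 52, 52, 42, 42, 42, 42, 42], 40, true, [1, 3, 6, 2, 5, 6, 2, 5]⟩, ⟨[], 7, true, [1, 6, 10, 5, 6, 2, 5, 3, 6]⟩],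
  [⟨[], 7, false, []⟩, ⟨[10], 40, false, [4, 6, 1, 4, 6, 4, 6, 10]⟩, ⟨[52, 52, 52, 52, 52, 52, 52, 52, 52, 52, 52, 52, 52, 52, 52, 52], 48, false, [0, 5, 3, 6, 2, 6, 5, 6, 2]⟩, ⟨[42, 42, 42, 42, 42], 48, false, [4, 5, 6, 4, 5, 6, 4, 5, 10, 5]⟩, ⟨[52, 52, 52, 52, 52, 52, 52, 52, 42, 42, 42, 42, 42], 40, true, [0, 4, 6, 4, 10, 5, 6, 4, 10]⟩, ⟨[], 7, true, [1, 6, 2, 4, 6, 10, 5, 3, 6, 4, 6]⟩],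
  [⟨[], 7, false, []⟩, ⟨[10], 40, false, [4, 6, 1, 4, 6, 4, 6, 10]⟩, ⟨[], 40, true, [3, 4, 6, 4, 6, 4, 6]⟩, ⟨[], 7, true, [2, 6, 4, 6, 2, 6, 4]⟩],
  [⟨[], 7, false, []⟩, ⟨[10], 40, false, [4, 5, 6, 4, 6, 4, 6, 10]⟩, ⟨[], 40, true, [4, 6, 4, 6, 4, 6, 5, 3]⟩, ⟨[], 7, true, [2, 6, 4, 6, 2, 6, 4]⟩],
  [⟨[], 7, false, []⟩, ⟨[], 7, true, [6, 4, 6, 2, 6, 4]⟩],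
  [⟨[], 7, false, []⟩, ⟨[], 7, true, [6, 4, 6, 2, 6, 4]⟩],
  [⟨[], 7, false, []⟩, ⟨[14, 11, 11, 13, 12], 47, false, [2, 5, 3, 6, 5, 6]⟩, ⟨[], 47, true, [5, 6, 1, 10, 5, 6, 2]⟩, ⟨[], 7, true, [1, 2, 3, 6, 2, 4, 5, 6, 2]⟩],
  [⟨[], 7, false, []⟩, ⟨[14, 11, 11, 13, 12], 47, false, [2, 5, 3, 6, 5, 3, 6]⟩, ⟨[], 47, true, [4, 5, 6, 1, 4, 6, 4, 5, 3, 5]⟩, ⟨[], 7, true, [5, 3, 6, 1, 4, 5]⟩],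
  [⟨[], 7, false, []⟩, ⟨[14, 11, 11, 13, 12], 47, false, [2, 5, 3, 6, 5, 3, 6]⟩, ⟨[], 47, true, [5, 6, 1, 10, 5, 6, 2, 10]⟩, ⟨[], 7, true, [1, 2, 3, 6, 2, 4, 5, 6, 2]⟩],
  [⟨[], 7, false, []⟩, ⟨[14, 11, 11, 13, 12], 47, false, [2, 5, 3, 6, 5, 3, 6]⟩, ⟨[], 47, true, [5, 6, 1, 10, 5, 6, 2, 10]⟩, ⟨[], 7, true, [1, 2, 3, 6, 2, 4, 5, 6, 2]⟩],
  [⟨[], 7, false, []⟩, ⟨[], 7, true, [6, 4, 6, 2, 6, 4]⟩],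
  [⟨[], 7, false, []⟩, ⟨[], 7, true, [6, 4, 6, 2, 6, 4]⟩],
  [⟨[], 7, false, []⟩, ⟨[14, 11, 11, 11, 11, 13, 12], 47, false, [2, 5, 3, 6, 5, 3, 6, 5, 3]⟩, ⟨[], 47, true, [1, 5, 10, 5, 6, 5, 3, 6, 5]⟩, ⟨[], 7, true, [1, 2, 6, 4, 5, 10, 5, 6, 2]⟩],
  [⟨[], 7, false, []⟩, ⟨[], 7, true, [6, 4, 6, 2, 6, 4]⟩],
  [⟨[], 7, false, []⟩, ⟨[], 7, true, [6, 4, 6, 2, 6, 4]⟩],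
  [⟨[], 7, false, []⟩, ⟨[], 7, true, [6, 4, 6, 2, 6, 4]⟩],
  [⟨[], 7, false, []⟩, ⟨[14, 11, 11, 13, 12], 47, false, [2, 5, 3, 6, 5, 6, 2]⟩, ⟨[], 47, true, [1, 5, 6, 4, 10, 5, 6, 2, 6, 4]⟩, ⟨[], 7, true, [1, 2, 3, 5, 6, 4, 6, 5, 6]⟩],
  [⟨[], 7, false, []⟩, ⟨[14, 11, 11, 13, 12], 47, false, [2, 5, 3, 6, 5, 6, 2]⟩, ⟨[], 47, true, [5, 6, 1, 10, 5, 6]⟩, ⟨[], 7, true, [1, 2, 3, 6, 2, 4, 5, 6, 2]⟩],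
  [⟨[], 7, false, []⟩, ⟨[14, 11, 11, 13, 12], 47, false, [2, 5, 3, 6, 5, 6, 2]⟩, ⟨[], 47, true, [5, 6, 1, 10, 5, 6]⟩, ⟨[], 7, true, [1, 2, 3, 6, 2, 4, 5, 6, 2]⟩],
  [⟨[], 7, false, []⟩, ⟨[14, 11, 11, 13, 12], 47, false, [2, 5, 3, 6, 5, 3, 6, 2]⟩, ⟨[], 47, true, [5, 6, 1, 10, 5, 6, 10]⟩, ⟨[], 7, true, [1, 2, 3, 6, 2, 4, 5, 6, 2]⟩],
  [⟨[], 7, false, []⟩, ⟨[14, 11, 11, 13, 12], 47, false, [2, 5, 3, 6, 5, 3, 6, 2]⟩, ⟨[], 47, true, [5, 6, 1, 10, 5, 6, 10]⟩, ⟨[], 7, true, [1, 2, 3, 6, 2, 4, 5, 6, 2]⟩],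
  [⟨[], 7, false, []⟩, ⟨[14, 11, 11, 13, 12], 47, false, [2, 5, 3, 6, 5, 3, 6, 2]⟩, ⟨[], 47, true, [5, 6, 1, 10, 5, 6, 10]⟩, ⟨[], 7, true, [1, 2, 3, 6, 2, 4, 5, 6, 2]⟩],
  [⟨[], 7, false, []⟩, ⟨[14, 11, 11, 13, 12], 47, false, [2, 5, 3, 6, 5, 3, 6, 2]⟩, ⟨[], 47, true, [5, 6, 1, 10, 5, 6, 10]⟩, ⟨[], 7, true, [1, 2, 3, 6, 2, 4, 5, 6, 2]⟩],
  [⟨[], 7, false, []⟩, ⟨[], 7, true, [6, 4, 6, 2, 6, 4]⟩],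
  [⟨[], 7, false, []⟩, ⟨[], 7, true, [6, 4, 6, 2, 6, 4]⟩],
  [⟨[], 7, false, []⟩, ⟨[10], 40, false, [2, 4, 6, 4, 6, 4, 6, 10]⟩, ⟨[], 40, true, [3, 4, 6, 4, 6, 4, 6, 2]⟩, ⟨[], 7, true, [2, 6, 4, 6, 2, 6, 4]⟩],
  [⟨[], 7, false, []⟩, ⟨[10], 40, false, [2, 4, 6, 4, 6, 4, 6, 10]⟩, ⟨[44, 44, 44, 44, 44, 52, 52, 52, 52, 52, 52, 52, 52, 52, 52, 52, 52, 52, 52, 52, 52], 48, false, [1, 10, 5, 6, 5, 6, 2, 6]⟩, ⟨[42, 42, 42, 42, 42], 48, false, [0, 2, 4, 5, 6, 2, 5, 3, 6, 4, 6]⟩, ⟨[52, 52, 52, 52, 52, 52, 52, 52, 42, 42, 42, 42, 42], 40, true, [6, 4, 6, 10, 5, 6, 2, 4]⟩, ⟨[], 7, true, [2, 6, 4, 6, 4, 10, 5, 6, 4]⟩],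
  [⟨[], 7, false, []⟩, ⟨[10], 40, false, [2, 4, 6, 4, 6, 4, 6, 10]⟩, ⟨[52, 52, 52, 52, 52, 52, 52, 52, 52, 52, 52, 52, 52, 52, 52, 52], 48, false, [1, 4, 6, 10, 5, 3, 6, 2, 4, 6]⟩, ⟨[42, 42, 42, 42, 42], 48, false, [4, 5, 6, 4, 5, 6, 2, 4]⟩, ⟨[52, 52, 52, 52, 52, 52, 52, 52, 42, 42, 42, 42, 42], 40, true, [0, 4, 6, 4, 10, 5, 6, 2, 4, 10]⟩, ⟨[], 7, true, [1, 6, 2, 4, 6, 10, 5, 3, 6, 4, 6]⟩],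
  [⟨[], 7, false, []⟩, ⟨[10], 40, false, [2, 4, 6, 4, 6, 4, 6, 10]⟩, ⟨[52, 52, 52, 52, 52, 52, 52, 52, 52, 52, 52, 52, 52, 52, 52, 52], 48, false, [1, 4, 6, 4, 5, 3, 5, 6, 2, 4]⟩, ⟨[42, 42, 42, 42, 42], 48, false, [0, 4, 6, 5, 6, 2, 4, 5, 10]⟩, ⟨[52, 52, 52, 52, 52, 52, 52, 52, 42, 42, 42, 42, 42], 40, true, [1, 3, 4, 6, 5, 6, 2, 4]⟩, ⟨[], 7, true, [0, 6, 2, 4, 6, 5, 6, 4]⟩],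
  [⟨[], 7, false, []⟩, ⟨[14, 11, 11, 13, 12], 47, false, [0, 10, 5, 6, 10, 5, 3, 6]⟩, ⟨[], 47, true, [0, 6, 5, 3, 5, 6, 2, 5, 6]⟩, ⟨[], 7, true, [0, 6, 4, 5, 6, 5, 3, 5, 6]⟩],
  [⟨[], 7, false, []⟩, ⟨[14, 11, 11, 13, 12], 47, false, [0, 10, 5, 6, 10, 5, 3, 6]⟩, ⟨[], 47, true, [1, 5, 10, 5, 6, 5, 6, 2, 10]⟩, ⟨[], 7, true, [1, 2, 3, 6, 2, 4, 5, 6, 2]⟩],
  [⟨[], 7, false, []⟩, ⟨[10], 40, false, [4, 5, 6, 4, 6, 4, 6, 10, 5]⟩, ⟨[], 40, true, [0, 10, 5, 6, 2, 10]⟩, ⟨[], 7, true, [2, 4, 6, 4, 6, 4, 5, 6, 5]⟩]]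

/-- images of the cosets under letter 6 -/
def cosetImg6 : List ℕ := [0, 2, 1, 8, 6, 5, 4, 14, 3, 25, 23, 18, 17, 15, 7, 13, 16, 12, 11, 38, 31, 30, 22, 10, 56, 9, 59, 35, 33, 63, 21, 20, 72, 28, 75, 27, 36, 80, 19, 39, 82, 73, 84, 76, 71, 70, 88, 57, 67, 66, 53, 51, 95, 50, 54, 104, 24, 47, 91, 26, 93, 103, 99, 29, 101, 107, 49, 48, 116, 115, 45, 44, 32, 41, 79, 34, 43, 109, 98, 74, 37, 85, 40, 119, 42, 81, 97, 100, 46, 113, 108, 58, 102, 60, 110, 52, 117, 86, 78, 62, 87, 64, 92, 61, 55, 118, 114, 65, 90, 77, 94, 112, 111, 89, 106, 69, 68, 96, 105, 83]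

/-- traces for letter 6 -/
def cosetUses6 : List (List Use) := [
  [],
  [⟨[], 7, false, []⟩, ⟨[], 7, true, [0, 1]⟩],
  [⟨[], 7, false, []⟩, ⟨[], 7, true, [0, 1]⟩],
  [⟨[], 7, false, []⟩, ⟨[], 7, true, [0, 1]⟩],
  [⟨[], 7, false, []⟩, ⟨[], 7, true, [0, 1]⟩],
  [⟨[], 7, false, []⟩, ⟨[], 7, true, [0, 1, 2]⟩],
  [⟨[], 7, false, []⟩, ⟨[], 7, true, [0, 1]⟩],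
  [⟨[], 7, false, []⟩, ⟨[10], 40, false, [2, 4, 6, 4, 6, 4, 6, 10]⟩, ⟨[42, 42, 42, 42, 42, 42, 42, 42, 42, 42], 40, true, [5, 6, 5, 3, 5, 6, 5, 3, 6]⟩, ⟨[], 7, true, [2, 3, 5, 6, 5, 3, 6, 5, 6, 5]⟩],
  [⟨[], 7, false, []⟩, ⟨[], 7, true, [0, 1]⟩],
  [⟨[], 7, false, []⟩, ⟨[], 7, true, [0, 1]⟩],
  [⟨[], 7, false, []⟩, ⟨[], 7, true, [0, 1]⟩],
  [⟨[], 7, false, []⟩, ⟨[], 7, true, [0, 1]⟩],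
  [⟨[], 7, false, []⟩, ⟨[], 7, true, [0, 1]⟩],
  [⟨[], 7, false, []⟩, ⟨[], 7, true, [0, 1, 2]⟩],
  [⟨[], 7, false, []⟩, ⟨[10], 40, false, [4, 6, 1, 4, 6, 4, 6, 10]⟩, ⟨[42, 42, 42, 42, 42], 40, true, [1, 6, 2, 6, 4, 6, 10, 5, 3, 6, 4]⟩, ⟨[], 7, true, [2, 3, 5, 6, 4, 5, 6, 2, 5, 6, 4]⟩],
  [⟨[], 7, false, []⟩, ⟨[], 7, true, [0, 1, 2]⟩],
  [⟨[], 7, false, []⟩, ⟨[], 7, true, [0, 1, 3, 5, 10]⟩],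
  [⟨[], 7, false, []⟩, ⟨[], 7, true, [0, 1]⟩],
  [⟨[], 7, false, []⟩, ⟨[], 7, true, [0, 1]⟩],
  [⟨[], 7, false, []⟩, ⟨[14, 11, 11, 13, 10, 12, 11, 11], 54, false, [0, 2, 4, 6, 4, 6, 5, 6, 5, 10]⟩, ⟨[], 7, true, [1, 2, 3, 6, 4, 6, 2, 5, 6, 2]⟩],
  [⟨[], 7, false, []⟩, ⟨[10], 40, false, [2, 4, 6, 4, 6, 4, 6, 10]⟩, ⟨[42, 42, 42, 42, 42, 42, 42, 42, 42, 42], 40, true, [5, 6, 5, 3, 5, 6, 5, 3, 6]⟩, ⟨[], 7, true, [2, 3, 5, 6, 5, 3, 6, 5, 6, 5]⟩],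
  [⟨[], 7, false, []⟩, ⟨[10], 40, false, [2, 4, 6, 4, 6, 4, 6, 10]⟩, ⟨[42, 42, 42, 42, 42, 42, 42, 42, 42, 42], 40, true, [5, 6, 5, 3, 5, 6, 5, 3, 6]⟩, ⟨[], 7, true, [2, 3, 5, 6, 5, 3, 6, 5, 6, 5]⟩],
  [⟨[], 7, false, []⟩, ⟨[], 7, true, [0, 1, 2, 10, 5, 3]⟩],
  [⟨[], 7, false, []⟩, ⟨[], 7, true, [0, 1]⟩],
  [⟨[], 7, false, []⟩, ⟨[14, 11, 11, 13, 12], 47, false, [2, 5, 3, 6, 5, 3, 6, 2]⟩, ⟨[], 47, true, [0, 5, 6, 10, 5, 6, 10]⟩, ⟨[], 7, true, [1, 2, 3, 4, 6, 4, 6, 5]⟩],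
  [⟨[], 7, false, []⟩, ⟨[], 7, true, [0, 1]⟩],
  [⟨[], 7, false, []⟩, ⟨[], 7, true, [0, 1]⟩],
  [⟨[], 7, false, []⟩, ⟨[], 7, true, [0, 1, 2]⟩],
  [⟨[], 7, false, []⟩, ⟨[], 7, true, [0, 1, 2]⟩],
  [⟨[], 7, false, []⟩, ⟨[14, 11, 11, 13, 12], 54, false, [5, 3, 6, 4, 6, 5, 6, 2, 6]⟩, ⟨[], 54, false, [0, 3, 6, 5, 3, 6, 2, 6, 4]⟩, ⟨[], 7, true, [2, 6, 2, 6, 5, 3, 6, 2, 4, 5, 6]⟩],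
  [⟨[], 7, false, []⟩, ⟨[10], 40, false, [4, 6, 1, 4, 6, 4, 6, 10]⟩, ⟨[42, 42, 42, 42, 42], 40, true, [1, 6, 2, 6, 4, 6, 10, 5, 3, 6, 4]⟩, ⟨[], 7, true, [2, 3, 5, 6, 4, 5, 6, 2, 5, 6, 4]⟩],
  [⟨[], 7, false, []⟩, ⟨[10], 40, false, [4, 6, 1, 4, 6, 4, 6, 10]⟩, ⟨[42, 42, 42, 42, 42], 40, true, [1, 6, 2, 6, 4, 6, 10, 5, 3, 6, 4]⟩, ⟨[], 7, true, [2, 3, 5, 6, 4, 5, 6, 2, 5, 6, 4]⟩],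
  [⟨[], 7, false, []⟩, ⟨[], 7, true, [0, 1]⟩],
  [⟨[], 7, false, []⟩, ⟨[], 7, true, [0, 1, 2]⟩],
  [⟨[], 7, false, []⟩, ⟨[14, 11, 11, 13, 12], 47, false, [0, 10, 5, 6, 10, 5, 3, 6]⟩, ⟨[], 47, true, [5, 10, 5, 6, 5, 6, 2, 10]⟩, ⟨[], 7, true, [1, 2, 3, 4, 6, 4, 6, 5]⟩],
  [⟨[], 7, false, []⟩, ⟨[], 7, true, [0, 1, 2]⟩],
  [⟨[], 7, false, []⟩, ⟨[], 7, true, [0, 1, 3, 5, 10]⟩],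
  [⟨[], 7, false, []⟩, ⟨[14, 11, 11, 13, 12], 54, false, [0, 2, 4, 6, 4, 6, 5, 3, 6, 2]⟩, ⟨[], 54, false, [2, 3, 5, 6, 2, 6, 5, 3, 6, 4]⟩, ⟨[], 7, true, [2, 6, 2, 6, 5, 3, 6, 2, 4, 5, 6]⟩],
  [⟨[], 7, false, []⟩, ⟨[14, 11, 11, 13, 12], 54, false, [0, 2, 4, 6, 4, 6, 5, 3, 6]⟩, ⟨[], 7, true, [0, 6, 2, 4, 6, 10, 5]⟩],
  [⟨[], 7, false, []⟩, ⟨[], 7, true, [0, 1, 3, 5, 10]⟩],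
  [⟨[], 7, false, []⟩, ⟨[14, 11, 11, 13, 10, 12, 11, 11], 54, false, [0, 2, 4, 6, 4, 6, 5, 6, 5, 3]⟩, ⟨[], 7, true, [1, 2, 6, 4, 6, 5, 10, 5, 6, 2]⟩],
  [⟨[], 7, false, []⟩, ⟨[14, 13, 11, 11, 13, 12, 11, 11, 11, 11], 54, false, [0, 2, 4, 6, 4, 6, 5, 6, 5]⟩, ⟨[], 7, true, [1, 2, 3, 6, 4, 6, 2, 5, 6, 2]⟩],
  [⟨[], 7, false, []⟩, ⟨[14, 11, 11, 13, 10, 12, 11, 11], 54, false, [0, 2, 4, 6, 4, 6, 5, 6, 5, 10]⟩, ⟨[], 7, true, [1, 2, 3, 6, 4, 6, 2, 5, 6, 2]⟩],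
  [⟨[], 7, false, []⟩, ⟨[14, 11, 11, 13, 12], 47, false, [0, 10, 5, 6, 10, 5, 3, 6]⟩, ⟨[42, 42, 42, 42, 42, 42, 42, 42, 42, 42], 40, true, [2, 4, 6, 5, 6, 2, 4]⟩, ⟨[], 7, true, [3, 6, 2, 4, 5, 6, 2, 6, 4, 5]⟩],
  [⟨[], 7, false, []⟩, ⟨[10], 40, false, [2, 4, 6, 4, 6, 4, 6, 10]⟩, ⟨[42, 42, 42, 42, 42, 42, 42, 42, 42, 42], 40, true, [5, 6, 5, 3, 5, 6, 5, 3, 6]⟩, ⟨[], 7, true, [2, 3, 5, 6, 5, 3, 6, 5, 6, 5]⟩],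
  [⟨[], 7, false, []⟩, ⟨[10], 40, false, [2, 4, 6, 4, 6, 4, 6, 10]⟩, ⟨[42, 42, 42, 42, 42, 42, 42, 42, 42, 42], 40, true, [5, 6, 5, 3, 5, 6, 5, 3, 6]⟩, ⟨[], 7, true, [2, 3, 5, 6, 5, 3, 6, 5, 6, 5]⟩],
  [⟨[], 7, false, []⟩, ⟨[10], 40, false, [4, 6, 1, 4, 6, 4, 6, 10]⟩, ⟨[52, 52, 52, 52, 52, 52, 52, 52, 52, 52, 52, 52, 52, 52, 52, 52], 48, false, [0, 5, 3, 6, 2, 6, 5, 6, 2]⟩, ⟨[42, 42, 42, 42, 42], 48, false, [5, 6, 10, 5, 3, 6, 5, 6, 10]⟩, ⟨[52, 52, 52, 52, 52, 52, 52, 52, 42, 42, 42, 42, 42], 40, true, [1, 4, 6, 4, 10, 5, 6, 4, 10]⟩, ⟨[], 7, true, [0, 2, 4, 6, 4, 10, 5, 3, 6, 4]⟩],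
  [⟨[], 7, false, []⟩, ⟨[14, 11, 11, 13, 12], 47, false, [2, 5, 3, 6, 5, 3, 6, 2]⟩, ⟨[52, 52, 52, 52, 52, 52, 52, 52, 42, 42, 42, 42, 42], 40, true, [0, 2, 5, 6, 10, 5, 6, 10, 5]⟩, ⟨[], 7, true, [0, 5, 6, 10, 5, 6, 10, 5, 6, 10]⟩],
  [⟨[], 7, false, []⟩, ⟨[10], 40, false, [2, 4, 6, 4, 6, 4, 6, 10]⟩, ⟨[42, 42, 42, 42, 42, 42, 42, 42, 42, 42], 40, true, [5, 6, 5, 3, 5, 6, 5, 3, 6]⟩, ⟨[], 7, true, [2, 3, 5, 6, 5, 3, 6, 5, 6, 5]⟩],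
  [⟨[], 7, false, []⟩, ⟨[10], 40, false, [2, 4, 6, 4, 6, 4, 6, 10]⟩, ⟨[42, 42, 42, 42, 42, 42, 42, 42, 42, 42], 40, true, [5, 6, 5, 3, 5, 6, 5, 3, 6]⟩, ⟨[], 7, true, [2, 3, 5, 6, 5, 3, 6, 5, 6, 5]⟩],
  [⟨[], 7, false, []⟩, ⟨[], 7, true, [0, 1, 2, 10, 5, 3]⟩],
  [⟨[], 7, false, []⟩, ⟨[], 7, true, [0, 1, 2, 10, 5, 3]⟩],
  [⟨[], 7, false, []⟩, ⟨[14, 11, 11, 13, 12], 47, false, [2, 5, 3, 6, 5, 3, 6]⟩, ⟨[], 47, true, [0, 5, 6, 10, 5, 6, 2, 10]⟩, ⟨[], 7, true, [1, 2, 3, 4, 6, 4, 6, 5]⟩],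
  [⟨[], 7, false, []⟩, ⟨[], 7, true, [0, 1, 2, 10, 5, 3]⟩],
  [⟨[], 7, false, []⟩, ⟨[], 7, true, [0, 1, 2, 10, 5, 3]⟩],
  [⟨[], 7, false, []⟩, ⟨[14, 11, 11, 13, 12], 47, false, [2, 5, 3, 6, 5, 6, 2]⟩, ⟨[], 47, true, [0, 5, 6, 10, 5, 6]⟩, ⟨[], 7, true, [1, 2, 3, 4, 6, 4, 6, 5]⟩],
  [⟨[], 7, false, []⟩, ⟨[14, 11, 11, 13, 12], 47, false, [2, 5, 3, 6, 5, 3, 6, 2]⟩, ⟨[], 47, true, [0, 5, 6, 10, 5, 6, 10]⟩, ⟨[], 7, true, [1, 2, 3, 4, 6, 4, 6, 5]⟩],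
  [⟨[], 7, false, []⟩, ⟨[10], 40, false, [4, 6, 1, 4, 6, 4, 6, 10]⟩, ⟨[44, 44, 44, 44, 44, 52, 52, 52, 52, 52, 52, 52, 52, 52, 52, 52, 52, 52, 52, 52, 52], 47, true, [0, 2, 10, 5, 6, 5, 10, 5]⟩, ⟨[], 7, true, [6, 4, 6, 5, 6, 5, 3, 5]⟩],
  [⟨[], 7, false, []⟩, ⟨[10], 40, false, [4, 5, 6, 4, 6, 4, 6, 10]⟩, ⟨[52, 52, 52, 52, 52, 52, 52, 52, 52, 52, 52, 52, 52, 52, 52, 52], 47, true, [6, 2, 5, 6, 10, 5, 6, 2, 10]⟩, ⟨[], 7, true, [3, 6, 4, 5, 10, 5, 6, 5, 3, 6]⟩],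
  [⟨[], 7, false, []⟩, ⟨[], 7, true, [0, 1]⟩],
  [⟨[], 7, false, []⟩, ⟨[], 7, true, [0, 1, 2, 10, 5]⟩],
  [⟨[], 7, false, []⟩, ⟨[], 7, true, [0, 1, 2, 10, 5]⟩],
  [⟨[], 7, false, []⟩, ⟨[], 7, true, [0, 1, 2, 10, 5]⟩],
  [⟨[], 7, false, []⟩, ⟨[14, 11, 11, 13, 12], 54, false, [5, 3, 6, 4, 6, 5, 6, 2, 6]⟩, ⟨[], 54, false, [0, 3, 6, 5, 3, 6, 2, 6, 4]⟩, ⟨[], 7, true, [2, 6, 2, 6, 5, 3, 6, 2, 4, 5, 6]⟩],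
  [⟨[], 7, false, []⟩, ⟨[14, 10, 12, 11, 11, 11, 11], 54, false, [0, 3, 6, 5, 3, 6, 5, 6, 4, 6]⟩, ⟨[], 7, true, [1, 2, 3, 6, 4, 6, 2, 5, 6, 2]⟩],
  [⟨[], 7, false, []⟩, ⟨[14, 11, 11, 13, 12], 47, false, [2, 5, 3, 6, 5, 3, 6, 2]⟩, ⟨[52, 52, 52, 52, 52, 52, 52, 52, 42, 42, 42, 42, 42, 42, 42, 42, 42, 42], 40, true, [1, 2, 6, 4, 6, 5, 6, 4]⟩, ⟨[], 7, true, [3, 4, 5, 6, 2, 6, 2, 4, 5, 6]⟩],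
  [⟨[], 7, false, []⟩, ⟨[10], 40, false, [4, 6, 1, 4, 6, 4, 6, 10]⟩, ⟨[42, 42, 42, 42, 42], 40, true, [1, 6, 2, 6, 4, 6, 10, 5, 3, 6, 4]⟩, ⟨[], 7, true, [2, 3, 5, 6, 4, 5, 6, 2, 5, 6, 4]⟩],
  [⟨[], 7, false, []⟩, ⟨[10], 40, false, [4, 6, 1, 4, 6, 4, 6, 10]⟩, ⟨[42, 42, 42, 42, 42], 40, true, [1, 6, 2, 6, 4, 6, 10, 5, 3, 6, 4]⟩, ⟨[], 7, true, [2, 3, 5, 6, 4, 5, 6, 2, 5, 6, 4]⟩],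
  [⟨[], 7, false, []⟩, ⟨[10], 40, false, [2, 4, 6, 4, 6, 4, 6, 10]⟩, ⟨[52, 52, 52, 52, 52, 52, 52, 52, 52, 52, 52, 52, 52, 52, 52, 52], 48, false, [1, 4, 6, 4, 5, 3, 5, 6, 2, 4]⟩, ⟨[42, 42, 42, 42, 42], 48, false, [4, 5, 6, 1, 4, 5, 6, 2, 4, 10]⟩, ⟨[52, 52, 52, 52, 52, 52, 52, 52, 42, 42, 42, 42, 42], 40, true, [1, 4, 6, 4, 10, 5, 6, 2, 4, 10]⟩, ⟨[], 7, true, [0, 2, 4, 6, 4, 10, 5, 3, 6, 4]⟩],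
  [⟨[], 7, false, []⟩, ⟨[10], 40, false, [2, 4, 6, 4, 6, 4, 6, 10]⟩, ⟨[52, 52, 52, 52, 52, 52, 52, 52, 52, 52, 52, 52, 52, 52, 52, 52], 48, false, [1, 4, 6, 10, 5, 3, 6, 2, 4, 6]⟩, ⟨[42, 42, 42, 42, 42, 52, 52, 52, 52, 52, 52, 52, 52, 52, 52, 52, 52, 52, 52, 52, 52], 40, true, [6, 2, 6, 10, 5, 6, 5, 3]⟩, ⟨[], 7, true, [3, 5, 6, 2, 5]⟩],
  [⟨[], 7, false, []⟩, ⟨[10], 40, false, [4, 6, 1, 4, 6, 4, 6, 10]⟩, ⟨[42, 42, 42, 42, 42], 40, true, [1, 6, 2, 6, 4, 6, 10, 5, 3, 6, 4]⟩, ⟨[], 7, true, [2, 3, 5, 6, 4, 5, 6, 2, 5, 6, 4]⟩],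
  [⟨[], 7, false, []⟩, ⟨[10], 40, false, [4, 6, 1, 4, 6, 4, 6, 10]⟩, ⟨[42, 42, 42, 42, 42], 40, true, [1, 6, 2, 6, 4, 6, 10, 5, 3, 6, 4]⟩, ⟨[], 7, true, [2, 3, 5, 6, 4, 5, 6, 2, 5, 6, 4]⟩],
  [⟨[], 7, false, []⟩, ⟨[], 7, true, [0, 1]⟩],
  [⟨[], 7, false, []⟩, ⟨[14, 11, 11, 13, 12], 54, false, [0, 2, 4, 6, 4, 6, 5, 6]⟩, ⟨[], 7, true, [0, 6, 2, 4, 6, 10, 5, 3]⟩],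
  [⟨[], 7, false, []⟩, ⟨[], 7, true, [0, 1, 3, 5]⟩],
  [⟨[], 7, false, []⟩, ⟨[14, 11, 11, 13, 12], 47, false, [0, 10, 5, 6, 10, 5, 3, 6]⟩, ⟨[], 47, true, [5, 10, 5, 6, 5, 6, 2, 10]⟩, ⟨[], 7, true, [1, 2, 3, 4, 6, 4, 6, 5]⟩],
  [⟨[], 7, false, []⟩, ⟨[10], 40, false, [4, 6, 1, 4, 6, 4, 6, 10]⟩, ⟨[44, 44, 44, 44, 44, 44, 44, 44, 44, 44, 42, 42, 42, 42, 42], 47, true, [2, 4, 5, 3, 6, 4, 5, 6, 4]⟩, ⟨[], 7, true, [1, 4, 5, 3, 6, 4, 5, 6]⟩],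
  [⟨[], 7, false, []⟩, ⟨[14, 11, 11, 13, 12], 47, false, [2, 5, 3, 6, 5, 3, 6, 2]⟩, ⟨[44, 44, 44, 44, 44, 52, 52, 52, 52, 52, 52, 52, 52, 52, 52, 52, 52, 52, 52, 52, 52], 47, true, [0, 2, 3, 6, 5, 6, 10, 5, 3, 6, 5, 6]⟩, ⟨[], 7, true, [2, 3, 5, 6, 4, 6, 2, 5, 6, 2]⟩],
  [⟨[], 7, false, []⟩, ⟨[14, 12], 54, false, [0, 6, 4, 6, 5, 6, 2, 5, 6]⟩, ⟨[], 7, true, [1, 2, 3, 6, 4, 6, 2, 5, 6, 2]⟩],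
  [⟨[], 7, false, []⟩, ⟨[], 7, true, [0, 1, 5, 10]⟩],
  [⟨[], 7, false, []⟩, ⟨[14, 11, 11, 13, 12], 54, false, [0, 2, 4, 6, 4, 6, 5, 3, 6, 2]⟩, ⟨[], 54, false, [2, 3, 5, 6, 2, 6, 5, 3, 6, 4]⟩, ⟨[], 7, true, [2, 6, 2, 6, 5, 3, 6, 2, 4, 5, 6]⟩],
  [⟨[], 7, false, []⟩, ⟨[14, 12], 54, false, [5, 10, 5, 6, 2, 4, 5, 6, 5]⟩, ⟨[], 7, true, [1, 2, 3, 6, 4, 6, 2, 5, 6, 2]⟩],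
  [⟨[], 7, false, []⟩, ⟨[14, 11, 11, 11, 11, 13, 12], 54, false, [0, 2, 4, 6, 4, 6, 5, 6, 10]⟩, ⟨[], 7, true, [0, 6, 2, 4, 6, 10, 5]⟩],
  [⟨[], 7, false, []⟩, ⟨[10], 40, false, [4, 5, 6, 4, 6, 4, 6, 10, 5]⟩, ⟨[], 40, true, [0, 4, 5, 3, 6, 4, 6, 4, 6, 5]⟩, ⟨[], 7, true, [0, 1, 2]⟩],
  [⟨[], 7, false, []⟩, ⟨[14, 11, 11, 13, 12], 54, false, [0, 2, 4, 6, 4, 6, 5, 3, 6]⟩, ⟨[], 7, true, [0, 6, 2, 4, 6, 10, 5]⟩],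
  [⟨[], 7, false, []⟩, ⟨[14, 11, 11, 13, 12], 54, false, [0, 2, 4, 6, 4, 6, 5, 3, 6, 2]⟩, ⟨[], 7, true, [0, 2, 4, 6, 4]⟩],
  [⟨[], 7, false, []⟩, ⟨[14, 11, 11, 13, 12], 47, false, [2, 5, 3, 6, 5, 3, 6]⟩, ⟨[42, 42, 42, 42, 42], 40, true, [4, 6, 2, 10, 5, 6, 4, 6]⟩, ⟨[], 7, true, [2, 4, 6, 2, 10, 5, 6, 4, 6]⟩],
  [⟨[], 7, false, []⟩, ⟨[14, 11, 11, 11, 11, 13, 12], 47, false, [2, 5, 3, 6, 5, 3, 6, 5, 3]⟩, ⟨[], 40, true, [1, 2, 6, 4, 6, 5, 3, 6, 2, 4, 6]⟩, ⟨[], 7, true, [1, 4, 5, 6, 4, 5, 6, 2, 4, 5]⟩],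
  [⟨[], 7, false, []⟩, ⟨[10], 40, false, [4, 6, 1, 4, 6, 4, 6, 10]⟩, ⟨[52, 52, 52, 52, 52, 52, 52, 52, 52, 52, 52, 52, 52, 52, 52, 52], 48, false, [0, 5, 3, 6, 2, 6, 5, 6, 2]⟩, ⟨[42, 42, 42, 42, 42], 48, false, [5, 6, 10, 5, 3, 6, 5, 6, 10]⟩, ⟨[52, 52, 52, 52, 52, 52, 52, 52, 42, 42, 42, 42, 42], 40, true, [1, 4, 6, 4, 10, 5, 6, 4, 10]⟩, ⟨[], 7, true, [0, 2, 4, 6, 4, 10, 5, 3, 6, 4]⟩],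
  [⟨[], 7, false, []⟩, ⟨[10], 40, false, [2, 4, 6, 4, 6, 4, 6, 10]⟩, ⟨[52, 52, 52, 52, 52, 52, 52, 52, 52, 52, 52, 52, 52, 52, 52, 52, 52, 52, 52, 52, 52, 52, 52, 52], 48, false, [0, 2, 5, 3, 6, 5, 3, 6]⟩, ⟨[52, 52, 52, 52, 52, 52, 52, 52, 42, 42, 42, 42, 42], 40, true, [3, 4, 6, 1, 4, 6, 4, 6]⟩, ⟨[], 7, true, [1, 2]⟩],
  [⟨[], 7, false, []⟩, ⟨[14, 11, 11, 13, 12], 47, false, [2, 5, 3, 6, 5, 3, 6, 2]⟩, ⟨[52, 52, 52, 52, 52, 52, 52, 52, 42, 42, 42, 42, 42], 40, true, [0, 2, 5, 6, 10, 5, 6, 10, 5]⟩, ⟨[], 7, true, [0, 5, 6, 10, 5, 6, 10, 5, 6, 10]⟩],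
  [⟨[], 7, false, []⟩, ⟨[14, 11, 11, 13, 12], 47, false, [2, 5, 3, 6, 5, 3, 6, 2]⟩, ⟨[52, 52, 52, 52, 52, 52, 52, 52, 42, 42, 42, 42, 42], 40, true, [3, 5, 3, 6, 5, 6, 10, 5, 10]⟩, ⟨[], 7, true, [0, 5, 6, 10, 5, 6, 10, 5, 6]⟩],
  [⟨[], 7, false, []⟩, ⟨[], 7, true, [0, 1, 2, 10, 5, 3]⟩],
  [⟨[], 7, false, []⟩, ⟨[], 7, true, [0, 1, 2, 5, 3]⟩],
  [⟨[], 7, false, []⟩, ⟨[14, 11, 11, 13, 12], 47, false, [2, 5, 3, 6, 5, 3, 6, 2]⟩, ⟨[52, 52, 52, 52, 52, 52, 52, 52, 42, 42, 42, 42, 42, 52, 52, 52, 52, 52, 52, 52, 52], 47, true, [4, 6, 4, 6, 2, 4, 5, 6, 10, 5]⟩, ⟨[], 7, true, [2, 5, 3, 6, 4, 5, 6]⟩],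
  [⟨[], 7, false, []⟩, ⟨[14, 11, 11, 13, 12], 47, false, [2, 5, 3, 6, 5, 3, 6]⟩, ⟨[], 47, true, [0, 5, 6, 10, 5, 6, 2, 10]⟩, ⟨[], 7, true, [1, 2, 3, 4, 6, 4, 6, 5]⟩],
  [⟨[], 7, false, []⟩, ⟨[14, 11, 11, 13, 12], 47, false, [0, 10, 5, 6, 10, 5, 3, 6]⟩, ⟨[44, 44, 44, 44, 44, 42, 42, 42, 42, 42], 47, true, [6, 1, 2, 6, 10, 5, 3, 6, 5, 3]⟩, ⟨[], 7, true, [5, 6, 4, 5, 6, 5, 3, 5]⟩],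
  [⟨[], 7, false, []⟩, ⟨[10], 40, false, [4, 6, 1, 4, 6, 4, 6, 10]⟩, ⟨[44, 44, 44, 44, 44, 42, 42, 42, 42, 42, 42, 42, 42, 42, 42], 47, true, [3, 4, 6, 2, 6, 2, 4, 5, 6, 2, 6]⟩, ⟨[], 7, true, [5, 3, 5, 6, 1, 4, 6, 5, 6]⟩],
  [⟨[], 7, false, []⟩, ⟨[14, 11, 11, 13, 12], 54, false, [0, 2, 4, 6, 4, 6, 5, 6, 2]⟩, ⟨[], 7, true, [0, 2, 4, 6, 4]⟩],
  [⟨[], 7, false, []⟩, ⟨[], 7, true, [0, 1, 2, 5, 3]⟩],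
  [⟨[], 7, false, []⟩, ⟨[10], 40, false, [4, 6, 1, 4, 6, 4, 6, 10]⟩, ⟨[], 47, true, [2, 5, 6, 10, 5, 6, 10, 5, 10]⟩, ⟨[], 7, true, [3, 4, 6, 4, 5, 6, 10, 5, 6, 5, 10]⟩],
  [⟨[], 7, false, []⟩, ⟨[14, 11, 11, 13, 12], 54, false, [5, 3, 6, 4, 6, 5, 6, 2, 6]⟩, ⟨[], 7, true, [0, 6, 2, 4, 6, 10]⟩],
  [⟨[], 7, false, []⟩, ⟨[], 7, true, [0, 1, 2, 10, 5, 3]⟩],
  [⟨[], 7, false, []⟩, ⟨[], 7, true, [0, 1, 2, 5, 3]⟩],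
  [⟨[], 7, false, []⟩, ⟨[14, 11, 11, 13, 12], 47, false, [2, 5, 3, 6, 5, 6, 2]⟩, ⟨[], 47, true, [0, 5, 6, 10, 5, 6]⟩, ⟨[], 7, true, [1, 2, 3, 4, 6, 4, 6, 5]⟩],
  [⟨[], 7, false, []⟩, ⟨[14, 11, 11, 13, 12], 47, false, [0, 10, 5, 6, 10, 5, 3, 6]⟩, ⟨[52, 52, 52, 52, 52, 52, 52, 52, 42, 42, 42, 42, 42], 47, true, [3, 5, 3, 6, 2]⟩, ⟨[], 7, true, [0, 10, 5, 6, 4, 10, 5, 6, 2, 6, 2]⟩],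
  [⟨[], 7, false, []⟩, ⟨[10], 40, false, [2, 4, 6, 4, 6, 4, 6, 10]⟩, ⟨[44, 44, 44, 44, 44, 52, 52, 52, 52, 52, 52, 52, 52, 52, 52, 52, 52, 52, 52, 52, 52], 48, false, [1, 10, 5, 6, 5, 6, 2, 6]⟩, ⟨[42, 42, 42, 42, 42, 42, 42, 42, 42, 42], 47, true, [0, 3, 5, 3, 6, 2, 6]⟩, ⟨[], 7, true, [3, 6, 4, 6, 5, 10, 5, 6, 5, 3]⟩],
  [⟨[], 7, false, []⟩, ⟨[10], 40, false, [2, 4, 6, 4, 6, 4, 6, 10]⟩, ⟨[52, 52, 52, 52, 52, 52, 52, 52, 44, 44, 44, 44, 44, 52, 52, 52, 52, 52, 52, 52, 52], 47, true, [2, 3, 6, 4, 6, 2, 6, 4, 5]⟩, ⟨[], 7, true, [1, 2, 5, 3, 6, 2, 4, 5, 6, 2]⟩],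
  [⟨[], 7, false, []⟩, ⟨[10], 40, false, [4, 6, 1, 4, 6, 4, 6, 10]⟩, ⟨[44, 44, 44, 44, 44, 52, 52, 52, 52, 52, 52, 52, 52, 52, 52, 52, 52, 52, 52, 52, 52], 47, true, [0, 2, 10, 5, 6, 5, 10, 5]⟩, ⟨[], 7, true, [6, 4, 6, 5, 6, 5, 3, 5]⟩],
  [⟨[], 7, false, []⟩, ⟨[14, 11, 11, 13, 12], 47, false, [0, 10, 5, 6, 10, 5, 3, 6]⟩, ⟨[52, 52, 52, 52, 52, 52, 52, 52, 42, 42, 42, 42, 42], 47, true, [3, 5, 6, 2]⟩, ⟨[], 7, true, [0, 10, 5, 6, 4, 10, 5, 6, 2, 6, 2]⟩],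
  [⟨[], 7, false, []⟩, ⟨[14, 11, 11, 13, 12], 47, false, [2, 5, 3, 6, 5, 6]⟩, ⟨[52, 52, 52, 52, 52, 52, 52, 52, 42, 42, 42, 42, 42, 42, 42, 42, 42, 42], 47, true, [2, 3, 6, 4, 6, 2, 6, 4, 5, 6]⟩, ⟨[], 7, true, [2, 5, 3, 6, 2, 4, 5, 6, 2]⟩],
  [⟨[], 7, false, []⟩, ⟨[], 7, true, [0, 1, 2, 5, 10]⟩],
  [⟨[], 7, false, []⟩, ⟨[], 7, true, [0, 1, 2, 3, 5]⟩],
  [⟨[], 7, false, []⟩, ⟨[10], 40, false, [4, 6, 1, 4, 6, 4, 6, 10]⟩, ⟨[52, 52, 52, 52, 52, 52, 52, 52, 52, 52, 52, 52, 52, 52, 52, 52], 48, false, [0, 5, 3, 6, 2, 6, 5, 6, 2]⟩, ⟨[42, 42, 42, 42, 42, 42, 42, 42, 42, 42], 40, true, [2, 4, 6, 5, 6, 4, 5, 6, 5]⟩, ⟨[], 7, true, [6, 4, 6, 5, 3, 6, 2, 4, 6]⟩],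
  [⟨[], 7, false, []⟩, ⟨[14, 11, 11, 13, 12], 47, false, [2, 5, 3, 6, 5, 6, 2]⟩, ⟨[42, 42, 42, 42, 42, 42, 42, 42, 42, 42], 48, false, [2, 4, 5, 6, 2, 5, 3, 6, 4]⟩, ⟨[52, 52, 52, 52, 52, 52, 52, 52, 42, 42, 42, 42, 42], 40, true, [4, 6, 4, 10, 5, 6, 4, 6, 2]⟩, ⟨[], 7, true, [6, 2, 6, 4, 6, 10, 5, 6, 4]⟩],
  [⟨[], 7, false, []⟩, ⟨[10], 40, false, [2, 4, 6, 4, 6, 4, 6, 10]⟩, ⟨[42, 42, 42, 42, 42, 52, 52, 52, 52, 52, 52, 52, 52], 48, false, [0, 3, 4, 6, 5, 6, 2, 4, 10, 5]⟩, ⟨[52, 52, 52, 52, 52, 52, 52, 52, 42, 42, 42, 42, 42], 40, true, [0, 3, 6, 5, 6, 2, 6, 5, 6]⟩, ⟨[], 7, true, [4, 6, 1, 5, 6, 2, 4]⟩],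
  [⟨[], 7, false, []⟩, ⟨[10], 40, false, [2, 4, 6, 4, 6, 4, 6, 10]⟩, ⟨[52, 52, 52, 52, 52, 52, 52, 52, 52, 52, 52, 52, 52, 52, 52, 52], 48, false, [1, 4, 6, 4, 5, 3, 5, 6, 2, 4]⟩, ⟨[42, 42, 42, 42, 42], 48, false, [4, 5, 6, 1, 4, 5, 6, 2, 4, 10]⟩, ⟨[52, 52, 52, 52, 52, 52, 52, 52, 42, 42, 42, 42, 42], 40, true, [1, 4, 6, 4, 10, 5, 6, 2, 4, 10]⟩, ⟨[], 7, true, [0, 2, 4, 6, 4, 10, 5, 3, 6, 4]⟩],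
  [⟨[], 7, false, []⟩, ⟨[14, 11, 11, 13, 12], 47, false, [2, 5, 3, 6, 5, 3, 6]⟩, ⟨[52, 52, 52, 52, 52, 52, 52, 52, 52, 52, 52, 52, 52, 52, 52, 52, 52, 52, 52, 52, 52, 52, 52, 52], 47, true, [5, 10, 5, 6, 5, 6, 2, 10]⟩, ⟨[], 7, true, [1, 2, 3, 4, 6, 4, 6, 5]⟩],
  [⟨[], 7, false, []⟩, ⟨[14, 11, 11, 13, 12], 47, false, [2, 5, 3, 6, 5, 6, 2]⟩, ⟨[44, 44, 44, 44, 44, 52, 52, 52, 52, 52, 52, 52, 52, 52, 52, 52, 52, 52, 52, 52, 52], 47, true, [0, 2, 3, 6, 5, 6, 10, 5, 3, 6, 5, 6]⟩, ⟨[], 7, true, [2, 3, 5, 6, 4, 6, 2, 5, 6, 2]⟩],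
  [⟨[], 7, false, []⟩, ⟨[10], 40, false, [4, 5, 6, 4, 6, 4, 6, 10, 5]⟩, ⟨[], 40, true, [0, 4, 5, 3, 6, 4, 6, 4, 6, 5]⟩, ⟨[], 7, true, [0, 1, 2]⟩]]

/-- images of the cosets under letter 8 -/
def cosetImg8 : List ℕ := [0, 1, 5, 3, 4, 2, 16, 14, 22, 9, 10, 11, 12, 26, 7, 32, 6, 39, 36, 37, 43, 47, 8, 51, 52, 54, 13, 29, 61, 27, 65, 69, 15, 42, 48, 74, 18, 19, 62, 17, 81, 78, 33, 20, 46, 86, 44, 21, 34, 77, 73, 23, 24, 98, 25, 94, 83, 107, 90, 72, 111, 28, 38, 79, 112, 30, 113, 96, 97, 31, 116, 106, 59, 50, 35, 117, 115, 49, 41, 63, 99, 40, 92, 56, 103, 102, 45, 91, 114, 109, 58, 87, 82, 101, 55, 119, 67, 68, 53, 80, 108, 93, 85, 84, 105, 104, 71, 57, 100, 89, 118, 60, 64, 66, 88, 76, 70, 75, 110, 95]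

/-- traces for letter 8 -/
def cosetUses8 : List (List Use) := [
  [],
  [⟨[], 7, false, []⟩, ⟨[], 7, true, [0, 1, 2]⟩],
  [⟨[], 7, false, []⟩, ⟨[], 7, true, [0, 1]⟩],
  [⟨[], 7, false, []⟩, ⟨[], 7, true, [0, 1, 2, 10, 5, 3]⟩],
  [⟨[], 7, false, []⟩, ⟨[], 7, true, [0, 1, 3, 5, 10]⟩],
  [⟨[], 7, false, []⟩, ⟨[], 7, true, [0, 1]⟩],
  [⟨[], 7, false, []⟩, ⟨[], 7, true, [0, 1]⟩],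
  [⟨[], 7, false, []⟩, ⟨[10], 40, false, [2, 4, 6, 4, 6, 4, 6, 10]⟩, ⟨[], 40, true, [1, 3, 4, 6, 4, 6, 4, 6]⟩, ⟨[], 7, true, [0, 1, 2]⟩],
  [⟨[], 7, false, []⟩, ⟨[], 7, true, [0, 1]⟩],
  [⟨[], 7, false, []⟩, ⟨[], 7, true, [0, 1, 2, 3, 5, 10]⟩],
  [⟨[], 7, false, []⟩, ⟨[], 7, true, [0, 1, 2, 10, 5, 3]⟩],
  [⟨[], 7, false, []⟩, ⟨[], 7, true, [0, 1, 3, 5, 10]⟩],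
  [⟨[], 7, false, []⟩, ⟨[], 7, true, [0, 1, 5]⟩],
  [⟨[], 7, false, []⟩, ⟨[], 7, true, [0, 1]⟩],
  [⟨[], 7, false, []⟩, ⟨[10], 40, false, [4, 6, 1, 4, 6, 4, 6, 10]⟩, ⟨[], 40, true, [0, 2, 3, 4, 6, 4, 6, 4, 6]⟩, ⟨[], 7, true, [0, 1, 2]⟩],
  [⟨[], 7, false, []⟩, ⟨[], 7, true, [0, 1]⟩],
  [⟨[], 7, false, []⟩, ⟨[], 7, true, [0, 1]⟩],
  [⟨[], 7, false, []⟩, ⟨[], 7, true, [0, 1, 3]⟩],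
  [⟨[], 7, false, []⟩, ⟨[], 7, true, [0, 1]⟩],
  [⟨[], 7, false, []⟩, ⟨[14, 11, 11, 13, 12], 54, false, [0, 2, 4, 6, 4, 6, 5, 3, 6, 2]⟩, ⟨[], 54, false, [0, 2, 5, 6, 4, 6, 5, 6, 5, 10]⟩, ⟨[], 7, true, [2, 6, 2, 6, 5, 3, 6, 2, 4, 5, 6]⟩],
  [⟨[], 7, false, []⟩, ⟨[10], 40, false, [4, 6, 1, 4, 6, 4, 6, 10]⟩, ⟨[], 40, true, [1, 3, 4, 6, 4, 6, 4, 6]⟩, ⟨[], 7, true, [0, 1, 2]⟩],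
  [⟨[], 7, false, []⟩, ⟨[10], 40, false, [4, 6, 1, 4, 6, 4, 6, 10]⟩, ⟨[], 40, true, [1, 3, 4, 6, 4, 6, 4, 6]⟩, ⟨[], 7, true, [0, 1, 2]⟩],
  [⟨[], 7, false, []⟩, ⟨[], 7, true, [0, 1]⟩],
  [⟨[], 7, false, []⟩, ⟨[], 7, true, [0, 1]⟩],
  [⟨[], 7, false, []⟩, ⟨[14, 11, 11, 13, 12], 47, false, [2, 5, 3, 6, 5, 3, 6]⟩, ⟨[], 47, true, [0, 5, 6, 10, 5, 6, 10]⟩, ⟨[], 7, true, [1, 2, 3, 4, 6, 4, 6, 5]⟩],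
  [⟨[], 7, false, []⟩, ⟨[], 7, true, [0, 1, 3]⟩],
  [⟨[], 7, false, []⟩, ⟨[], 7, true, [0, 1]⟩],
  [⟨[], 7, false, []⟩, ⟨[14, 11, 11, 13, 12], 54, false, [5, 3, 6, 4, 6, 5, 6, 2, 6]⟩, ⟨[], 7, true, [0, 2, 3, 4, 6, 4, 5, 3]⟩],
  [⟨[], 7, false, []⟩, ⟨[], 7, true, [0, 1]⟩],
  [⟨[], 7, false, []⟩, ⟨[14, 11, 11, 11, 11, 13, 12], 54, false, [0, 3, 6, 5, 3, 6, 5, 6, 4, 6]⟩, ⟨[], 7, true, [1, 2, 3, 6, 4, 6, 2, 5, 6, 2]⟩],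
  [⟨[], 7, false, []⟩, ⟨[10], 40, false, [2, 4, 6, 4, 6, 4, 6, 10]⟩, ⟨[], 40, true, [0, 2, 3, 4, 6, 4, 6, 4, 6]⟩, ⟨[], 7, true, [0, 1, 2]⟩],
  [⟨[], 7, false, []⟩, ⟨[10], 40, false, [2, 4, 6, 4, 6, 4, 6, 10]⟩, ⟨[], 40, true, [0, 2, 3, 4, 6, 4, 6, 4, 6]⟩, ⟨[], 7, true, [0, 1, 2]⟩],
  [⟨[], 7, false, []⟩, ⟨[], 7, true, [0, 1]⟩],
  [⟨[], 7, false, []⟩, ⟨[14, 11, 11, 13, 12], 54, false, [0, 2, 4, 6, 4, 6, 5, 3, 6]⟩, ⟨[], 7, true, [0, 2, 3, 4, 6, 4, 5, 10]⟩],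
  [⟨[], 7, false, []⟩, ⟨[10], 40, false, [4, 6, 1, 4, 6, 4, 6, 10]⟩, ⟨[44, 44, 44, 44, 44, 44, 44, 44, 44, 44, 52, 52, 52, 52, 52, 52, 52, 52], 47, true, [0, 5, 3, 6, 2, 5, 6, 5]⟩, ⟨[], 7, true, [5, 3, 5, 6, 5, 6, 4, 6, 4]⟩],
  [⟨[], 7, false, []⟩, ⟨[], 7, true, [0, 1, 3]⟩],
  [⟨[], 7, false, []⟩, ⟨[], 7, true, [0, 1]⟩],
  [⟨[], 7, false, []⟩, ⟨[14, 11, 11, 13, 12], 54, false, [0, 2, 4, 6, 4, 6, 5, 3, 6]⟩, ⟨[], 54, false, [2, 3, 5, 6, 2, 6, 5, 3, 6, 4]⟩, ⟨[], 7, true, [2, 6, 2, 6, 5, 3, 6, 2, 4, 5, 6]⟩],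
  [⟨[], 7, false, []⟩, ⟨[], 7, true, [0, 1]⟩],
  [⟨[], 7, false, []⟩, ⟨[], 7, true, [0, 1, 10]⟩],
  [⟨[], 7, false, []⟩, ⟨[14, 11, 11, 13, 12], 54, false, [0, 2, 4, 6, 4, 6, 5, 3, 6, 2]⟩, ⟨[], 54, false, [0, 3, 6, 5, 6, 2, 6, 4, 5]⟩, ⟨[], 7, true, [4, 6, 5, 6, 10, 5, 6, 2, 4, 5]⟩],
  [⟨[], 7, false, []⟩, ⟨[14, 11, 11, 13, 12], 54, false, [0, 2, 4, 6, 4, 6, 5, 6, 2]⟩, ⟨[], 54, false, [0, 2, 5, 6, 4, 6, 5, 6, 5]⟩, ⟨[], 7, true, [2, 6, 2, 6, 5, 3, 6, 2, 4, 5, 6]⟩],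
  [⟨[], 7, false, []⟩, ⟨[14, 13, 12], 54, false, [0, 2, 4, 6, 4, 6, 5, 6, 5, 10]⟩, ⟨[], 7, true, [1, 2, 3, 6, 4, 6, 2, 5, 6, 2]⟩],
  [⟨[], 7, false, []⟩, ⟨[10], 40, false, [4, 6, 1, 4, 6, 4, 6, 10]⟩, ⟨[], 40, true, [1, 3, 4, 6, 4, 6, 4, 6]⟩, ⟨[], 7, true, [0, 1, 2]⟩],
  [⟨[], 7, false, []⟩, ⟨[10], 40, false, [4, 6, 1, 4, 6, 4, 6, 10]⟩, ⟨[52, 52, 52, 52, 52, 52, 52, 52, 52, 52, 52, 52, 52, 52, 52, 52], 48, false, [0, 5, 3, 6, 2, 6, 5, 6, 2]⟩, ⟨[52, 52, 52, 52, 52, 52, 52, 52, 42, 42, 42, 42, 42], 40, true, [0, 2, 5, 6, 2, 5, 10]⟩, ⟨[], 7, true, [3, 5, 6, 5, 3, 5, 6, 2, 5]⟩],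
  [⟨[], 7, false, []⟩, ⟨[10], 40, false, [4, 6, 1, 4, 6, 4, 6, 10]⟩, ⟨[], 40, true, [1, 3, 4, 6, 4, 6, 4, 6]⟩, ⟨[], 7, true, [0, 1, 2]⟩],
  [⟨[], 7, false, []⟩, ⟨[10], 40, false, [4, 6, 1, 4, 6, 4, 6, 10]⟩, ⟨[44, 44, 44, 44, 44, 52, 52, 52, 52, 52, 52, 52, 52, 52, 52, 52, 52, 52, 52, 52, 52], 48, false, [1, 6, 2, 6, 2, 10, 5, 6]⟩, ⟨[52, 52, 52, 52, 52, 52, 52, 52, 42, 42, 42, 42, 42], 40, true, [5, 6, 4, 6, 2, 6, 4, 5, 3]⟩, ⟨[], 7, true, [1, 4, 5, 6, 4, 6, 2, 4, 5]⟩],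
  [⟨[], 7, false, []⟩, ⟨[10], 40, false, [4, 6, 1, 4, 6, 4, 6, 10]⟩, ⟨[], 40, true, [1, 3, 4, 6, 4, 6, 4, 6]⟩, ⟨[], 7, true, [0, 1, 2]⟩],
  [⟨[], 7, false, []⟩, ⟨[14, 11, 11, 13, 12], 47, false, [0, 10, 5, 6, 10, 5, 3, 6]⟩, ⟨[52, 52, 52, 52, 52, 52, 52, 52, 52, 52, 52, 52, 52, 52, 52, 52, 42, 42, 42, 42, 42], 40, true, [0, 4, 6, 4, 10, 5, 6, 4]⟩, ⟨[], 7, true, [1, 6, 2, 4, 6, 10, 5, 6, 4, 6]⟩],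
  [⟨[], 7, false, []⟩, ⟨[14, 11, 11, 13, 12], 47, false, [0, 10, 5, 6, 10, 5, 3, 6]⟩, ⟨[52, 52, 52, 52, 52, 52, 52, 52, 52, 52, 52, 52, 52, 52, 52, 52, 42, 42, 42, 42, 42], 40, true, [0, 4, 6, 4, 10, 5, 3, 6, 4]⟩, ⟨[], 7, true, [1, 2, 4, 6, 4, 5, 3, 5, 6, 4, 6]⟩],
  [⟨[], 7, false, []⟩, ⟨[], 7, true, [0, 1]⟩],
  [⟨[], 7, false, []⟩, ⟨[], 7, true, [0, 1]⟩],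
  [⟨[], 7, false, []⟩, ⟨[14, 11, 11, 13, 12], 47, false, [2, 5, 3, 6, 5, 3, 6, 2]⟩, ⟨[], 47, true, [0, 5, 6, 10, 5, 6, 2, 10]⟩, ⟨[], 7, true, [1, 2, 3, 4, 6, 4, 6, 5]⟩],
  [⟨[], 7, false, []⟩, ⟨[], 7, true, [0, 1]⟩],
  [⟨[], 7, false, []⟩, ⟨[], 7, true, [0, 1, 10]⟩],
  [⟨[], 7, false, []⟩, ⟨[14, 11, 11, 13, 12], 47, false, [2, 5, 3, 6, 5, 6]⟩, ⟨[], 47, true, [0, 5, 6, 10, 5, 6]⟩, ⟨[], 7, true, [1, 2, 3, 4, 6, 4, 6, 5]⟩],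
  [⟨[], 7, false, []⟩, ⟨[10], 40, false, [4, 5, 6, 4, 6, 4, 6, 10, 5]⟩, ⟨[44, 44, 44, 44, 44, 52, 52, 52, 52, 52, 52, 52, 52, 52, 52, 52, 52, 52, 52, 52, 52], 47, true, [0, 2, 10, 5, 6, 5, 10, 5]⟩, ⟨[], 7, true, [6, 4, 6, 5, 6, 5, 3, 5]⟩],
  [⟨[], 7, false, []⟩, ⟨[14, 11, 11, 13, 12], 47, false, [2, 5, 3, 6, 5, 3, 6, 2]⟩, ⟨[], 47, true, [0, 5, 6, 10, 5, 6, 10]⟩, ⟨[], 7, true, [1, 2, 3, 4, 6, 4, 6, 5]⟩],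
  [⟨[], 7, false, []⟩, ⟨[10], 40, false, [4, 6, 1, 4, 6, 4, 6, 10]⟩, ⟨[52, 52, 52, 52, 52, 52, 52, 52], 47, true, [0, 5, 3, 6, 2, 5, 6, 10, 5, 3]⟩, ⟨[], 7, true, [5, 3, 5, 6, 5, 6, 4, 6, 4]⟩],
  [⟨[], 7, false, []⟩, ⟨[], 7, true, [0, 1, 2]⟩],
  [⟨[], 7, false, []⟩, ⟨[], 7, true, [0, 1]⟩],
  [⟨[], 7, false, []⟩, ⟨[], 7, true, [0, 1]⟩],
  [⟨[], 7, false, []⟩, ⟨[], 7, true, [0, 1]⟩],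
  [⟨[], 7, false, []⟩, ⟨[14, 10, 12], 54, false, [0, 3, 6, 5, 3, 6, 5, 6, 4, 6]⟩, ⟨[], 7, true, [1, 2, 3, 6, 4, 6, 2, 5, 6, 2]⟩],
  [⟨[], 7, false, []⟩, ⟨[14, 13, 12], 54, false, [0, 3, 6, 5, 3, 6, 5, 6, 4, 6]⟩, ⟨[], 7, true, [1, 2, 3, 6, 4, 6, 2, 5, 6, 2]⟩],
  [⟨[], 7, false, []⟩, ⟨[10], 40, false, [2, 4, 6, 4, 6, 4, 6, 10]⟩, ⟨[], 40, true, [0, 2, 3, 4, 6, 4, 6, 4, 6]⟩, ⟨[], 7, true, [0, 1, 2]⟩],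
  [⟨[], 7, false, []⟩, ⟨[10], 40, false, [2, 4, 6, 4, 6, 4, 6, 10]⟩, ⟨[], 40, true, [0, 2, 4, 6, 4, 6, 4, 6, 10]⟩, ⟨[], 7, true, [0, 1, 2, 10]⟩],
  [⟨[], 7, false, []⟩, ⟨[14, 11, 11, 13, 12], 47, false, [2, 5, 3, 6, 5, 3, 6]⟩, ⟨[52, 52, 52, 52, 52, 52, 52, 52, 52, 52, 52, 52, 52, 52, 52, 52, 42, 42, 42, 42, 42], 40, true, [0, 4, 6, 4, 10, 5, 6, 2, 4]⟩, ⟨[], 7, true, [1, 6, 2, 4, 6, 10, 5, 6, 4, 6]⟩],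
  [⟨[], 7, false, []⟩, ⟨[14, 11, 11, 13, 12], 47, false, [2, 5, 3, 6, 5, 3, 6]⟩, ⟨[52, 52, 52, 52, 52, 52, 52, 52], 48, false, [4, 5, 6, 4, 5, 6, 2, 4, 10]⟩, ⟨[52, 52, 52, 52, 52, 52, 52, 52, 42, 42, 42, 42, 42], 40, true, [0, 4, 6, 4, 10, 5, 6, 2, 4, 10]⟩, ⟨[], 7, true, [1, 6, 2, 4, 6, 10, 5, 3, 6, 4, 6]⟩],
  [⟨[], 7, false, []⟩, ⟨[10], 40, false, [2, 4, 6, 4, 6, 4, 6, 10]⟩, ⟨[], 40, true, [0, 2, 3, 4, 6, 4, 6, 4, 6]⟩, ⟨[], 7, true, [0, 1, 2]⟩],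
  [⟨[], 7, false, []⟩, ⟨[10], 40, false, [2, 4, 6, 4, 6, 4, 6, 10]⟩, ⟨[52, 52, 52, 52, 52, 52, 52, 52, 52, 52, 52, 52, 52, 52, 52, 52], 48, false, [1, 4, 6, 4, 5, 3, 5, 6, 2, 4]⟩, ⟨[42, 42, 42, 42, 42, 52, 52, 52, 52, 52, 52, 52, 52, 52, 52, 52, 52, 52, 52, 52, 52], 40, true, [6, 2, 6, 10, 5, 6, 5, 3]⟩, ⟨[], 7, true, [3, 5, 6, 2, 5]⟩],
  [⟨[], 7, false, []⟩, ⟨[14, 11, 11, 13, 12], 47, false, [2, 5, 3, 6, 5, 6, 2]⟩, ⟨[52, 52, 52, 52, 52, 52, 52, 52, 52, 52, 52, 52, 52, 52, 52, 52, 42, 42, 42, 42, 42], 40, true, [0, 4, 6, 4, 10, 5, 6, 2, 4]⟩, ⟨[], 7, true, [1, 6, 2, 4, 6, 10, 5, 6, 4, 6]⟩],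
  [⟨[], 7, false, []⟩, ⟨[], 7, true, [0, 1, 2]⟩],
  [⟨[], 7, false, []⟩, ⟨[], 7, true, [0, 1]⟩],
  [⟨[], 7, false, []⟩, ⟨[], 7, true, [0, 1, 10]⟩],
  [⟨[], 7, false, []⟩, ⟨[14, 11, 11, 13, 12], 47, false, [0, 10, 5, 6, 10, 5, 3, 6]⟩, ⟨[], 47, true, [5, 10, 5, 6, 5, 6, 2, 10]⟩, ⟨[], 7, true, [1, 2, 3, 4, 6, 4, 6, 5]⟩],
  [⟨[], 7, false, []⟩, ⟨[10], 40, false, [2, 4, 6, 4, 6, 4, 6, 10]⟩, ⟨[52, 52, 52, 52, 52, 52, 52, 52, 52, 52, 52, 52, 52, 52, 52, 52], 48, false, [1, 4, 6, 10, 5, 3, 6, 2, 4, 6]⟩, ⟨[44, 44, 44, 44, 44, 52, 52, 52, 52, 52, 52, 52, 52, 52, 52, 52, 52, 52, 52, 52, 52], 47, true, [1, 2, 6, 10, 5, 6, 2, 10, 5, 6]⟩, ⟨[], 7, true, [3, 6, 4, 6, 2, 6, 5, 6, 2]⟩],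
  [⟨[], 7, false, []⟩, ⟨[10], 40, false, [4, 6, 1, 4, 6, 4, 6, 10]⟩, ⟨[52, 52, 52, 52, 52, 52, 52, 52], 47, true, [0, 5, 3, 6, 2, 5, 6, 5]⟩, ⟨[], 7, true, [5, 3, 5, 6, 5, 6, 4, 6, 4]⟩],
  [⟨[], 7, false, []⟩, ⟨[14, 11, 11, 13, 12], 54, false, [0, 2, 4, 6, 4, 6, 5, 6]⟩, ⟨[], 54, false, [0, 2, 5, 6, 4, 6, 5, 6, 2, 5]⟩, ⟨[], 7, true, [2, 6, 2, 6, 5, 3, 6, 2, 4, 5, 6]⟩],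
  [⟨[], 7, false, []⟩, ⟨[14, 11, 11, 13, 12], 54, false, [5, 3, 6, 4, 6, 5, 6, 2, 6]⟩, ⟨[], 7, true, [0, 6, 2, 4, 6]⟩],
  [⟨[], 7, false, []⟩, ⟨[14, 12], 54, false, [5, 10, 5, 6, 2, 4, 5, 6, 5]⟩, ⟨[], 7, true, [1, 2, 3, 6, 4, 6, 2, 5, 6, 2]⟩],
  [⟨[], 7, false, []⟩, ⟨[14, 11, 11, 11, 11, 13, 12], 54, false, [0, 2, 4, 6, 4, 6, 5, 6, 10]⟩, ⟨[], 54, false, [2, 3, 5, 6, 2, 6, 5, 3, 6, 4]⟩, ⟨[], 7, true, [2, 6, 2, 6, 5, 3, 6, 2, 4, 5, 6]⟩],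
  [⟨[], 7, false, []⟩, ⟨[], 7, true, [0, 1, 10]⟩],
  [⟨[], 7, false, []⟩, ⟨[14, 11, 11, 13, 12], 47, false, [2, 5, 3, 6, 5, 3, 6, 2]⟩, ⟨[52, 52, 52, 52, 52, 52, 52, 52, 42, 42, 42, 42, 42], 40, true, [3, 5, 3, 6, 5, 6, 2, 10, 5]⟩, ⟨[], 7, true, [0, 5, 6, 10, 5, 6, 10, 5, 6, 10]⟩],
  [⟨[], 7, false, []⟩, ⟨[], 7, true, [0, 1, 3]⟩],
  [⟨[], 7, false, []⟩, ⟨[], 7, true, [0, 1]⟩],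
  [⟨[], 7, false, []⟩, ⟨[10], 40, false, [4, 6, 1, 4, 6, 4, 6, 10]⟩, ⟨[], 40, true, [1, 3, 4, 6, 4, 6, 4, 6]⟩, ⟨[], 7, true, [0, 1, 2]⟩],
  [⟨[], 7, false, []⟩, ⟨[10], 40, false, [4, 5, 6, 4, 6, 4, 6, 10]⟩, ⟨[], 40, true, [1, 3, 4, 6, 4, 6, 4, 6]⟩, ⟨[], 7, true, [0, 1, 2]⟩],
  [⟨[], 7, false, []⟩, ⟨[10], 40, false, [2, 4, 6, 4, 6, 4, 6, 10]⟩, ⟨[44, 44, 44, 44, 44, 52, 52, 52, 52, 52, 52, 52, 52, 52, 52, 52, 52, 52, 52, 52, 52], 48, false, [1, 10, 5, 6, 5, 6, 2, 6]⟩, ⟨[52, 52, 52, 52, 52, 52, 52, 52], 48, false, [4, 6, 4, 10, 5, 6, 4, 5]⟩, ⟨[52, 52, 52, 52, 52, 52, 52, 52, 42, 42, 42, 42, 42], 40, true, [3, 4, 5, 6, 5, 6, 4, 6, 5]⟩, ⟨[], 7, true, [0, 4, 6, 10, 5, 3, 6, 2, 4]⟩],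
  [⟨[], 7, false, []⟩, ⟨[14, 11, 11, 13, 12], 47, false, [2, 5, 3, 6, 5, 3, 6, 2]⟩, ⟨[52, 52, 52, 52, 52, 52, 52, 52, 42, 42, 42, 42, 42], 48, false, [6, 5, 6, 5, 10, 5, 6]⟩, ⟨[52, 52, 52, 52, 52, 52, 52, 52, 42, 42, 42, 42, 42], 40, true, [1, 3, 4, 5, 6, 2, 6, 4, 6, 5]⟩, ⟨[], 7, true, [10, 5, 6, 5, 3, 6, 2]⟩],
  [⟨[], 7, false, []⟩, ⟨[14, 11, 11, 13, 12], 47, false, [2, 5, 3, 6, 5, 3, 6, 2]⟩, ⟨[52, 52, 52, 52, 52, 52, 52, 52, 52, 52, 52, 52, 52, 52, 52, 52, 42, 42, 42, 42, 42], 40, true, [0, 4, 6, 4, 10, 5, 3, 6, 4]⟩, ⟨[], 7, true, [1, 2, 4, 6, 4, 5, 3, 5, 6, 4, 6]⟩],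
  [⟨[], 7, false, []⟩, ⟨[10], 40, false, [4, 6, 1, 4, 6, 4, 6, 10]⟩, ⟨[], 40, true, [0, 4, 5, 3, 6, 4, 6, 4, 6]⟩, ⟨[], 7, true, [0, 1, 2]⟩],
  [⟨[], 7, false, []⟩, ⟨[], 7, true, [0, 1, 3]⟩],
  [⟨[], 7, false, []⟩, ⟨[], 7, true, [0, 1, 3]⟩],
  [⟨[], 7, false, []⟩, ⟨[14, 11, 11, 13, 12], 47, false, [2, 5, 3, 6, 5, 6, 2]⟩, ⟨[], 47, true, [0, 5, 6, 10, 5, 6, 2]⟩, ⟨[], 7, true, [1, 2, 3, 4, 6, 4, 6, 5]⟩],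
  [⟨[], 7, false, []⟩, ⟨[10], 40, false, [4, 5, 6, 4, 6, 4, 6, 10, 5]⟩, ⟨[44, 44, 44, 44, 44, 52, 52, 52, 52, 52, 52, 52, 52, 52, 52, 52, 52, 52, 52, 52, 52], 47, true, [0, 2, 10, 5, 3, 6, 5, 3]⟩, ⟨[], 7, true, [6, 4, 6, 5, 6, 5, 3, 5]⟩],
  [⟨[], 7, false, []⟩, ⟨[10], 40, false, [2, 4, 6, 4, 6, 4, 6, 10]⟩, ⟨[44, 44, 44, 44, 44, 44, 44, 44, 44, 44, 52, 52, 52, 52, 52, 52, 52, 52], 47, true, [3, 4, 6, 2, 6, 4, 6, 5, 6]⟩, ⟨[], 7, true, [5, 3, 5, 6, 5, 6, 4, 6, 4]⟩],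
  [⟨[], 7, false, []⟩, ⟨[10], 40, false, [2, 4, 6, 4, 6, 4, 6, 10]⟩, ⟨[52, 52, 52, 52, 52, 52, 52, 52, 52, 52, 52, 52, 52, 52, 52, 52], 48, false, [1, 4, 6, 4, 5, 3, 5, 6, 2, 4]⟩, ⟨[52, 52, 52, 52, 52, 52, 52, 52, 42, 42, 42, 42, 42, 52, 52, 52, 52, 52, 52, 52, 52], 47, true, [3, 5, 6]⟩, ⟨[], 7, true, [0, 10, 5, 6, 4, 10, 5, 6, 2, 6, 2]⟩],
  [⟨[], 7, false, []⟩, ⟨[], 7, true, [0, 1]⟩],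
  [⟨[], 7, false, []⟩, ⟨[14, 11, 11, 13, 12], 54, false, [0, 2, 4, 6, 4, 6, 5, 3, 6, 2]⟩, ⟨[], 7, true, [0, 2, 4, 6, 4]⟩],
  [⟨[], 7, false, []⟩, ⟨[14, 11, 11, 13, 12], 47, false, [2, 5, 3, 6, 5, 3, 6, 2]⟩, ⟨[44, 44, 44, 44, 44, 42, 42, 42, 42, 42, 42, 42, 42, 42, 42], 47, true, [3, 4, 5, 6, 4, 5, 6, 4, 5, 6, 10]⟩, ⟨[], 7, true, [2, 6, 1, 4, 5, 6, 2, 6, 10, 5]⟩],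
  [⟨[], 7, false, []⟩, ⟨[], 7, true, [0, 1, 10]⟩],
  [⟨[], 7, false, []⟩, ⟨[], 7, true, [0, 1]⟩],
  [⟨[], 7, false, []⟩, ⟨[], 7, true, [0, 1, 10]⟩],
  [⟨[], 7, false, []⟩, ⟨[14, 11, 11, 13, 12], 47, false, [2, 5, 3, 6, 5, 6, 2]⟩, ⟨[52, 52, 52, 52, 52, 52, 52, 52], 47, true, [4, 6, 4, 6, 4, 5, 6, 10, 5]⟩, ⟨[], 7, true, [4, 5, 3, 6, 4, 5]⟩],
  [⟨[], 7, false, []⟩, ⟨[14, 11, 11, 13, 12], 47, false, [2, 5, 3, 6, 5, 6, 2]⟩, ⟨[52, 52, 52, 52, 52, 52, 52, 52, 52, 52, 52, 52, 52, 52, 52, 52, 44, 44, 44, 44, 44, 42, 42, 42, 42, 42], 47, true, [5, 6, 2, 6, 2, 10, 5]⟩, ⟨[], 7, true, [1, 2, 3, 6, 4, 5, 6]⟩],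
  [⟨[], 7, false, []⟩, ⟨[10], 40, false, [2, 4, 6, 4, 6, 4, 6, 10]⟩, ⟨[44, 44, 44, 44, 44, 44, 44, 44, 44, 44, 52, 52, 52, 52, 52, 52, 52, 52], 47, true, [10, 5, 3, 6, 5, 10, 5, 6, 5]⟩, ⟨[], 7, true, [5, 3, 5, 6, 5, 6, 4, 6, 4]⟩],
  [⟨[], 7, false, []⟩, ⟨[14, 11, 11, 13, 12], 47, false, [2, 5, 3, 6, 5, 3, 6, 2]⟩, ⟨[], 47, true, [0, 5, 6, 10, 5, 6, 10]⟩, ⟨[], 7, true, [1, 2, 3, 4, 6, 4, 6, 5]⟩],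
  [⟨[], 7, false, []⟩, ⟨[14, 11, 11, 11, 11, 13, 12], 47, false, [2, 5, 3, 6, 5, 3, 6, 5, 3]⟩, ⟨[44, 44, 44, 44, 44, 44, 44, 44, 44, 44, 42, 42, 42, 42, 42], 47, true, [10, 5, 3, 6, 1, 5, 3]⟩, ⟨[], 7, true, [3, 6, 4, 5, 10, 5, 6, 5, 3]⟩],
  [⟨[], 7, false, []⟩, ⟨[10], 40, false, [4, 6, 1, 4, 6, 4, 6, 10]⟩, ⟨[52, 52, 52, 52, 52, 52, 52, 52, 52, 52, 52, 52, 52, 52, 52, 52], 48, false, [0, 5, 3, 6, 2, 6, 5, 6, 2]⟩, ⟨[52, 52, 52, 52, 52, 52, 52, 52, 52, 52, 52, 52, 52, 52, 52, 52, 44, 44, 44, 44, 44, 42, 42, 42, 42, 42], 47, true, [2, 3, 6, 1, 5]⟩, ⟨[], 7, true, [0, 5, 3, 6, 4, 6, 5]⟩],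
  [⟨[], 7, false, []⟩, ⟨[14, 11, 11, 13, 12], 47, false, [0, 10, 5, 6, 10, 5, 3, 6]⟩, ⟨[], 47, true, [0, 5, 6, 10, 5, 6, 10]⟩, ⟨[], 7, true, [1, 2, 3, 4, 6, 4, 6, 5]⟩],
  [⟨[], 7, false, []⟩, ⟨[], 7, true, [0, 1]⟩],
  [⟨[], 7, false, []⟩, ⟨[14, 11, 11, 13, 12], 54, false, [5, 3, 6, 4, 6, 5, 6, 2, 6]⟩, ⟨[], 7, true, [0, 2, 3, 4, 6, 4, 5, 10]⟩],
  [⟨[], 7, false, []⟩, ⟨[10], 40, false, [2, 4, 6, 4, 6, 4, 6, 10]⟩, ⟨[], 40, true, [0, 2, 4, 6, 4, 6, 4, 6]⟩, ⟨[], 7, true, [0, 1, 2, 3]⟩],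
  [⟨[], 7, false, []⟩, ⟨[10], 40, false, [4, 6, 1, 4, 6, 4, 6, 10]⟩, ⟨[52, 52, 52, 52, 52, 52, 52, 52, 52, 52, 52, 52, 52, 52, 52, 52], 48, false, [0, 5, 3, 6, 2, 6, 5, 6, 2]⟩, ⟨[42, 42, 42, 42, 42], 51, false, [5, 6, 10, 5, 6, 5, 10]⟩, ⟨[52, 52, 52, 52, 52, 52, 52, 52, 42, 42, 42, 42, 42], 40, true, [1, 6, 10, 5, 6, 2, 5, 3, 6]⟩, ⟨[], 7, true, [0, 2, 10, 5, 6, 5, 10, 5, 6, 5]⟩],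
  [⟨[], 7, false, []⟩, ⟨[14, 11, 11, 13, 12], 47, false, [0, 10, 5, 6, 10, 5, 3, 6]⟩, ⟨[52, 52, 52, 52, 52, 52, 52, 52, 42, 42, 42, 42, 42, 42, 42, 42, 42, 42], 48, false, [0, 2, 6, 4, 5, 6, 5, 6, 4]⟩, ⟨[52, 52, 52, 52, 52, 52, 52, 52, 42, 42, 42, 42, 42], 40, true, [6, 1, 5, 6, 2, 6, 5, 3]⟩, ⟨[], 7, true, [3, 6, 4, 6, 5, 6, 2, 4, 6, 10]⟩],
  [⟨[], 7, false, []⟩, ⟨[10], 40, false, [2, 4, 6, 4, 6, 4, 6, 10]⟩, ⟨[42, 42, 42, 42, 42, 52, 52, 52, 52, 52, 52, 52, 52], 48, false, [6, 5, 6, 10, 5, 6, 2, 5, 6]⟩, ⟨[52, 52, 52, 52, 52, 52, 52, 52, 42, 42, 42, 42, 42], 40, true, [0, 3, 6, 5, 6, 2, 6, 5, 6]⟩, ⟨[], 7, true, [4, 6, 1, 5, 6, 2, 4]⟩],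
  [⟨[], 7, false, []⟩, ⟨[14, 11, 11, 13, 12], 47, false, [0, 10, 5, 6, 10, 5, 3, 6]⟩, ⟨[], 47, true, [5, 10, 5, 6, 5, 6, 2, 10]⟩, ⟨[], 7, true, [1, 2, 3, 4, 6, 4, 6, 5]⟩],
  [⟨[], 7, false, []⟩, ⟨[14, 11, 11, 13, 12], 47, false, [2, 5, 3, 6, 5, 3, 6, 2]⟩, ⟨[], 47, true, [5, 10, 5, 6, 5, 6, 2, 10]⟩, ⟨[], 7, true, [1, 2, 3, 4, 6, 4, 6, 5]⟩],
  [⟨[], 7, false, []⟩, ⟨[14, 11, 11, 13, 12], 47, false, [2, 5, 3, 6, 5, 3, 6]⟩, ⟨[52, 52, 52, 52, 52, 52, 52, 52, 42, 42, 42, 42, 42], 40, true, [3, 5, 3, 6, 5, 6, 2, 10, 5]⟩, ⟨[], 7, true, [0, 5, 6, 10, 5, 6, 10, 5, 6, 10]⟩]]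

/-- images of the cosets under letter 10 -/
def cosetImg10 : List ℕ := [0, 3, 6, 9, 1, 13, 17, 20, 2, 11, 12, 10, 4, 27, 30, 5, 19, 23, 25, 42, 44, 7, 50, 18, 57, 8, 60, 33, 35, 63, 66, 14, 73, 28, 76, 15, 74, 79, 16, 85, 37, 72, 78, 75, 48, 49, 24, 56, 45, 21, 64, 93, 96, 22, 103, 105, 88, 108, 110, 99, 51, 54, 26, 101, 29, 68, 70, 71, 34, 83, 67, 31, 32, 81, 80, 116, 100, 118, 98, 36, 82, 39, 40, 89, 38, 41, 106, 43, 113, 46, 47, 65, 112, 59, 91, 86, 77, 52, 84, 62, 94, 53, 61, 92, 114, 109, 55, 58, 69, 117, 87, 102, 111, 119, 97, 90, 107, 95, 104, 115]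

/-- traces for letter 10 -/
def cosetUses10 : List (List Use) := [
  [],
  [⟨[], 7, false, []⟩, ⟨[], 7, true, [0, 1]⟩],
  [⟨[], 7, false, []⟩, ⟨[], 7, true, [0, 1]⟩],
  [⟨[], 7, false, []⟩, ⟨[], 7, true, [0, 1]⟩],
  [⟨[], 7, false, []⟩, ⟨[], 7, true, [0, 1]⟩],
  [⟨[], 7, false, []⟩, ⟨[], 7, true, [0, 1]⟩],
  [⟨[], 7, false, []⟩, ⟨[], 7, true, [0, 1]⟩],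
  [⟨[], 7, false, []⟩, ⟨[10], 40, false, [4, 6, 1, 4, 6, 4, 6, 10]⟩, ⟨[], 40, true, [1, 3, 4, 6, 4, 6, 4, 6]⟩, ⟨[], 7, true, [0, 1, 2]⟩],
  [⟨[], 7, false, []⟩, ⟨[], 7, true, [0, 1]⟩],
  [⟨[], 7, false, []⟩, ⟨[], 7, true, [0, 1, 10]⟩],
  [⟨[], 7, false, []⟩, ⟨[], 7, true, [0, 1, 3]⟩],
  [⟨[], 7, false, []⟩, ⟨[], 7, true, [0, 1]⟩],
  [⟨[], 7, false, []⟩, ⟨[], 7, true, [0, 1]⟩],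
  [⟨[], 7, false, []⟩, ⟨[], 7, true, [0, 1]⟩],
  [⟨[], 7, false, []⟩, ⟨[10], 40, false, [2, 4, 6, 4, 6, 4, 6, 10]⟩, ⟨[], 40, true, [0, 2, 3, 4, 6, 4, 6, 4, 6]⟩, ⟨[], 7, true, [0, 1, 2]⟩],
  [⟨[], 7, false, []⟩, ⟨[], 7, true, [0, 1]⟩],
  [⟨[], 7, false, []⟩, ⟨[14, 11, 11, 13, 12], 54, false, [0, 2, 4, 6, 4, 6, 5, 3, 6]⟩, ⟨[], 7, true, [0, 2, 3, 4, 6, 4, 5, 3]⟩],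
  [⟨[], 7, false, []⟩, ⟨[], 7, true, [0, 1, 10]⟩],
  [⟨[], 7, false, []⟩, ⟨[], 7, true, [0, 1, 3]⟩],
  [⟨[], 7, false, []⟩, ⟨[14, 11, 11, 13, 12], 54, false, [0, 2, 4, 6, 4, 6, 5, 3, 6]⟩, ⟨[], 54, false, [0, 2, 5, 6, 4, 6, 5, 6, 5, 10]⟩, ⟨[], 7, true, [2, 6, 2, 6, 5, 3, 6, 2, 4, 5, 6]⟩],
  [⟨[], 7, false, []⟩, ⟨[10], 40, false, [4, 6, 1, 4, 6, 4, 6, 10]⟩, ⟨[], 40, true, [1, 3, 4, 6, 4, 6, 4, 6]⟩, ⟨[], 7, true, [0, 1, 2]⟩],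
  [⟨[], 7, false, []⟩, ⟨[10], 40, false, [4, 6, 1, 4, 6, 4, 6, 10]⟩, ⟨[], 40, true, [1, 3, 4, 6, 4, 6, 4, 6]⟩, ⟨[], 7, true, [0, 1, 2]⟩],
  [⟨[], 7, false, []⟩, ⟨[], 7, true, [0, 1]⟩],
  [⟨[], 7, false, []⟩, ⟨[], 7, true, [0, 1]⟩],
  [⟨[], 7, false, []⟩, ⟨[14, 11, 11, 13, 12], 47, false, [2, 5, 3, 6, 5, 3, 6, 2]⟩, ⟨[], 47, true, [0, 5, 6, 10, 5, 6, 10]⟩, ⟨[], 7, true, [1, 2, 3, 4, 6, 4, 6, 5]⟩],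
  [⟨[], 7, false, []⟩, ⟨[], 7, true, [0, 1]⟩],
  [⟨[], 7, false, []⟩, ⟨[], 7, true, [0, 1]⟩],
  [⟨[], 7, false, []⟩, ⟨[], 7, true, [0, 1, 10]⟩],
  [⟨[], 7, false, []⟩, ⟨[], 7, true, [0, 1, 3]⟩],
  [⟨[], 7, false, []⟩, ⟨[14, 11, 11, 13, 12], 54, false, [5, 3, 6, 4, 6, 5, 6, 2, 6]⟩, ⟨[12, 13, 10, 12], 54, false, [1, 3, 6, 4, 5, 3, 6]⟩, ⟨[], 7, true, [3, 6, 1, 5, 6, 2, 6, 4, 6]⟩],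
  [⟨[], 7, false, []⟩, ⟨[10], 40, false, [2, 4, 6, 4, 6, 4, 6, 10]⟩, ⟨[], 40, true, [0, 2, 3, 4, 6, 4, 6, 4, 6]⟩, ⟨[], 7, true, [0, 1, 2]⟩],
  [⟨[], 7, false, []⟩, ⟨[10], 40, false, [2, 4, 6, 4, 6, 4, 6, 10]⟩, ⟨[], 40, true, [0, 2, 3, 4, 6, 4, 6, 4, 6]⟩, ⟨[], 7, true, [0, 1, 2]⟩],
  [⟨[], 7, false, []⟩, ⟨[], 7, true, [0, 1]⟩],
  [⟨[], 7, false, []⟩, ⟨[], 7, true, [0, 1]⟩],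
  [⟨[], 7, false, []⟩, ⟨[14, 11, 11, 13, 12], 47, false, [0, 10, 5, 6, 10, 5, 3, 6]⟩, ⟨[], 47, true, [5, 10, 5, 6, 5, 6, 2, 10]⟩, ⟨[], 7, true, [1, 2, 3, 4, 6, 4, 6, 5]⟩],
  [⟨[], 7, false, []⟩, ⟨[], 7, true, [0, 1]⟩],
  [⟨[], 7, false, []⟩, ⟨[], 7, true, [0, 1, 10]⟩],
  [⟨[], 7, false, []⟩, ⟨[14, 13, 12], 54, false, [5, 10, 5, 6, 2, 4, 5, 6, 5]⟩, ⟨[], 7, true, [1, 2, 3, 6, 4, 6, 2, 5, 6, 2]⟩],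
  [⟨[], 7, false, []⟩, ⟨[], 7, true, [0, 1]⟩],
  [⟨[], 7, false, []⟩, ⟨[], 7, true, [0, 1]⟩],
  [⟨[], 7, false, []⟩, ⟨[14, 11, 11, 13, 12], 54, false, [0, 2, 4, 6, 4, 6, 5, 3, 6, 2]⟩, ⟨[12, 11, 11, 13, 10, 12, 11, 11], 54, false, [0, 2, 4, 6, 4, 5, 6, 5, 3]⟩, ⟨[], 7, true, [2, 6, 4, 6, 5, 10, 5, 6, 2]⟩],
  [⟨[], 7, false, []⟩, ⟨[14, 13, 11, 11, 13, 12, 11, 11, 11, 11], 54, false, [0, 2, 4, 6, 4, 6, 5, 6, 5]⟩, ⟨[], 7, true, [1, 2, 3, 6, 4, 6, 2, 5, 6, 2]⟩],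
  [⟨[], 7, false, []⟩, ⟨[14, 11, 11, 13, 12], 54, false, [0, 2, 4, 6, 4, 6, 5, 6, 2]⟩, ⟨[12, 11, 11, 13, 10, 12, 11, 11], 54, false, [0, 2, 4, 6, 4, 5, 6, 5, 10]⟩, ⟨[], 7, true, [2, 3, 6, 4, 6, 2, 5, 6, 2]⟩],
  [⟨[], 7, false, []⟩, ⟨[14, 11, 11, 13, 12], 47, false, [0, 10, 5, 6, 10, 5, 3, 6]⟩, ⟨[42, 42, 42, 42, 42, 42, 42, 42, 42, 42], 40, true, [2, 4, 6, 5, 6, 2, 4]⟩, ⟨[], 7, true, [3, 6, 2, 4, 5, 6, 2, 6, 4, 5]⟩],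
  [⟨[], 7, false, []⟩, ⟨[10], 40, false, [4, 6, 1, 4, 6, 4, 6, 10]⟩, ⟨[], 40, true, [1, 4, 6, 4, 6, 4, 6]⟩, ⟨[], 7, true, [0, 1, 2, 3]⟩],
  [⟨[], 7, false, []⟩, ⟨[10], 40, false, [4, 6, 1, 4, 6, 4, 6, 10]⟩, ⟨[], 40, true, [1, 4, 6, 4, 6, 4, 6, 10]⟩, ⟨[], 7, true, [0, 1, 2, 10]⟩],
  [⟨[], 7, false, []⟩, ⟨[14, 11, 11, 13, 12], 47, false, [2, 5, 3, 6, 5, 3, 6, 2]⟩, ⟨[52, 52, 52, 52, 52, 52, 52, 52], 48, false, [4, 5, 6, 4, 5, 6, 4, 5, 10, 5]⟩, ⟨[52, 52, 52, 52, 52, 52, 52, 52, 42, 42, 42, 42, 42], 40, true, [0, 4, 6, 4, 10, 5, 6, 4, 10]⟩, ⟨[], 7, true, [1, 6, 2, 4, 6, 10, 5, 3, 6, 4, 6]⟩],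
  [⟨[], 7, false, []⟩, ⟨[14, 11, 11, 13, 12], 47, false, [2, 5, 3, 6, 5, 3, 6, 2]⟩, ⟨[52, 52, 52, 52, 52, 52, 52, 52, 42, 42, 42, 42, 42], 40, true, [0, 2, 5, 6, 10, 5, 6, 10, 5]⟩, ⟨[], 7, true, [0, 5, 6, 10, 5, 6, 10, 5, 6, 10]⟩],
  [⟨[], 7, false, []⟩, ⟨[10], 40, false, [4, 6, 1, 4, 6, 4, 6, 10]⟩, ⟨[], 40, true, [1, 3, 4, 6, 4, 6, 4, 6]⟩, ⟨[], 7, true, [0, 1, 2]⟩],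
  [⟨[], 7, false, []⟩, ⟨[10], 40, false, [4, 6, 1, 4, 6, 4, 6, 10]⟩, ⟨[], 40, true, [1, 3, 4, 6, 4, 6, 4, 6]⟩, ⟨[], 7, true, [0, 1, 2]⟩],
  [⟨[], 7, false, []⟩, ⟨[14, 11, 11, 13, 12], 54, false, [5, 3, 6, 4, 6, 5, 6, 2, 6]⟩, ⟨[], 7, true, [0, 2, 3, 4, 6, 4, 5, 3]⟩],
  [⟨[], 7, false, []⟩, ⟨[], 7, true, [0, 1]⟩],
  [⟨[], 7, false, []⟩, ⟨[14, 11, 11, 13, 12], 47, false, [2, 5, 3, 6, 5, 3, 6]⟩, ⟨[], 47, true, [0, 5, 6, 10, 5, 6, 2, 10]⟩, ⟨[], 7, true, [1, 2, 3, 4, 6, 4, 6, 5]⟩],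
  [⟨[], 7, false, []⟩, ⟨[], 7, true, [0, 1]⟩],
  [⟨[], 7, false, []⟩, ⟨[], 7, true, [0, 1]⟩],
  [⟨[], 7, false, []⟩, ⟨[14, 11, 11, 13, 12], 47, false, [2, 5, 3, 6, 5, 6, 2]⟩, ⟨[], 47, true, [0, 5, 6, 10, 5, 6]⟩, ⟨[], 7, true, [1, 2, 3, 4, 6, 4, 6, 5]⟩],
  [⟨[], 7, false, []⟩, ⟨[10], 40, false, [4, 6, 1, 4, 6, 4, 6, 10]⟩, ⟨[52, 52, 52, 52, 52, 52, 52, 52, 52, 52, 52, 52, 52, 52, 52, 52], 48, false, [0, 5, 3, 6, 2, 6, 5, 6, 2]⟩, ⟨[52, 52, 52, 52, 52, 52, 52, 52, 42, 42, 42, 42, 42, 52, 52, 52, 52, 52, 52, 52, 52], 47, true, [3, 5, 6, 2]⟩, ⟨[], 7, true, [0, 10, 5, 6, 4, 10, 5, 6, 2, 6, 2]⟩],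
  [⟨[], 7, false, []⟩, ⟨[14, 11, 11, 13, 12], 47, false, [2, 5, 3, 6, 5, 3, 6, 2]⟩, ⟨[], 47, true, [0, 5, 6, 10, 5, 6, 10]⟩, ⟨[], 7, true, [1, 2, 3, 4, 6, 4, 6, 5]⟩],
  [⟨[], 7, false, []⟩, ⟨[14, 11, 11, 13, 12], 47, false, [2, 5, 3, 6, 5, 3, 6, 2]⟩, ⟨[], 47, true, [0, 5, 6, 10, 5, 6, 10]⟩, ⟨[], 7, true, [1, 2, 3, 4, 6, 4, 6, 5]⟩],
  [⟨[], 7, false, []⟩, ⟨[], 7, true, [0, 1, 2, 10, 5]⟩],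
  [⟨[], 7, false, []⟩, ⟨[], 7, true, [0, 1, 10]⟩],
  [⟨[], 7, false, []⟩, ⟨[], 7, true, [0, 1, 10]⟩],
  [⟨[], 7, false, []⟩, ⟨[], 7, true, [0, 1]⟩],
  [⟨[], 7, false, []⟩, ⟨[14, 10, 12, 11, 11, 11, 11], 54, false, [0, 3, 6, 5, 3, 6, 5, 6, 4, 6]⟩, ⟨[], 7, true, [1, 2, 3, 6, 4, 6, 2, 5, 6, 2]⟩],
  [⟨[], 7, false, []⟩, ⟨[14, 11, 11, 13, 12], 54, false, [5, 3, 6, 4, 6, 5, 6, 2, 6]⟩, ⟨[], 54, false, [0, 3, 6, 5, 3, 6, 2, 6, 4]⟩, ⟨[], 7, true, [2, 6, 2, 6, 5, 3, 6, 2, 4, 5, 6]⟩],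
  [⟨[], 7, false, []⟩, ⟨[10], 40, false, [2, 4, 6, 4, 6, 4, 6, 10]⟩, ⟨[52, 52, 52, 52, 52, 52, 52, 52, 52, 52, 52, 52, 52, 52, 52, 52], 48, false, [1, 4, 6, 4, 5, 3, 5, 6, 2, 4]⟩, ⟨[52, 52, 52, 52, 52, 52, 52, 52, 42, 42, 42, 42, 42], 40, true, [0, 2, 5, 6, 5, 10]⟩, ⟨[], 7, true, [3, 5, 6, 5, 3, 5, 6, 2, 5]⟩],
  [⟨[], 7, false, []⟩, ⟨[10], 40, false, [2, 4, 6, 4, 6, 4, 6, 10]⟩, ⟨[], 40, true, [0, 2, 4, 6, 4, 6, 4, 6]⟩, ⟨[], 7, true, [0, 1, 2, 3]⟩],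
  [⟨[], 7, false, []⟩, ⟨[10], 40, false, [2, 4, 6, 4, 6, 4, 6, 10]⟩, ⟨[], 40, true, [0, 2, 4, 6, 4, 6, 4, 6, 10]⟩, ⟨[], 7, true, [0, 1, 2, 10]⟩],
  [⟨[], 7, false, []⟩, ⟨[14, 11, 11, 13, 12], 47, false, [0, 10, 5, 6, 10, 5, 3, 6]⟩, ⟨[52, 52, 52, 52, 52, 52, 52, 52], 48, false, [4, 5, 6, 4, 5, 6, 2, 4, 10]⟩, ⟨[52, 52, 52, 52, 52, 52, 52, 52, 42, 42, 42, 42, 42], 40, true, [0, 4, 6, 4, 10, 5, 6, 2, 4, 10]⟩, ⟨[], 7, true, [1, 6, 2, 4, 6, 10, 5, 3, 6, 4, 6]⟩],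
  [⟨[], 7, false, []⟩, ⟨[10], 40, false, [4, 5, 6, 4, 6, 4, 6, 10, 5]⟩, ⟨[], 40, true, [0, 2, 3, 4, 6, 4, 6, 4, 6]⟩, ⟨[], 7, true, [0, 1, 2]⟩],
  [⟨[], 7, false, []⟩, ⟨[10], 40, false, [2, 4, 6, 4, 6, 4, 6, 10]⟩, ⟨[], 40, true, [0, 2, 3, 4, 6, 4, 6, 4, 6]⟩, ⟨[], 7, true, [0, 1, 2]⟩],
  [⟨[], 7, false, []⟩, ⟨[10], 40, false, [2, 4, 6, 4, 6, 4, 6, 10]⟩, ⟨[], 40, true, [0, 2, 3, 4, 6, 4, 6, 4, 6]⟩, ⟨[], 7, true, [0, 1, 2]⟩],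
  [⟨[], 7, false, []⟩, ⟨[], 7, true, [0, 1, 5]⟩],
  [⟨[], 7, false, []⟩, ⟨[14, 11, 11, 13, 12], 54, false, [0, 2, 4, 6, 4, 6, 5, 3, 6, 2]⟩, ⟨[], 7, true, [0, 2, 3, 4, 6, 4, 5]⟩],
  [⟨[], 7, false, []⟩, ⟨[14, 11, 11, 13, 12], 54, false, [0, 2, 4, 6, 4, 6, 5, 3, 6, 2]⟩, ⟨[], 7, true, [0, 2, 3, 4, 6, 4]⟩],
  [⟨[], 7, false, []⟩, ⟨[10], 40, false, [2, 4, 6, 4, 6, 4, 6, 10]⟩, ⟨[52, 52, 52, 52, 52, 52, 52, 52, 52, 52, 52, 52, 52, 52, 52, 52], 48, false, [1, 4, 6, 4, 5, 3, 5, 6, 2, 4]⟩, ⟨[52, 52, 52, 52, 52, 52, 52, 52, 42, 42, 42, 42, 42, 52, 52, 52, 52, 52, 52, 52, 52], 47, true, [3, 5, 3, 6, 5, 10]⟩, ⟨[], 7, true, [0, 10, 5, 6, 4, 10, 5, 6, 2, 6, 2]⟩],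
  [⟨[], 7, false, []⟩, ⟨[14, 11, 11, 11, 11, 13, 12], 47, false, [2, 5, 3, 6, 5, 3, 6, 5, 3]⟩, ⟨[44, 44, 44, 44, 44, 44, 44, 44, 44, 44, 42, 42, 42, 42, 42], 47, true, [10, 5, 6, 1, 10, 5]⟩, ⟨[], 7, true, [3, 6, 4, 5, 10, 5, 6, 5, 3]⟩],
  [⟨[], 7, false, []⟩, ⟨[14, 11, 11, 13, 12], 47, false, [0, 10, 5, 6, 10, 5, 3, 6]⟩, ⟨[], 47, true, [5, 10, 5, 6, 5, 6, 2, 10]⟩, ⟨[], 7, true, [1, 2, 3, 4, 6, 4, 6, 5]⟩],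
  [⟨[], 7, false, []⟩, ⟨[14, 13, 12], 54, false, [0, 6, 4, 6, 5, 6, 2, 5, 6]⟩, ⟨[], 7, true, [1, 2, 3, 6, 4, 6, 2, 5, 6, 2]⟩],
  [⟨[], 7, false, []⟩, ⟨[], 7, true, [0, 1]⟩],
  [⟨[], 7, false, []⟩, ⟨[14, 12], 54, false, [5, 10, 5, 6, 2, 4, 5, 6, 5]⟩, ⟨[], 7, true, [1, 2, 3, 6, 4, 6, 2, 5, 6, 2]⟩],
  [⟨[], 7, false, []⟩, ⟨[14, 13, 12], 54, false, [5, 10, 5, 6, 2, 4, 5, 6, 5]⟩, ⟨[], 7, true, [1, 2, 3, 6, 4, 6, 2, 5, 6, 2]⟩],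
  [⟨[], 7, false, []⟩, ⟨[14, 11, 11, 11, 11, 13, 12], 54, false, [0, 2, 4, 6, 4, 6, 5, 6, 10]⟩, ⟨[], 7, true, [0, 2, 3, 4, 6, 4, 5, 3]⟩],
  [⟨[], 7, false, []⟩, ⟨[10], 40, false, [4, 6, 1, 4, 6, 4, 6, 10]⟩, ⟨[52, 52, 52, 52, 52, 52, 52, 52, 52, 52, 52, 52, 52, 52, 52, 52], 48, false, [0, 5, 3, 6, 2, 6, 5, 6, 2]⟩, ⟨[52, 52, 52, 52, 52, 52, 52, 52, 42, 42, 42, 42, 42], 40, true, [0, 2, 5, 6, 10]⟩, ⟨[], 7, true, [3, 5, 6, 5, 3, 5, 6, 2, 5]⟩],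
  [⟨[], 7, false, []⟩, ⟨[], 7, true, [0, 1]⟩],
  [⟨[], 7, false, []⟩, ⟨[14, 11, 11, 13, 12], 54, false, [0, 2, 4, 6, 4, 6, 5, 6]⟩, ⟨[], 7, true, [0, 2, 3, 4, 6, 4, 5, 3]⟩],
  [⟨[], 7, false, []⟩, ⟨[14, 11, 11, 13, 12], 47, false, [2, 5, 3, 6, 5, 6, 2]⟩, ⟨[52, 52, 52, 52, 52, 52, 52, 52, 52, 52, 52, 52, 52, 52, 52, 52, 42, 42, 42, 42, 42], 40, true, [0, 4, 6, 4, 10, 5, 3, 6, 4]⟩, ⟨[], 7, true, [1, 2, 4, 6, 4, 5, 3, 5, 6, 4, 6]⟩],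
  [⟨[], 7, false, []⟩, ⟨[10], 40, false, [4, 6, 1, 4, 6, 4, 6, 10]⟩, ⟨[], 40, true, [1, 3, 4, 6, 4, 6, 4, 6]⟩, ⟨[], 7, true, [0, 1, 2]⟩],
  [⟨[], 7, false, []⟩, ⟨[10], 40, false, [2, 4, 6, 4, 6, 4, 6, 10]⟩, ⟨[52, 52, 52, 52, 52, 52, 52, 52, 52, 52, 52, 52, 52, 52, 52, 52, 52, 52, 52, 52, 52, 52, 52, 52], 48, false, [0, 2, 5, 3, 6, 5, 3, 6]⟩, ⟨[52, 52, 52, 52, 52, 52, 52, 52, 42, 42, 42, 42, 42], 40, true, [3, 4, 6, 1, 4, 6, 4, 6]⟩, ⟨[], 7, true, [1, 2]⟩],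
  [⟨[], 7, false, []⟩, ⟨[10], 40, false, [4, 6, 1, 4, 6, 4, 6, 10]⟩, ⟨[52, 52, 52, 52, 52, 52, 52, 52, 52, 52, 52, 52, 52, 52, 52, 52], 48, false, [0, 5, 3, 6, 2, 6, 5, 6, 2]⟩, ⟨[42, 42, 42, 42, 42], 48, false, [5, 6, 10, 5, 3, 6, 5, 6, 10]⟩, ⟨[52, 52, 52, 52, 52, 52, 52, 52, 42, 42, 42, 42, 42], 40, true, [1, 4, 6, 4, 10, 5, 6, 4, 10]⟩, ⟨[], 7, true, [0, 2, 4, 6, 4, 10, 5, 3, 6, 4]⟩],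
  [⟨[], 7, false, []⟩, ⟨[10], 40, false, [4, 6, 1, 4, 6, 4, 6, 10]⟩, ⟨[], 40, true, [1, 3, 4, 6, 4, 6, 4, 6]⟩, ⟨[], 7, true, [0, 1, 2]⟩],
  [⟨[], 7, false, []⟩, ⟨[10], 40, false, [2, 4, 6, 4, 6, 4, 6, 10]⟩, ⟨[], 40, true, [0, 4, 5, 3, 6, 4, 6, 4, 6]⟩, ⟨[], 7, true, [0, 1, 2]⟩],
  [⟨[], 7, false, []⟩, ⟨[], 7, true, [0, 1, 3]⟩],
  [⟨[], 7, false, []⟩, ⟨[], 7, true, [0, 1, 2, 5, 3]⟩],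
  [⟨[], 7, false, []⟩, ⟨[10], 40, false, [4, 5, 6, 4, 6, 4, 6, 10]⟩, ⟨[44, 44, 44, 44, 44, 44, 44, 44, 44, 44, 52, 52, 52, 52, 52, 52, 52, 52], 47, true, [0, 5, 3, 6, 2, 5, 6, 5, 3, 5]⟩, ⟨[], 7, true, [5, 3, 5, 6, 5, 6, 4, 6, 4]⟩],
  [⟨[], 7, false, []⟩, ⟨[10], 40, false, [4, 6, 1, 4, 6, 4, 6, 10]⟩, ⟨[44, 44, 44, 44, 44, 42, 42, 42, 42, 42, 42, 42, 42, 42, 42], 47, true, [3, 4, 6, 2, 6, 2, 4, 5, 6, 2, 6]⟩, ⟨[], 7, true, [5, 3, 5, 6, 1, 4, 6, 5, 6]⟩],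
  [⟨[], 7, false, []⟩, ⟨[14, 11, 11, 13, 12], 47, false, [0, 10, 5, 6, 10, 5, 3, 6]⟩, ⟨[44, 44, 44, 44, 44, 44, 44, 44, 44, 44, 42, 42, 42, 42, 42], 47, true, [10, 5, 6, 1, 5, 10, 5]⟩, ⟨[], 7, true, [3, 6, 4, 5, 10, 5, 6, 5, 3]⟩],
  [⟨[], 7, false, []⟩, ⟨[14, 11, 11, 13, 12], 47, false, [2, 5, 3, 6, 5, 3, 6]⟩, ⟨[], 47, true, [0, 5, 6, 10, 5, 6, 2, 10]⟩, ⟨[], 7, true, [1, 2, 3, 4, 6, 4, 6, 5]⟩],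
  [⟨[], 7, false, []⟩, ⟨[], 7, true, [0, 1]⟩],
  [⟨[], 7, false, []⟩, ⟨[], 7, true, [0, 1, 3]⟩],
  [⟨[], 7, false, []⟩, ⟨[14, 11, 11, 13, 12], 47, false, [2, 5, 3, 6, 5, 6]⟩, ⟨[44, 44, 44, 44, 44, 44, 44, 44, 44, 44, 42, 42, 42, 42, 42], 47, true, [10, 5, 6, 1, 5, 3]⟩, ⟨[], 7, true, [3, 6, 4, 5, 10, 5, 6, 5, 10]⟩],
  [⟨[], 7, false, []⟩, ⟨[], 7, true, [0, 1]⟩],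
  [⟨[], 7, false, []⟩, ⟨[], 7, true, [0, 1, 3]⟩],
  [⟨[], 7, false, []⟩, ⟨[], 7, true, [0, 1]⟩],
  [⟨[], 7, false, []⟩, ⟨[10], 40, false, [2, 4, 6, 4, 6, 4, 6, 10]⟩, ⟨[44, 44, 44, 44, 44, 52, 52, 52, 52, 52, 52, 52, 52, 52, 52, 52, 52, 52, 52, 52, 52], 48, false, [1, 10, 5, 6, 5, 6, 2, 6]⟩, ⟨[42, 42, 42, 42, 42, 42, 42, 42, 42, 42], 47, true, [0, 3, 5, 3, 6, 2, 6]⟩, ⟨[], 7, true, [3, 6, 4, 6, 5, 10, 5, 6, 5, 3]⟩],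
  [⟨[], 7, false, []⟩, ⟨[14, 11, 11, 13, 12], 47, false, [2, 5, 3, 6, 5, 3, 6, 2]⟩, ⟨[], 47, true, [0, 5, 6, 10, 5, 6]⟩, ⟨[], 7, true, [1, 2, 3, 4, 6, 4, 6, 5]⟩],
  [⟨[], 7, false, []⟩, ⟨[14, 11, 11, 13, 12], 47, false, [2, 5, 3, 6, 5, 6, 2]⟩, ⟨[], 47, true, [0, 5, 6, 10, 5, 6]⟩, ⟨[], 7, true, [1, 2, 3, 4, 6, 4, 6, 5]⟩],
  [⟨[], 7, false, []⟩, ⟨[14, 11, 11, 13, 12], 47, false, [2, 5, 3, 6, 5, 3, 6, 2]⟩, ⟨[44, 44, 44, 44, 44, 44, 44, 44, 44, 44, 42, 42, 42, 42, 42], 47, true, [10, 5, 3, 6, 1, 5, 3]⟩, ⟨[], 7, true, [3, 6, 4, 5, 10, 5, 6, 5, 3]⟩],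
  [⟨[], 7, false, []⟩, ⟨[10], 40, false, [2, 4, 6, 4, 6, 4, 6, 10]⟩, ⟨[44, 44, 44, 44, 44, 52, 52, 52, 52, 52, 52, 52, 52], 47, true, [3, 6, 2, 4, 6, 5, 6, 4, 6, 5]⟩, ⟨[], 7, true, [1, 5, 3, 5, 6, 2, 4, 5, 6, 2]⟩],
  [⟨[], 7, false, []⟩, ⟨[14, 11, 11, 13, 12], 47, false, [0, 10, 5, 6, 10, 5, 3, 6]⟩, ⟨[52, 52, 52, 52, 52, 52, 52, 52, 44, 44, 44, 44, 44], 47, true, [0, 5, 6, 5, 3, 5, 6, 2, 6]⟩, ⟨[], 7, true, [4, 5, 3, 5, 6, 5, 6, 2, 6, 4]⟩],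
  [⟨[], 7, false, []⟩, ⟨[10], 40, false, [4, 6, 1, 4, 6, 4, 6, 10]⟩, ⟨[52, 52, 52, 52, 52, 52, 52, 52], 47, true, [0, 5, 3, 6, 2, 5, 6, 10, 5, 3]⟩, ⟨[], 7, true, [5, 3, 5, 6, 5, 6, 4, 6, 4]⟩],
  [⟨[], 7, false, []⟩, ⟨[], 7, true, [0, 1, 3]⟩],
  [⟨[], 7, false, []⟩, ⟨[], 7, true, [0, 1, 3]⟩],
  [⟨[], 7, false, []⟩, ⟨[10], 40, false, [4, 5, 6, 4, 6, 4, 6, 10, 5]⟩, ⟨[52, 52, 52, 52, 52, 52, 52, 52, 52, 52, 52, 52, 52, 52, 52, 52], 40, true, [1, 2]⟩, ⟨[], 7, true, [0, 2, 3, 4, 6, 2, 6, 4]⟩],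
  [⟨[], 7, false, []⟩, ⟨[14, 11, 11, 13, 12], 47, false, [2, 5, 3, 6, 5, 3, 6]⟩, ⟨[52, 52, 52, 52, 52, 52, 52, 52, 42, 42, 42, 42, 42], 48, false, [6, 5, 3, 6, 2, 5, 6, 5]⟩, ⟨[52, 52, 52, 52, 52, 52, 52, 52, 42, 42, 42, 42, 42], 40, true, [1, 6, 2, 5, 6, 5, 10, 5, 6, 5]⟩, ⟨[], 7, true, [10, 5, 6, 5, 6, 2]⟩],
  [⟨[], 7, false, []⟩, ⟨[10], 40, false, [4, 6, 1, 4, 6, 4, 6, 10]⟩, ⟨[52, 52, 52, 52, 52, 52, 52, 52, 52, 52, 52, 52, 52, 52, 52, 52, 42, 42, 42, 42, 42], 48, false, [0, 4, 6, 5, 6, 2, 4, 5, 6]⟩, ⟨[52, 52, 52, 52, 52, 52, 52, 52, 42, 42, 42, 42, 42], 40, true, [1, 3, 4, 6, 4, 5, 6, 2, 4]⟩, ⟨[], 7, true, [0, 2, 4, 6, 4, 5, 6, 4]⟩],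
  [⟨[], 7, false, []⟩, ⟨[14, 11, 11, 13, 12], 47, false, [2, 5, 3, 6, 5, 3, 6, 2]⟩, ⟨[44, 44, 44, 44, 44, 42, 42, 42, 42, 42], 48, false, [1, 4, 5, 6, 4, 6, 2, 4, 10]⟩, ⟨[52, 52, 52, 52, 52, 52, 52, 52, 42, 42, 42, 42, 42], 40, true, [4, 6, 1, 4, 5, 3, 6, 2, 4]⟩, ⟨[], 7, true, [2, 3, 4, 6, 4, 5, 6, 4, 10]⟩],
  [⟨[], 7, false, []⟩, ⟨[14, 11, 11, 13, 12], 47, false, [2, 5, 3, 6, 5, 3, 6]⟩, ⟨[52, 52, 52, 52, 52, 52, 52, 52, 52, 52, 52, 52, 52, 52, 52, 52, 52, 52, 52, 52, 52, 52, 52, 52], 47, true, [5, 10, 5, 6, 5, 6, 2, 10]⟩, ⟨[], 7, true, [1, 2, 3, 4, 6, 4, 6, 5]⟩],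
  [⟨[], 7, false, []⟩, ⟨[14, 11, 11, 13, 12], 47, false, [2, 5, 3, 6, 5, 6, 2]⟩, ⟨[44, 44, 44, 44, 44, 52, 52, 52, 52, 52, 52, 52, 52, 52, 52, 52, 52, 52, 52, 52, 52], 47, true, [0, 2, 3, 6, 5, 6, 10, 5, 3, 6, 5, 6]⟩, ⟨[], 7, true, [2, 3, 5, 6, 4, 6, 2, 5, 6, 2]⟩],
  [⟨[], 7, false, []⟩, ⟨[10], 40, false, [2, 4, 6, 4, 6, 4, 6, 10]⟩, ⟨[52, 52, 52, 52, 52, 52, 52, 52, 52, 52, 52, 52, 52, 52, 52, 52], 48, false, [1, 4, 6, 10, 5, 3, 6, 2, 4, 6]⟩, ⟨[42, 42, 42, 42, 42, 52, 52, 52, 52, 52, 52, 52, 52, 52, 52, 52, 52, 52, 52, 52, 52], 40, true, [6, 2, 6, 10, 5, 3, 6, 2, 5]⟩, ⟨[], 7, true, [3, 5, 6, 2, 5]⟩]]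

/-- images of the cosets under letter 12 -/
def cosetImg12 : List ℕ := [0, 1, 2, 10, 11, 5, 18, 7, 23, 3, 9, 12, 4, 28, 14, 33, 36, 6, 17, 40, 45, 48, 51, 25, 58, 8, 61, 13, 27, 26, 67, 70, 42, 35, 77, 15, 39, 81, 82, 16, 41, 19, 74, 86, 20, 44, 43, 34, 49, 21, 62, 54, 90, 99, 22, 24, 91, 75, 55, 103, 112, 29, 92, 59, 93, 96, 30, 66, 114, 116, 71, 31, 84, 38, 32, 109, 97, 47, 37, 72, 85, 78, 73, 87, 79, 98, 46, 105, 76, 107, 94, 104, 50, 111, 52, 108, 113, 88, 80, 102, 118, 60, 53, 63, 56, 83, 69, 117, 110, 57, 95, 64, 101, 65, 115, 68, 106, 89, 119, 100]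

/-- traces for letter 12 -/
def cosetUses12 : List (List Use) := [
  [],
  [⟨[], 7, false, []⟩, ⟨[], 7, true, [0, 1, 3]⟩],
  [⟨[], 7, false, []⟩, ⟨[], 7, true, [0, 1, 3]⟩],
  [⟨[], 7, false, []⟩, ⟨[], 7, true, [0, 1]⟩],
  [⟨[], 7, false, []⟩, ⟨[], 7, true, [0, 1]⟩],
  [⟨[], 7, false, []⟩, ⟨[], 7, true, [0, 1, 3]⟩],
  [⟨[], 7, false, []⟩, ⟨[], 7, true, [0, 1]⟩],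
  [⟨[], 7, false, []⟩, ⟨[10], 40, false, [4, 6, 1, 4, 6, 4, 6, 10]⟩, ⟨[], 40, true, [1, 4, 6, 4, 6, 4, 6, 10]⟩, ⟨[], 7, true, [0, 1, 2, 10]⟩],
  [⟨[], 7, false, []⟩, ⟨[], 7, true, [0, 1]⟩],
  [⟨[], 7, false, []⟩, ⟨[], 7, true, [0, 1, 3]⟩],
  [⟨[], 7, false, []⟩, ⟨[], 7, true, [0, 1, 10]⟩],
  [⟨[], 7, false, []⟩, ⟨[], 7, true, [0, 1, 10]⟩],
  [⟨[], 7, false, []⟩, ⟨[], 7, true, [0, 1, 3]⟩],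
  [⟨[], 7, false, []⟩, ⟨[], 7, true, [0, 1]⟩],
  [⟨[], 7, false, []⟩, ⟨[10], 40, false, [2, 4, 6, 4, 6, 4, 6, 10]⟩, ⟨[], 40, true, [0, 2, 4, 6, 4, 6, 4, 6, 10]⟩, ⟨[], 7, true, [0, 1, 2, 10]⟩],
  [⟨[], 7, false, []⟩, ⟨[], 7, true, [0, 1]⟩],
  [⟨[], 7, false, []⟩, ⟨[], 7, true, [0, 1]⟩],
  [⟨[], 7, false, []⟩, ⟨[], 7, true, [0, 1, 3]⟩],
  [⟨[], 7, false, []⟩, ⟨[], 7, true, [0, 1, 10]⟩],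
  [⟨[], 7, false, []⟩, ⟨[14, 11, 11, 11, 11, 13, 12], 54, false, [0, 2, 4, 6, 4, 6, 5, 6, 10]⟩, ⟨[], 54, false, [0, 2, 5, 6, 4, 6, 5, 6, 5, 10]⟩, ⟨[], 7, true, [2, 6, 2, 6, 5, 3, 6, 2, 4, 5, 6]⟩],
  [⟨[], 7, false, []⟩, ⟨[10], 40, false, [4, 6, 1, 4, 6, 4, 6, 10]⟩, ⟨[], 40, true, [1, 3, 4, 6, 4, 6, 4, 6]⟩, ⟨[], 7, true, [0, 1, 2]⟩],
  [⟨[], 7, false, []⟩, ⟨[10], 40, false, [4, 6, 1, 4, 6, 4, 6, 10]⟩, ⟨[], 40, true, [1, 3, 4, 6, 4, 6, 4, 6]⟩, ⟨[], 7, true, [0, 1, 2]⟩],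
  [⟨[], 7, false, []⟩, ⟨[], 7, true, [0, 1]⟩],
  [⟨[], 7, false, []⟩, ⟨[], 7, true, [0, 1, 10]⟩],
  [⟨[], 7, false, []⟩, ⟨[14, 11, 11, 13, 12], 47, false, [2, 5, 3, 6, 5, 3, 6, 2]⟩, ⟨[], 47, true, [0, 5, 6, 10, 5, 6, 10]⟩, ⟨[], 7, true, [1, 2, 3, 4, 6, 4, 6, 5]⟩],
  [⟨[], 7, false, []⟩, ⟨[], 7, true, [0, 1, 3]⟩],
  [⟨[], 7, false, []⟩, ⟨[], 7, true, [0, 1]⟩],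
  [⟨[], 7, false, []⟩, ⟨[], 7, true, [0, 1, 3]⟩],
  [⟨[], 7, false, []⟩, ⟨[], 7, true, [0, 1, 10]⟩],
  [⟨[], 7, false, []⟩, ⟨[14, 11, 11, 13, 12], 54, false, [0, 3, 6, 5, 3, 6, 5, 6, 4, 6]⟩, ⟨[], 7, true, [1, 2, 3, 6, 4, 6, 2, 5, 6, 2]⟩],
  [⟨[], 7, false, []⟩, ⟨[10], 40, false, [2, 4, 6, 4, 6, 4, 6, 10]⟩, ⟨[], 40, true, [0, 2, 3, 4, 6, 4, 6, 4, 6]⟩, ⟨[], 7, true, [0, 1, 2]⟩],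
  [⟨[], 7, false, []⟩, ⟨[10], 40, false, [2, 4, 6, 4, 6, 4, 6, 10]⟩, ⟨[], 40, true, [0, 2, 3, 4, 6, 4, 6, 4, 6]⟩, ⟨[], 7, true, [0, 1, 2]⟩],
  [⟨[], 7, false, []⟩, ⟨[14, 11, 11, 13, 12], 54, false, [0, 2, 4, 6, 4, 6, 5, 3, 6]⟩, ⟨[], 7, true, [0, 2, 3, 4, 6, 4, 5, 10]⟩],
  [⟨[], 7, false, []⟩, ⟨[], 7, true, [0, 1, 10]⟩],
  [⟨[], 7, false, []⟩, ⟨[14, 11, 11, 13, 12], 47, false, [0, 10, 5, 6, 10, 5, 3, 6]⟩, ⟨[], 47, true, [5, 10, 5, 6, 5, 6, 2, 10]⟩, ⟨[], 7, true, [1, 2, 3, 4, 6, 4, 6, 5]⟩],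
  [⟨[], 7, false, []⟩, ⟨[], 7, true, [0, 1, 3]⟩],
  [⟨[], 7, false, []⟩, ⟨[], 7, true, [0, 1]⟩],
  [⟨[], 7, false, []⟩, ⟨[14, 11, 11, 13, 12], 54, false, [0, 2, 4, 6, 4, 6, 5, 3, 6, 2]⟩, ⟨[], 54, false, [2, 3, 5, 6, 2, 6, 5, 3, 6, 4]⟩, ⟨[], 7, true, [2, 6, 2, 6, 5, 3, 6, 2, 4, 5, 6]⟩],
  [⟨[], 7, false, []⟩, ⟨[], 7, true, [0, 1]⟩],
  [⟨[], 7, false, []⟩, ⟨[], 7, true, [0, 1]⟩],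
  [⟨[], 7, false, []⟩, ⟨[14, 11, 11, 13, 12], 54, false, [0, 2, 4, 6, 4, 6, 5, 6]⟩, ⟨[], 54, false, [0, 3, 6, 5, 6, 2, 6, 4, 5]⟩, ⟨[], 7, true, [4, 6, 5, 6, 10, 5, 6, 2, 4, 5]⟩],
  [⟨[], 7, false, []⟩, ⟨[14, 11, 11, 13, 12], 54, false, [0, 2, 4, 6, 4, 6, 5, 3, 6]⟩, ⟨[], 54, false, [0, 2, 5, 6, 4, 6, 5, 6, 5]⟩, ⟨[], 7, true, [2, 6, 2, 6, 5, 3, 6, 2, 4, 5, 6]⟩],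
  [⟨[], 7, false, []⟩, ⟨[14, 13, 12], 54, false, [0, 2, 4, 6, 4, 6, 5, 6, 5, 10]⟩, ⟨[], 7, true, [1, 2, 3, 6, 4, 6, 2, 5, 6, 2]⟩],
  [⟨[], 7, false, []⟩, ⟨[10], 40, false, [4, 6, 1, 4, 6, 4, 6, 10]⟩, ⟨[], 40, true, [1, 3, 4, 6, 4, 6, 4, 6]⟩, ⟨[], 7, true, [0, 1, 2]⟩],
  [⟨[], 7, false, []⟩, ⟨[10], 40, false, [4, 6, 1, 4, 6, 4, 6, 10]⟩, ⟨[], 40, true, [1, 4, 6, 4, 6, 4, 6, 10]⟩, ⟨[], 7, true, [0, 1, 2, 10]⟩],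
  [⟨[], 7, false, []⟩, ⟨[10], 40, false, [4, 6, 1, 4, 6, 4, 6, 10]⟩, ⟨[], 40, true, [1, 4, 6, 4, 6, 4, 6]⟩, ⟨[], 7, true, [0, 1, 2, 3]⟩],
  [⟨[], 7, false, []⟩, ⟨[10], 40, false, [4, 6, 1, 4, 6, 4, 6, 10]⟩, ⟨[52, 52, 52, 52, 52, 52, 52, 52, 52, 52, 52, 52, 52, 52, 52, 52], 48, false, [0, 5, 3, 6, 2, 6, 5, 3, 6]⟩, ⟨[52, 52, 52, 52, 52, 52, 52, 52, 42, 42, 42, 42, 42], 40, true, [2, 5, 6, 1, 2, 5, 3]⟩, ⟨[], 7, true, [5, 6, 5, 6, 2, 6]⟩],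
  [⟨[], 7, false, []⟩, ⟨[14, 11, 11, 13, 12], 47, false, [0, 10, 5, 6, 10, 5, 3, 6]⟩, ⟨[52, 52, 52, 52, 52, 52, 52, 52, 52, 52, 52, 52, 52, 52, 52, 52, 42, 42, 42, 42, 42], 40, true, [0, 4, 6, 4, 10, 5, 6, 4]⟩, ⟨[], 7, true, [1, 6, 2, 4, 6, 10, 5, 6, 4, 6]⟩],
  [⟨[], 7, false, []⟩, ⟨[10], 40, false, [4, 6, 1, 4, 6, 4, 6, 10]⟩, ⟨[], 40, true, [1, 4, 6, 4, 6, 4, 6]⟩, ⟨[], 7, true, [0, 1, 2, 3]⟩],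
  [⟨[], 7, false, []⟩, ⟨[10], 40, false, [4, 6, 1, 4, 6, 4, 6, 10]⟩, ⟨[], 40, true, [1, 4, 6, 4, 6, 4, 6, 10]⟩, ⟨[], 7, true, [0, 1, 2, 10]⟩],
  [⟨[], 7, false, []⟩, ⟨[], 7, true, [0, 1, 3]⟩],
  [⟨[], 7, false, []⟩, ⟨[], 7, true, [0, 1]⟩],
  [⟨[], 7, false, []⟩, ⟨[10], 40, false, [4, 6, 1, 4, 6, 4, 6, 10]⟩, ⟨[52, 52, 52, 52, 52, 52, 52, 52], 47, true, [3, 4, 6, 2, 6, 4, 6, 5, 6]⟩, ⟨[], 7, true, [5, 3, 5, 6, 5, 6, 4, 6, 4]⟩],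
  [⟨[], 7, false, []⟩, ⟨[], 7, true, [0, 1]⟩],
  [⟨[], 7, false, []⟩, ⟨[], 7, true, [0, 1]⟩],
  [⟨[], 7, false, []⟩, ⟨[14, 11, 11, 13, 12], 47, false, [2, 5, 3, 6, 5, 3, 6, 2]⟩, ⟨[], 47, true, [0, 5, 6, 10, 5, 6]⟩, ⟨[], 7, true, [1, 2, 3, 4, 6, 4, 6, 5]⟩],
  [⟨[], 7, false, []⟩, ⟨[10], 40, false, [4, 5, 6, 4, 6, 4, 6, 10]⟩, ⟨[52, 52, 52, 52, 52, 52, 52, 52, 52, 52, 52, 52, 52, 52, 52, 52], 47, true, [6, 2, 5, 6, 10, 5, 6, 2, 10]⟩, ⟨[], 7, true, [3, 6, 4, 5, 10, 5, 6, 5, 3, 6]⟩],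
  [⟨[], 7, false, []⟩, ⟨[14, 11, 11, 13, 12], 47, false, [0, 10, 5, 6, 10, 5, 3, 6]⟩, ⟨[52, 52, 52, 52, 52, 52, 52, 52, 42, 42, 42, 42, 42], 47, true, [3, 5, 6, 2]⟩, ⟨[], 7, true, [0, 10, 5, 6, 4, 10, 5, 6, 2, 6, 2]⟩],
  [⟨[], 7, false, []⟩, ⟨[14, 11, 11, 13, 12], 47, false, [2, 5, 3, 6, 5, 6, 2]⟩, ⟨[], 47, true, [0, 5, 6, 10, 5, 6, 10]⟩, ⟨[], 7, true, [1, 2, 3, 4, 6, 4, 6, 5]⟩],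
  [⟨[], 7, false, []⟩, ⟨[], 7, true, [0, 1, 2, 10, 5]⟩],
  [⟨[], 7, false, []⟩, ⟨[], 7, true, [0, 1]⟩],
  [⟨[], 7, false, []⟩, ⟨[14, 11, 11, 13, 12], 54, false, [5, 3, 6, 4, 6, 5, 6, 2, 6]⟩, ⟨[], 7, true, [0, 2, 3, 4, 6, 4, 5]⟩],
  [⟨[], 7, false, []⟩, ⟨[], 7, true, [0, 1, 10]⟩],
  [⟨[], 7, false, []⟩, ⟨[14, 11, 11, 13, 12], 54, false, [0, 3, 6, 5, 3, 6, 5, 6, 4, 6]⟩, ⟨[], 7, true, [1, 2, 3, 6, 4, 6, 2, 5, 6, 2]⟩],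
  [⟨[], 7, false, []⟩, ⟨[14, 11, 11, 11, 11, 13, 12], 54, false, [0, 3, 6, 5, 3, 6, 5, 6, 4, 6]⟩, ⟨[], 7, true, [1, 2, 3, 6, 4, 6, 2, 5, 6, 2]⟩],
  [⟨[], 7, false, []⟩, ⟨[14, 11, 11, 13, 12], 47, false, [2, 5, 3, 6, 5, 3, 6]⟩, ⟨[52, 52, 52, 52, 52, 52, 52, 52, 52, 52, 52, 52, 52, 52, 52, 52, 42, 42, 42, 42, 42], 40, true, [0, 4, 6, 4, 10, 5, 6, 2, 4]⟩, ⟨[], 7, true, [1, 6, 2, 4, 6, 10, 5, 6, 4, 6]⟩],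
  [⟨[], 7, false, []⟩, ⟨[10], 40, false, [2, 4, 6, 4, 6, 4, 6, 10]⟩, ⟨[], 40, true, [0, 2, 4, 6, 4, 6, 4, 6, 10]⟩, ⟨[], 7, true, [0, 1, 2, 10]⟩],
  [⟨[], 7, false, []⟩, ⟨[10], 40, false, [2, 4, 6, 4, 6, 4, 6, 10]⟩, ⟨[], 40, true, [0, 2, 4, 6, 4, 6, 4, 6]⟩, ⟨[], 7, true, [0, 1, 2, 3]⟩],
  [⟨[], 7, false, []⟩, ⟨[10], 40, false, [2, 4, 6, 4, 6, 4, 6, 10]⟩, ⟨[44, 44, 44, 44, 44, 52, 52, 52, 52, 52, 52, 52, 52, 52, 52, 52, 52, 52, 52, 52, 52], 48, false, [1, 10, 5, 6, 5, 6, 2, 6]⟩, ⟨[42, 42, 42, 42, 42], 48, false, [4, 6, 2, 5, 6, 2, 4, 5, 6, 10]⟩, ⟨[52, 52, 52, 52, 52, 52, 52, 52, 42, 42, 42, 42, 42], 40, true, [1, 4, 6, 10, 5, 6, 4, 6, 2, 10]⟩, ⟨[], 7, true, [1, 6, 2, 4, 6, 10, 5, 3, 6, 4]⟩],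
  [⟨[], 7, false, []⟩, ⟨[10], 40, false, [2, 4, 6, 4, 6, 4, 6, 10]⟩, ⟨[52, 52, 52, 52, 52, 52, 52, 52, 52, 52, 52, 52, 52, 52, 52, 52], 48, false, [1, 4, 6, 4, 5, 3, 5, 6, 2, 4]⟩, ⟨[42, 42, 42, 42, 42, 52, 52, 52, 52, 52, 52, 52, 52, 52, 52, 52, 52, 52, 52, 52, 52], 40, true, [6, 2, 6, 10, 5, 6, 5, 3]⟩, ⟨[], 7, true, [3, 5, 6, 2, 5]⟩],
  [⟨[], 7, false, []⟩, ⟨[10], 40, false, [2, 4, 6, 4, 6, 4, 6, 10]⟩, ⟨[], 40, true, [0, 2, 4, 6, 4, 6, 4, 6]⟩, ⟨[], 7, true, [0, 1, 2, 3]⟩],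
  [⟨[], 7, false, []⟩, ⟨[10], 40, false, [2, 4, 6, 4, 6, 4, 6, 10]⟩, ⟨[], 40, true, [0, 2, 4, 6, 4, 6, 4, 6, 10]⟩, ⟨[], 7, true, [0, 1, 2, 10]⟩],
  [⟨[], 7, false, []⟩, ⟨[], 7, true, [0, 1, 3, 5]⟩],
  [⟨[], 7, false, []⟩, ⟨[], 7, true, [0, 1, 3]⟩],
  [⟨[], 7, false, []⟩, ⟨[], 7, true, [0, 1]⟩],
  [⟨[], 7, false, []⟩, ⟨[14, 11, 11, 13, 12], 47, false, [2, 5, 3, 6, 5, 3, 6, 2]⟩, ⟨[44, 44, 44, 44, 44, 52, 52, 52, 52, 52, 52, 52, 52, 52, 52, 52, 52, 52, 52, 52, 52], 47, true, [0, 2, 3, 6, 5, 6, 10, 5, 3, 6, 5, 6]⟩, ⟨[], 7, true, [2, 3, 5, 6, 4, 6, 2, 5, 6, 2]⟩],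
  [⟨[], 7, false, []⟩, ⟨[14, 11, 11, 13, 12], 47, false, [2, 5, 3, 6, 5, 3, 6]⟩, ⟨[44, 44, 44, 44, 44, 42, 42, 42, 42, 42, 42, 42, 42, 42, 42], 47, true, [0, 2, 3, 6, 5, 6, 10, 5, 3, 6, 5, 6]⟩, ⟨[], 7, true, [2, 3, 5, 6, 4, 6, 2, 5, 6, 2]⟩],
  [⟨[], 7, false, []⟩, ⟨[10], 40, false, [4, 6, 1, 4, 6, 4, 6, 10]⟩, ⟨[44, 44, 44, 44, 44, 44, 44, 44, 44, 44, 52, 52, 52, 52, 52, 52, 52, 52], 47, true, [0, 5, 3, 6, 2, 5, 6, 5]⟩, ⟨[], 7, true, [5, 3, 5, 6, 5, 6, 4, 6, 4]⟩],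
  [⟨[], 7, false, []⟩, ⟨[14, 11, 11, 13, 12], 54, false, [0, 2, 4, 6, 4, 6, 5, 3, 6, 2]⟩, ⟨[], 54, false, [0, 2, 5, 6, 4, 6, 5, 6, 2, 5]⟩, ⟨[], 7, true, [2, 6, 2, 6, 5, 3, 6, 2, 4, 5, 6]⟩],
  [⟨[], 7, false, []⟩, ⟨[], 7, true, [0, 1, 5, 10]⟩],
  [⟨[], 7, false, []⟩, ⟨[14, 12], 54, false, [5, 10, 5, 6, 2, 4, 5, 6, 5]⟩, ⟨[], 7, true, [1, 2, 3, 6, 4, 6, 2, 5, 6, 2]⟩],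
  [⟨[], 7, false, []⟩, ⟨[14, 11, 11, 13, 12], 54, false, [0, 2, 4, 6, 4, 6, 5, 6, 2]⟩, ⟨[], 54, false, [2, 3, 5, 6, 2, 6, 5, 3, 6, 4]⟩, ⟨[], 7, true, [2, 6, 2, 6, 5, 3, 6, 2, 4, 5, 6]⟩],
  [⟨[], 7, false, []⟩, ⟨[], 7, true, [0, 1, 10]⟩],
  [⟨[], 7, false, []⟩, ⟨[10], 40, false, [4, 6, 1, 4, 6, 4, 6, 10]⟩, ⟨[], 40, true, [0, 2, 4, 6, 4, 6, 4, 6, 5, 10]⟩, ⟨[], 7, true, [0, 1, 2, 10]⟩],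
  [⟨[], 7, false, []⟩, ⟨[], 7, true, [0, 1]⟩],
  [⟨[], 7, false, []⟩, ⟨[], 7, true, [0, 1]⟩],
  [⟨[], 7, false, []⟩, ⟨[10], 40, false, [4, 6, 1, 4, 6, 4, 6, 10]⟩, ⟨[52, 52, 52, 52, 52, 52, 52, 52, 52, 52, 52, 52, 52, 52, 52, 52], 48, false, [0, 5, 3, 6, 2, 6, 5, 6, 2]⟩, ⟨[52, 52, 52, 52, 52, 52, 52, 52, 42, 42, 42, 42, 42], 40, true, [0, 2, 5, 6, 2, 5, 3]⟩, ⟨[], 7, true, [2, 5, 6, 4, 6, 2, 6, 4, 5, 6]⟩],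
  [⟨[], 7, false, []⟩, ⟨[14, 11, 11, 13, 12], 47, false, [2, 5, 3, 6, 5, 6, 2]⟩, ⟨[52, 52, 52, 52, 52, 52, 52, 52, 52, 52, 52, 52, 52, 52, 52, 52, 42, 42, 42, 42, 42], 40, true, [0, 4, 6, 4, 10, 5, 3, 6, 4]⟩, ⟨[], 7, true, [1, 2, 4, 6, 4, 5, 3, 5, 6, 4, 6]⟩],
  [⟨[], 7, false, []⟩, ⟨[14, 11, 11, 13, 12], 47, false, [0, 10, 5, 6, 10, 5, 3, 6]⟩, ⟨[44, 44, 44, 44, 44, 42, 42, 42, 42, 42], 51, false, [2, 4, 10, 5, 6, 1, 4, 5, 6, 4]⟩, ⟨[52, 52, 52, 52, 52, 52, 52, 52, 42, 42, 42, 42, 42], 40, true, [4, 6, 4, 6, 4, 10, 5, 6, 5]⟩, ⟨[], 7, true, [6, 2, 5, 6, 5, 10]⟩],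
  [⟨[], 7, false, []⟩, ⟨[14, 11, 11, 13, 12], 47, false, [2, 5, 3, 6, 5, 3, 6, 2]⟩, ⟨[52, 52, 52, 52, 52, 52, 52, 52, 42, 42, 42, 42, 42], 48, false, [6, 5, 6, 5, 10, 5, 6]⟩, ⟨[52, 52, 52, 52, 52, 52, 52, 52, 42, 42, 42, 42, 42], 40, true, [1, 3, 4, 5, 6, 2, 6, 4, 6, 5]⟩, ⟨[], 7, true, [10, 5, 6, 5, 3, 6, 2]⟩],
  [⟨[], 7, false, []⟩, ⟨[14, 11, 11, 13, 12], 47, false, [2, 5, 3, 6, 5, 6]⟩, ⟨[52, 52, 52, 52, 52, 52, 52, 52, 52, 52, 52, 52, 52, 52, 52, 52, 42, 42, 42, 42, 42], 40, true, [0, 4, 6, 4, 10, 5, 3, 6, 4]⟩, ⟨[], 7, true, [1, 2, 4, 6, 4, 5, 3, 5, 6, 4, 6]⟩],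
  [⟨[], 7, false, []⟩, ⟨[14, 11, 11, 13, 12], 47, false, [2, 5, 3, 6, 5, 6, 2]⟩, ⟨[52, 52, 52, 52, 52, 52, 52, 52, 42, 42, 42, 42, 42], 40, true, [3, 5, 3, 6, 5, 6, 10, 5, 10]⟩, ⟨[], 7, true, [0, 5, 6, 10, 5, 6, 10, 5, 6]⟩],
  [⟨[], 7, false, []⟩, ⟨[], 7, true, [0, 1]⟩],
  [⟨[], 7, false, []⟩, ⟨[], 7, true, [0, 1, 10]⟩],
  [⟨[], 7, false, []⟩, ⟨[14, 11, 11, 13, 12], 47, false, [2, 5, 3, 6, 5, 3, 6]⟩, ⟨[], 47, true, [0, 5, 6, 10, 5, 6, 2]⟩, ⟨[], 7, true, [1, 2, 3, 4, 6, 4, 6, 5]⟩],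
  [⟨[], 7, false, []⟩, ⟨[14, 11, 11, 13, 12], 47, false, [2, 5, 3, 6, 5, 3, 6, 2]⟩, ⟨[52, 52, 52, 52, 52, 52, 52, 52, 42, 42, 42, 42, 42, 52, 52, 52, 52, 52, 52, 52, 52], 47, true, [2, 10, 5, 6, 1, 5, 10, 5, 6, 2]⟩, ⟨[], 7, true, [2, 5, 3, 6, 4, 5, 6]⟩],
  [⟨[], 7, false, []⟩, ⟨[10], 40, false, [2, 4, 6, 4, 6, 4, 6, 10]⟩, ⟨[44, 44, 44, 44, 44, 44, 44, 44, 44, 44, 52, 52, 52, 52, 52, 52, 52, 52], 47, true, [3, 4, 6, 2, 6, 4, 6, 5, 6]⟩, ⟨[], 7, true, [5, 3, 5, 6, 5, 6, 4, 6, 4]⟩],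
  [⟨[], 7, false, []⟩, ⟨[10], 40, false, [4, 6, 1, 4, 6, 4, 6, 10]⟩, ⟨[52, 52, 52, 52, 52, 52, 52, 52, 52, 52, 52, 52, 52, 52, 52, 52], 48, false, [0, 5, 3, 6, 2, 6, 5, 6, 2]⟩, ⟨[52, 52, 52, 52, 52, 52, 52, 52, 44, 44, 44, 44, 44], 47, true, [0, 2, 4, 6, 5, 3, 6, 2, 4, 5]⟩, ⟨[], 7, true, [1, 4, 10, 5, 6, 4, 10, 5]⟩],
  [⟨[], 7, false, []⟩, ⟨[14, 11, 11, 13, 12], 54, false, [0, 2, 4, 6, 4, 6, 5, 3, 6, 2]⟩, ⟨[], 7, true, [0, 2, 4, 6, 4]⟩],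
  [⟨[], 7, false, []⟩, ⟨[], 7, true, [0, 1]⟩],
  [⟨[], 7, false, []⟩, ⟨[14, 11, 11, 13, 12], 47, false, [0, 10, 5, 6, 10, 5, 3, 6]⟩, ⟨[44, 44, 44, 44, 44, 42, 42, 42, 42, 42, 42, 42, 42, 42, 42], 47, true, [3, 4, 5, 6, 4, 5, 6, 4, 5, 6, 10]⟩, ⟨[], 7, true, [2, 6, 1, 4, 5, 6, 2, 6, 10, 5]⟩],
  [⟨[], 7, false, []⟩, ⟨[], 7, true, [0, 1, 3]⟩],
  [⟨[], 7, false, []⟩, ⟨[], 7, true, [0, 1]⟩],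
  [⟨[], 7, false, []⟩, ⟨[14, 11, 11, 13, 12], 54, false, [5, 3, 6, 4, 6, 5, 6, 2, 6]⟩, ⟨[], 7, true, [0, 6, 2, 4, 6, 10]⟩],
  [⟨[], 7, false, []⟩, ⟨[14, 11, 11, 13, 12], 47, false, [2, 5, 3, 6, 5, 3, 6, 2]⟩, ⟨[], 47, true, [0, 5, 6, 10, 5, 6]⟩, ⟨[], 7, true, [1, 2, 3, 4, 6, 4, 6, 5]⟩],
  [⟨[], 7, false, []⟩, ⟨[10], 40, false, [4, 5, 6, 4, 6, 4, 6, 10, 5]⟩, ⟨[44, 44, 44, 44, 44, 52, 52, 52, 52, 52, 52, 52, 52], 47, true, [6, 5, 6, 2, 6, 10, 5, 6, 2]⟩, ⟨[], 7, true, [1, 5, 3, 5, 6, 2, 4, 5, 6, 2]⟩],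
  [⟨[], 7, false, []⟩, ⟨[10], 40, false, [2, 4, 6, 4, 6, 4, 6, 10]⟩, ⟨[44, 44, 44, 44, 44, 52, 52, 52, 52, 52, 52, 52, 52], 47, true, [6, 5, 6, 2, 6, 10, 5, 6, 2]⟩, ⟨[], 7, true, [1, 5, 3, 5, 6, 2, 4, 5, 6, 2]⟩],
  [⟨[], 7, false, []⟩, ⟨[14, 11, 11, 13, 12], 47, false, [0, 10, 5, 6, 10, 5, 3, 6]⟩, ⟨[52, 52, 52, 52, 52, 52, 52, 52, 42, 42, 42, 42, 42], 47, true, [3, 5, 6, 2]⟩, ⟨[], 7, true, [0, 10, 5, 6, 4, 10, 5, 6, 2, 6, 2]⟩],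
  [⟨[], 7, false, []⟩, ⟨[14, 11, 11, 13, 12], 47, false, [2, 5, 3, 6, 5, 3, 6, 2]⟩, ⟨[], 47, true, [0, 5, 6, 10, 5, 6, 10]⟩, ⟨[], 7, true, [1, 2, 3, 4, 6, 4, 6, 5]⟩],
  [⟨[], 7, false, []⟩, ⟨[14, 11, 11, 13, 12], 47, false, [2, 5, 3, 6, 5, 3, 6, 2]⟩, ⟨[], 47, true, [0, 5, 6, 10, 5, 6, 10]⟩, ⟨[], 7, true, [1, 2, 3, 4, 6, 4, 6, 5]⟩],
  [⟨[], 7, false, []⟩, ⟨[14, 11, 11, 13, 12], 47, false, [2, 5, 3, 6, 5, 3, 6]⟩, ⟨[52, 52, 52, 52, 52, 52, 52, 52, 42, 42, 42, 42, 42, 42, 42, 42, 42, 42], 47, true, [2, 3, 6, 4, 6, 2, 6, 4, 5, 6]⟩, ⟨[], 7, true, [2, 5, 3, 6, 2, 4, 5, 6, 2]⟩],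
  [⟨[], 7, false, []⟩, ⟨[14, 11, 11, 13, 12], 54, false, [5, 3, 6, 4, 6, 5, 6, 2, 6]⟩, ⟨[], 7, true, [0, 2, 3, 4, 6, 4, 5, 10]⟩],
  [⟨[], 7, false, []⟩, ⟨[], 7, true, [0, 1, 10]⟩],
  [⟨[], 7, false, []⟩, ⟨[10], 40, false, [2, 4, 6, 4, 6, 4, 6, 10]⟩, ⟨[], 40, true, [0, 2, 3, 4, 6, 4, 6, 4, 6]⟩, ⟨[], 7, true, [0, 1, 2]⟩],
  [⟨[], 7, false, []⟩, ⟨[10], 40, false, [2, 4, 6, 4, 6, 4, 6, 10]⟩, ⟨[52, 52, 52, 52, 52, 52, 52, 52, 52, 52, 52, 52, 52, 52, 52, 52], 48, false, [1, 4, 6, 10, 5, 3, 6, 2, 4, 6]⟩, ⟨[42, 42, 42, 42, 42], 48, false, [4, 5, 6, 1, 4, 5, 3, 6, 2, 4]⟩, ⟨[52, 52, 52, 52, 52, 52, 52, 52, 42, 42, 42, 42, 42], 40, true, [1, 4, 6, 4, 10, 5, 6, 2, 4]⟩, ⟨[], 7, true, [0, 2, 4, 6, 4, 10, 5, 6, 4]⟩],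
  [⟨[], 7, false, []⟩, ⟨[10], 40, false, [2, 4, 6, 4, 6, 4, 6, 10]⟩, ⟨[52, 52, 52, 52, 52, 52, 52, 52, 52, 52, 52, 52, 52, 52, 52, 52], 48, false, [1, 4, 6, 4, 5, 3, 5, 6, 2, 4]⟩, ⟨[42, 42, 42, 42, 42], 48, false, [4, 5, 6, 1, 4, 5, 6, 2, 4]⟩, ⟨[52, 52, 52, 52, 52, 52, 52, 52, 42, 42, 42, 42, 42], 40, true, [1, 4, 6, 4, 10, 5, 6, 2, 4, 10]⟩, ⟨[], 7, true, [0, 2, 4, 6, 4, 10, 5, 3, 6, 4]⟩],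
  [⟨[], 7, false, []⟩, ⟨[14, 11, 11, 13, 12], 47, false, [2, 5, 3, 6, 5, 6, 2]⟩, ⟨[42, 42, 42, 42, 42, 42, 42, 42, 42, 42], 48, false, [2, 4, 5, 6, 2, 5, 6, 4, 10]⟩, ⟨[52, 52, 52, 52, 52, 52, 52, 52, 42, 42, 42, 42, 42], 40, true, [1, 2, 5, 6, 10, 5, 6, 2, 10, 5]⟩, ⟨[], 7, true, [6, 2, 6, 4, 6, 10, 5, 3, 6, 4]⟩],
  [⟨[], 7, false, []⟩, ⟨[10], 40, false, [4, 6, 1, 4, 6, 4, 6, 10]⟩, ⟨[52, 52, 52, 52, 52, 52, 52, 52, 52, 52, 52, 52, 52, 52, 52, 52], 48, false, [0, 5, 3, 6, 2, 6, 5, 6, 2]⟩, ⟨[52, 52, 52, 52, 52, 52, 52, 52, 42, 42, 42, 42, 42, 42, 42, 42, 42, 42], 47, true, [1, 4, 5, 6, 10, 5, 6, 4, 6, 2, 10]⟩, ⟨[], 7, true, [1, 6, 4, 5, 6, 5, 3, 5]⟩],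
  [⟨[], 7, false, []⟩, ⟨[10], 40, false, [4, 5, 6, 4, 6, 4, 6, 10, 5]⟩, ⟨[42, 42, 42, 42, 42], 47, true, [2, 4, 5, 3, 6, 4, 5, 6, 4]⟩, ⟨[], 7, true, [1, 4, 5, 3, 6, 4, 5, 6]⟩],
  [⟨[], 7, false, []⟩, ⟨[14, 11, 11, 11, 11, 13, 12], 47, false, [2, 5, 3, 6, 5, 3, 6, 5, 3]⟩, ⟨[], 40, true, [2, 3, 6, 5, 3, 6, 2, 6, 5, 6]⟩, ⟨[], 7, true, [1, 4, 5, 6, 4, 5, 6, 2, 4, 5, 10]⟩]]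

/-- images of the cosets under letter 14 -/
def cosetImg14 : List ℕ := [1, 0, 7, 4, 3, 14, 19, 2, 24, 11, 12, 9, 10, 29, 5, 34, 37, 40, 41, 6, 46, 42, 52, 55, 8, 58, 27, 26, 61, 13, 68, 63, 48, 47, 15, 77, 78, 16, 83, 81, 17, 18, 21, 44, 43, 86, 20, 33, 32, 74, 91, 94, 22, 100, 90, 23, 62, 107, 25, 71, 64, 28, 56, 31, 60, 97, 114, 115, 30, 79, 103, 59, 106, 87, 49, 89, 96, 35, 36, 69, 95, 39, 105, 38, 116, 110, 45, 73, 113, 75, 54, 50, 104, 101, 51, 80, 76, 65, 108, 119, 53, 93, 118, 70, 92, 82, 72, 57, 98, 117, 85, 112, 111, 88, 66, 67, 84, 109, 102, 99]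

/-- traces for letter 14 -/
def cosetUses14 : List (List Use) := [
  [⟨[], 7, false, []⟩, ⟨[], 7, true, [0, 1]⟩],
  [⟨[], 7, false, []⟩, ⟨[], 7, true, []⟩],
  [⟨[], 7, false, []⟩, ⟨[10], 40, false, [4, 6, 1, 4, 6, 4, 6, 10]⟩, ⟨[], 40, true, [1, 3, 4, 6, 4, 6, 4, 6]⟩, ⟨[], 7, true, [0, 1, 2]⟩],
  [⟨[], 7, false, []⟩, ⟨[], 15, true, [0, 5, 3, 6, 5, 10, 5, 6, 4, 6]⟩, ⟨[], 7, true, [0, 1]⟩],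
  [⟨[], 7, false, []⟩, ⟨[], 15, false, [2, 5, 3, 6, 1, 5, 6, 4, 6, 10]⟩, ⟨[], 7, true, []⟩],
  [⟨[], 7, false, []⟩, ⟨[10], 40, false, [2, 4, 6, 4, 6, 4, 6, 10]⟩, ⟨[], 40, true, [0, 2, 3, 4, 6, 4, 6, 4, 6]⟩, ⟨[], 7, true, [0, 1, 2]⟩],
  [⟨[], 7, false, []⟩, ⟨[14, 11, 11, 13, 12], 54, false, [0, 2, 4, 6, 4, 6, 5, 3, 6]⟩, ⟨[], 54, false, [0, 2, 5, 6, 4, 6, 5, 6, 5, 10]⟩, ⟨[], 7, true, [2, 6, 2, 6, 5, 3, 6, 2, 4, 5, 6]⟩],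
  [⟨[], 7, false, []⟩, ⟨[10], 40, false, [4, 6, 1, 4, 6, 4, 6, 10]⟩, ⟨[], 40, true, [0, 3, 4, 6, 4, 6, 4, 6]⟩, ⟨[], 7, true, [1, 4, 6, 4, 6, 2, 4]⟩],
  [⟨[], 7, false, []⟩, ⟨[14, 11, 11, 13, 12], 47, false, [2, 5, 3, 6, 5, 3, 6, 2]⟩, ⟨[], 47, true, [0, 5, 6, 10, 5, 6, 10]⟩, ⟨[], 7, true, [1, 2, 3, 4, 6, 4, 6, 5]⟩],
  [⟨[], 7, false, []⟩, ⟨[], 15, true, [0, 5, 6, 2, 10, 5, 6, 4, 6]⟩, ⟨[], 7, true, [0, 1, 3]⟩],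
  [⟨[], 7, false, []⟩, ⟨[11, 11], 15, true, [0, 5, 6, 5, 3, 5, 6, 4, 6]⟩, ⟨[], 7, true, [0, 1]⟩],
  [⟨[], 7, false, []⟩, ⟨[11, 11], 15, false, [2, 5, 3, 6, 1, 5, 6, 4, 6]⟩, ⟨[], 7, true, []⟩],
  [⟨[], 7, false, []⟩, ⟨[], 15, false, [2, 5, 3, 6, 1, 5, 3, 6, 4, 6]⟩, ⟨[], 7, true, [3]⟩],
  [⟨[], 7, false, []⟩, ⟨[14, 11, 11, 13, 12], 54, false, [5, 3, 6, 4, 6, 5, 6, 2, 6]⟩, ⟨[], 54, false, [0, 3, 6, 5, 3, 6, 2, 6, 4]⟩, ⟨[], 7, true, [2, 6, 2, 6, 5, 3, 6, 2, 4, 5, 6]⟩],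
  [⟨[], 7, false, []⟩, ⟨[10], 40, false, [2, 4, 6, 4, 6, 4, 6, 10]⟩, ⟨[], 40, true, [0, 3, 4, 6, 4, 6, 4, 6, 2]⟩, ⟨[], 7, true, [1, 4, 6, 4, 6, 2, 4]⟩],
  [⟨[], 7, false, []⟩, ⟨[14, 11, 11, 13, 12], 47, false, [0, 10, 5, 6, 10, 5, 3, 6]⟩, ⟨[], 47, true, [5, 10, 5, 6, 5, 6, 2, 10]⟩, ⟨[], 7, true, [1, 2, 3, 4, 6, 4, 6, 5]⟩],
  [⟨[], 7, false, []⟩, ⟨[14, 11, 11, 13, 12], 54, false, [0, 2, 4, 6, 4, 6, 5, 3, 6, 2]⟩, ⟨[], 54, false, [2, 3, 5, 6, 2, 6, 5, 3, 6, 4]⟩, ⟨[], 7, true, [2, 6, 2, 6, 5, 3, 6, 2, 4, 5, 6]⟩],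
  [⟨[], 7, false, []⟩, ⟨[14, 11, 11, 11, 11, 13, 12], 54, false, [0, 2, 4, 6, 4, 6, 5, 6, 10]⟩, ⟨[], 54, false, [0, 3, 6, 5, 6, 2, 6, 4, 5]⟩, ⟨[], 7, true, [4, 6, 5, 6, 10, 5, 6, 2, 4, 5]⟩],
  [⟨[], 7, false, []⟩, ⟨[14, 11, 11, 13, 12], 54, false, [0, 2, 4, 6, 4, 6, 5, 6]⟩, ⟨[], 54, false, [0, 2, 5, 6, 4, 6, 5, 6, 5]⟩, ⟨[], 7, true, [2, 6, 2, 6, 5, 3, 6, 2, 4, 5, 6]⟩],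
  [⟨[], 7, false, []⟩, ⟨[14, 11, 11, 13, 12], 54, false, [0, 2, 4, 6, 4, 6, 5, 3, 6]⟩, ⟨[], 54, false, [2, 5, 6, 4, 5, 6, 5, 6, 10]⟩, ⟨[], 7, true, [5, 3, 5, 6, 4, 6, 5, 6]⟩],
  [⟨[], 7, false, []⟩, ⟨[10], 40, false, [4, 6, 1, 4, 6, 4, 6, 10]⟩, ⟨[52, 52, 52, 52, 52, 52, 52, 52, 52, 52, 52, 52, 52, 52, 52, 52], 48, false, [0, 5, 3, 6, 2, 6, 5, 6, 2]⟩, ⟨[42, 42, 42, 42, 42], 48, false, [5, 6, 10, 5, 3, 6, 5, 6, 10]⟩, ⟨[52, 52, 52, 52, 52, 52, 52, 52, 42, 42, 42, 42, 42], 40, true, [1, 4, 6, 4, 10, 5, 6, 4, 10]⟩, ⟨[], 7, true, [0, 2, 4, 6, 4, 10, 5, 3, 6, 4]⟩],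
  [⟨[], 7, false, []⟩, ⟨[14, 11, 11, 13, 12], 54, false, [0, 2, 4, 6, 4, 6, 5, 3, 6]⟩, ⟨[12, 13, 11, 11, 13, 12], 47, false, [3, 6, 2, 6, 5, 3, 6, 5, 10]⟩, ⟨[52, 52, 52, 52, 52, 52, 52, 52, 52, 52, 52, 52, 52, 52, 52, 52, 42, 42, 42, 42, 42], 40, true, [1, 5, 6, 2, 6, 2, 5, 10]⟩, ⟨[], 7, true, [1, 3, 4, 6, 5, 3, 6, 4, 6, 2, 6]⟩],
  [⟨[], 7, false, []⟩, ⟨[14, 11, 11, 13, 12], 47, false, [2, 5, 3, 6, 5, 3, 6]⟩, ⟨[], 47, true, [0, 5, 6, 10, 5, 6, 2, 10]⟩, ⟨[], 7, true, [1, 2, 3, 4, 6, 4, 6, 5]⟩],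
  [⟨[], 7, false, []⟩, ⟨[14, 11, 11, 13, 12], 47, false, [2, 5, 3, 6, 5, 6, 2]⟩, ⟨[], 47, true, [0, 5, 6, 10, 5, 6]⟩, ⟨[], 7, true, [1, 2, 3, 4, 6, 4, 6, 5]⟩],
  [⟨[], 7, false, []⟩, ⟨[14, 11, 11, 13, 12], 47, false, [2, 5, 3, 6, 5, 3, 6, 2]⟩, ⟨[], 47, true, [1, 5, 6, 10, 5, 6, 10]⟩, ⟨[], 7, true, [0, 2, 3, 6, 2, 4, 5, 6, 2]⟩],
  [⟨[], 7, false, []⟩, ⟨[14, 11, 11, 13, 12], 47, false, [2, 5, 3, 6, 5, 3, 6, 2]⟩, ⟨[], 47, true, [0, 5, 6, 10, 5, 3, 6]⟩, ⟨[], 7, true, [0, 6, 4, 6, 2, 6, 5, 10, 5]⟩],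
  [⟨[], 7, false, []⟩, ⟨[14, 11, 11, 11, 11, 13, 12], 54, false, [0, 2, 4, 6, 4, 6, 5, 6, 10, 5]⟩, ⟨[], 7, true, [1, 2, 3, 6, 4, 6, 2, 5, 6, 2]⟩],
  [⟨[], 7, false, []⟩, ⟨[14, 11, 11, 13, 12], 54, false, [0, 4, 5, 3, 6, 5, 6, 2, 6, 4]⟩, ⟨[], 7, true, [1, 2, 6, 4, 6, 5, 10, 5, 6, 2]⟩],
  [⟨[], 7, false, []⟩, ⟨[14, 11, 11, 13, 12], 54, false, [2, 3, 5, 6, 4, 5, 10, 5, 6, 5]⟩, ⟨[], 7, true, [1, 2, 3, 6, 4, 6, 2, 5, 6, 2]⟩],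
  [⟨[], 7, false, []⟩, ⟨[14, 11, 11, 13, 12], 54, false, [5, 3, 6, 4, 6, 5, 6, 2, 6]⟩, ⟨[], 54, false, [3, 6, 1, 5, 3, 6, 2, 6, 4]⟩, ⟨[], 7, true, [5, 3, 5, 6, 4, 6, 5, 6]⟩],
  [⟨[], 7, false, []⟩, ⟨[10], 40, false, [2, 4, 6, 4, 6, 4, 6, 10]⟩, ⟨[52, 52, 52, 52, 52, 52, 52, 52, 52, 52, 52, 52, 52, 52, 52, 52], 48, false, [1, 4, 6, 4, 5, 3, 5, 6, 2, 4]⟩, ⟨[42, 42, 42, 42, 42], 48, false, [4, 5, 6, 1, 4, 5, 6, 2, 4, 10]⟩, ⟨[52, 52, 52, 52, 52, 52, 52, 52, 42, 42, 42, 42, 42], 40, true, [1, 4, 6, 4, 10, 5, 6, 2, 4, 10]⟩, ⟨[], 7, true, [0, 2, 4, 6, 4, 10, 5, 3, 6, 4]⟩],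
  [⟨[], 7, false, []⟩, ⟨[14, 11, 11, 13, 12], 54, false, [5, 3, 6, 4, 6, 5, 6, 2, 6]⟩, ⟨[12, 11, 11, 13, 10, 12], 47, false, [3, 4, 6, 1, 2, 6, 4, 5]⟩, ⟨[52, 52, 52, 52, 52, 52, 52, 52, 52, 52, 52, 52, 52, 52, 52, 52, 42, 42, 42, 42, 42], 40, true, [2, 4, 6, 1, 4, 5, 6, 4, 10]⟩, ⟨[], 7, true, [0, 3, 4, 5, 6, 2, 6, 2, 4, 5, 3]⟩],
  [⟨[], 7, false, []⟩, ⟨[10], 40, false, [4, 6, 1, 4, 6, 4, 6, 10]⟩, ⟨[44, 44, 44, 44, 44, 44, 44, 44, 44, 44, 52, 52, 52, 52, 52, 52, 52, 52], 47, true, [10, 5, 6, 2, 10, 5, 6]⟩, ⟨[], 7, true, [5, 3, 5, 6, 5, 6, 4, 6, 4]⟩],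
  [⟨[], 7, false, []⟩, ⟨[10], 40, false, [4, 6, 1, 4, 6, 4, 6, 10]⟩, ⟨[44, 44, 44, 44, 44, 44, 44, 44, 44, 44, 52, 52, 52, 52, 52, 52, 52, 52], 47, true, [0, 5, 3, 6, 2, 5, 6, 5, 3]⟩, ⟨[], 7, true, [5, 3, 5, 6, 5, 6, 4, 6, 4]⟩],
  [⟨[], 7, false, []⟩, ⟨[14, 11, 11, 13, 12], 47, false, [0, 10, 5, 6, 10, 5, 3, 6]⟩, ⟨[], 47, true, [1, 5, 6, 10, 5, 6, 2, 5, 10]⟩, ⟨[], 7, true, [0, 2, 3, 6, 2, 4, 5, 6, 2]⟩],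
  [⟨[], 7, false, []⟩, ⟨[14, 11, 11, 13, 12], 47, false, [0, 10, 5, 6, 10, 5, 3, 6]⟩, ⟨[], 47, true, [5, 10, 5, 6, 5, 3, 6, 2]⟩, ⟨[], 7, true, [0, 6, 4, 6, 2, 6, 5, 10, 5]⟩],
  [⟨[], 7, false, []⟩, ⟨[14, 11, 11, 13, 12], 54, false, [0, 2, 4, 6, 4, 6, 5, 6, 2]⟩, ⟨[], 54, false, [0, 2, 5, 6, 4, 6, 5, 6, 2, 5]⟩, ⟨[], 7, true, [2, 6, 2, 6, 5, 3, 6, 2, 4, 5, 6]⟩],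
  [⟨[], 7, false, []⟩, ⟨[14, 11, 11, 13, 12], 54, false, [0, 2, 4, 6, 4, 6, 5, 3, 6, 2]⟩, ⟨[], 54, false, [0, 4, 10, 5, 6, 2, 4, 5, 6, 5]⟩, ⟨[], 7, true, [5, 3, 5, 6, 4, 6, 5, 6]⟩],
  [⟨[], 7, false, []⟩, ⟨[10], 40, false, [4, 5, 6, 4, 6, 4, 6, 10, 5]⟩, ⟨[], 40, true, [0, 4, 5, 3, 6, 4, 6, 4, 6, 5]⟩, ⟨[], 7, true, [0, 1, 2]⟩],
  [⟨[], 7, false, []⟩, ⟨[14, 11, 11, 13, 12], 54, false, [0, 2, 4, 6, 4, 6, 5, 3, 6, 2]⟩, ⟨[], 54, false, [2, 3, 5, 6, 2, 6, 5, 6, 4]⟩, ⟨[], 7, true, [2, 6, 2, 6, 5, 3, 6, 2, 4, 5, 6]⟩],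
  [⟨[], 7, false, []⟩, ⟨[14, 11, 11, 11, 11, 13, 12], 54, false, [0, 2, 4, 6, 4, 6, 5, 6, 10]⟩, ⟨[], 54, false, [2, 5, 6, 4, 5, 6, 5, 3, 6]⟩, ⟨[], 7, true, [1, 6, 2, 4, 6, 5, 6, 10, 5]⟩],
  [⟨[], 7, false, []⟩, ⟨[14, 11, 11, 13, 12], 54, false, [0, 2, 4, 6, 4, 6, 5, 6]⟩, ⟨[], 54, false, [2, 5, 6, 4, 5, 6, 5, 6]⟩, ⟨[], 7, true, [5, 3, 5, 6, 4, 6, 5, 6]⟩],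
  [⟨[], 7, false, []⟩, ⟨[10], 40, false, [4, 6, 1, 4, 6, 4, 6, 10]⟩, ⟨[44, 44, 44, 44, 44, 44, 44, 44, 44, 44, 52, 52, 52, 52, 52, 52, 52, 52], 47, true, [10, 5, 3, 6, 5, 10, 5, 6]⟩, ⟨[12, 11, 11, 13, 10, 12, 11, 11], 54, false, [0, 4, 5, 10, 5, 6, 4]⟩, ⟨[], 7, true, [3, 4, 6, 2, 4, 5, 6, 2]⟩],
  [⟨[], 7, false, []⟩, ⟨[10], 40, false, [4, 6, 1, 4, 6, 4, 6, 10]⟩, ⟨[44, 44, 44, 44, 44, 52, 52, 52, 52, 52, 52, 52, 52, 52, 52, 52, 52, 52, 52, 52, 52], 48, false, [1, 6, 2, 6, 2, 10, 5, 6, 2]⟩, ⟨[52, 52, 52, 52, 52, 52, 52, 52, 42, 42, 42, 42, 42], 40, true, [5, 6, 4, 6, 2, 6, 4, 5, 3]⟩, ⟨[], 7, true, [1, 4, 5, 6, 4, 6, 2, 4, 5]⟩],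
  [⟨[], 7, false, []⟩, ⟨[10], 40, false, [4, 6, 1, 4, 6, 4, 6, 10]⟩, ⟨[52, 52, 52, 52, 52, 52, 52, 52, 52, 52, 52, 52, 52, 52, 52, 52], 48, false, [0, 5, 3, 6, 2, 6, 5, 6]⟩, ⟨[52, 52, 52, 52, 52, 52, 52, 52, 42, 42, 42, 42, 42], 40, true, [2, 5, 6, 1, 2, 5, 10]⟩, ⟨[], 7, true, [5, 6, 5, 6, 2, 6, 10]⟩],
  [⟨[], 7, false, []⟩, ⟨[10], 40, false, [4, 6, 1, 4, 6, 4, 6, 10]⟩, ⟨[52, 52, 52, 52, 52, 52, 52, 52, 52, 52, 52, 52, 52, 52, 52, 52], 48, false, [0, 5, 3, 6, 2, 6, 5, 6, 10]⟩, ⟨[52, 52, 52, 52, 52, 52, 52, 52, 42, 42, 42, 42, 42], 40, true, [2, 5, 6, 1, 2, 5, 3]⟩, ⟨[], 7, true, [5, 6, 5, 6, 2, 6]⟩],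
  [⟨[], 7, false, []⟩, ⟨[10], 40, false, [4, 6, 1, 4, 6, 4, 6, 10]⟩, ⟨[52, 52, 52, 52, 52, 52, 52, 52, 52, 52, 52, 52, 52, 52, 52, 52], 48, false, [0, 5, 3, 6, 2, 6, 5, 6, 2]⟩, ⟨[42, 42, 42, 42, 42], 48, false, [1, 5, 6, 10, 5, 3, 6, 5, 6, 10]⟩, ⟨[52, 52, 52, 52, 52, 52, 52, 52, 42, 42, 42, 42, 42], 40, true, [4, 6, 4, 10, 5, 6, 4, 10]⟩, ⟨[], 7, true, [1, 6, 2, 6, 4, 6, 10, 5, 3, 6, 4]⟩],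
  [⟨[], 7, false, []⟩, ⟨[14, 11, 11, 13, 12], 47, false, [0, 10, 5, 6, 10, 5, 6]⟩, ⟨[52, 52, 52, 52, 52, 52, 52, 52, 52, 52, 52, 52, 52, 52, 52, 52, 42, 42, 42, 42, 42], 40, true, [4, 6, 1, 4, 10, 5, 6, 4]⟩, ⟨[], 7, true, [2, 4, 6, 4, 10, 5, 6, 4]⟩],
  [⟨[], 7, false, []⟩, ⟨[14, 11, 11, 13, 12], 47, false, [0, 10, 5, 6, 10, 5, 3, 6, 2]⟩, ⟨[52, 52, 52, 52, 52, 52, 52, 52, 52, 52, 52, 52, 52, 52, 52, 52, 42, 42, 42, 42, 42], 40, true, [4, 6, 1, 4, 10, 5, 6, 4]⟩, ⟨[], 7, true, [2, 4, 6, 4, 10, 5, 6, 4]⟩],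
  [⟨[], 7, false, []⟩, ⟨[14, 11, 11, 13, 12], 47, false, [0, 10, 5, 6, 10, 5, 6, 2, 10]⟩, ⟨[52, 52, 52, 52, 52, 52, 52, 52, 52, 52, 52, 52, 52, 52, 52, 52, 42, 42, 42, 42, 42], 40, true, [4, 6, 1, 4, 10, 5, 3, 6, 4]⟩, ⟨[], 7, true, [1, 5, 6, 10, 5, 6, 10, 5, 6]⟩],
  [⟨[], 7, false, []⟩, ⟨[10], 40, false, [4, 5, 6, 4, 6, 4, 6, 10]⟩, ⟨[], 40, true, [0, 4, 5, 3, 6, 4, 6, 4, 6]⟩, ⟨[], 7, true, [0, 1, 2]⟩],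
  [⟨[], 7, false, []⟩, ⟨[14, 11, 11, 13, 12], 47, false, [2, 5, 3, 6, 5, 6]⟩, ⟨[], 47, true, [0, 5, 6, 10, 5, 6, 2]⟩, ⟨[], 7, true, [1, 2, 3, 4, 6, 4, 6, 5]⟩],
  [⟨[], 7, false, []⟩, ⟨[14, 11, 11, 13, 12], 47, false, [2, 5, 3, 6, 5, 3, 6]⟩, ⟨[], 47, true, [1, 5, 6, 10, 5, 6, 2, 10]⟩, ⟨[], 7, true, [0, 2, 3, 6, 2, 4, 5, 6, 2]⟩],
  [⟨[], 7, false, []⟩, ⟨[14, 11, 11, 11, 11, 13, 12], 47, false, [2, 5, 3, 6, 5, 3, 6, 5, 3]⟩, ⟨[], 47, true, [5, 10, 5, 6, 5, 3, 6, 5]⟩, ⟨[], 7, true, [0, 6, 4, 6, 2, 6, 5, 10, 5]⟩],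
  [⟨[], 7, false, []⟩, ⟨[10], 40, false, [4, 6, 1, 4, 6, 4, 6, 10]⟩, ⟨[52, 52, 52, 52, 52, 52, 52, 52], 47, true, [0, 5, 3, 6, 2, 5, 6, 2, 10, 5]⟩, ⟨[], 7, true, [5, 3, 5, 6, 5, 6, 4, 6, 4]⟩],
  [⟨[], 7, false, []⟩, ⟨[14, 11, 11, 13, 12], 47, false, [2, 5, 3, 6, 5, 6, 2]⟩, ⟨[], 47, true, [1, 5, 6, 10, 5, 6]⟩, ⟨[], 7, true, [0, 2, 3, 6, 2, 4, 5, 6, 2]⟩],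
  [⟨[], 7, false, []⟩, ⟨[10], 40, false, [3, 4, 5, 3, 6, 4, 6, 4, 6]⟩, ⟨[44, 44, 44, 44, 44, 52, 52, 52, 52, 52, 52, 52, 52, 52, 52, 52, 52, 52, 52, 52, 52], 47, true, [2, 4, 6, 1, 5, 3, 6, 4, 5]⟩, ⟨[], 7, true, [0, 3, 6, 4, 5, 10, 5, 6, 5, 3, 6]⟩],
  [⟨[], 7, false, []⟩, ⟨[14, 11, 11, 13, 12], 47, false, [2, 5, 3, 6, 5, 3, 6, 2]⟩, ⟨[52, 52, 52, 52, 52, 52, 52, 52, 42, 42, 42, 42, 42, 42, 42, 42, 42, 42], 48, false, [1, 5, 3, 6, 5, 6, 2, 6, 10, 5]⟩, ⟨[44, 44, 44, 44, 44, 52, 52, 52, 52, 52, 52, 52, 52, 52, 52, 52, 52, 52, 52, 52, 52], 47, true, [1, 6, 2, 6, 5, 6, 5, 3, 5]⟩, ⟨[], 7, true, [5, 3, 6, 1, 4, 5, 6]⟩],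
  [⟨[], 7, false, []⟩, ⟨[14, 11, 11, 11, 11, 13, 12], 47, false, [2, 5, 3, 6, 5, 6, 2, 10]⟩, ⟨[], 47, true, [1, 5, 6, 10, 5, 6, 10]⟩, ⟨[], 7, true, [0, 2, 3, 6, 2, 4, 5, 6, 2]⟩],
  [⟨[], 7, false, []⟩, ⟨[10], 40, false, [2, 4, 6, 4, 6, 4, 6, 10]⟩, ⟨[52, 52, 52, 52, 52, 52, 52, 52], 47, true, [0, 5, 3, 6, 2, 5, 6, 10]⟩, ⟨[], 7, true, [2, 6, 1, 2, 4, 5, 6, 2, 10]⟩],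
  [⟨[], 7, false, []⟩, ⟨[14, 11, 11, 13, 12], 54, false, [5, 3, 6, 4, 6, 5, 6, 2, 6]⟩, ⟨[12, 11, 11, 13, 10, 12, 11, 11], 54, false, [0, 2, 4, 6, 4, 5, 3, 6, 5]⟩, ⟨[], 7, true, [2, 6, 4, 6, 5, 10, 5, 6, 2]⟩],
  [⟨[], 7, false, []⟩, ⟨[14, 11, 11, 13, 12], 54, false, [5, 3, 6, 4, 6, 5, 6, 2, 6, 10]⟩, ⟨[], 7, true, [1, 2, 3, 6, 4, 6, 2, 5, 6, 2]⟩],
  [⟨[], 7, false, []⟩, ⟨[14, 11, 11, 13, 12], 47, false, [2, 5, 3, 6, 5, 3, 6, 2]⟩, ⟨[52, 52, 52, 52, 52, 52, 52, 52, 42, 42, 42, 42, 42], 40, true, [3, 5, 3, 6, 5, 6, 10, 5]⟩, ⟨[], 7, true, [0, 5, 6, 10, 5, 6, 10, 5, 6, 10]⟩],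
  [⟨[], 7, false, []⟩, ⟨[10], 40, false, [2, 4, 6, 4, 6, 4, 6, 10]⟩, ⟨[44, 44, 44, 44, 44, 44, 44, 44, 44, 44, 52, 52, 52, 52, 52, 52, 52, 52], 47, true, [0, 5, 6, 5, 10, 5, 6]⟩, ⟨[12, 13, 10, 12, 11, 11, 11, 11], 54, false, [2, 6, 1, 4, 5, 6, 2, 6, 10, 5]⟩, ⟨[], 7, true, [5, 3, 5, 6, 5, 6, 2, 6, 4]⟩],
  [⟨[], 7, false, []⟩, ⟨[14, 11, 11, 11, 11, 13, 12], 54, false, [5, 10, 5, 6, 2, 4, 5, 6, 2]⟩, ⟨[12, 13, 11, 11, 13, 12], 54, false, [6, 2, 5, 6, 5, 6, 4, 10, 5]⟩, ⟨[], 7, true, [0, 2, 3, 4, 6, 4, 6, 5]⟩],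
  [⟨[], 7, false, []⟩, ⟨[14, 11, 11, 13, 12], 47, false, [2, 5, 3, 6, 5, 3, 6]⟩, ⟨[52, 52, 52, 52, 52, 52, 52, 52], 48, false, [4, 5, 6, 4, 5, 6, 4, 10]⟩, ⟨[52, 52, 52, 52, 52, 52, 52, 52, 42, 42, 42, 42, 42], 40, true, [0, 4, 6, 4, 10, 5, 6, 2, 4, 10]⟩, ⟨[], 7, true, [1, 6, 2, 4, 6, 10, 5, 3, 6, 4, 6]⟩],
  [⟨[], 7, false, []⟩, ⟨[10], 40, false, [2, 4, 6, 4, 6, 4, 6, 10]⟩, ⟨[44, 44, 44, 44, 44, 52, 52, 52, 52, 52, 52, 52, 52, 52, 52, 52, 52, 52, 52, 52, 52], 48, false, [1, 10, 5, 6, 5, 6, 2, 6]⟩, ⟨[42, 42, 42, 42, 42], 48, false, [3, 5, 6, 10, 5, 3, 6, 5, 6, 2]⟩, ⟨[52, 52, 52, 52, 52, 52, 52, 52, 42, 42, 42, 42, 42], 40, true, [1, 4, 6, 10, 5, 6, 4, 6, 2]⟩, ⟨[], 7, true, [1, 6, 2, 4, 6, 10, 5, 6, 4]⟩],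
  [⟨[], 7, false, []⟩, ⟨[10], 40, false, [2, 4, 6, 4, 6, 4, 6, 10]⟩, ⟨[52, 52, 52, 52, 52, 52, 52, 52, 52, 52, 52, 52, 52, 52, 52, 52], 48, false, [1, 4, 6, 10, 5, 3, 6, 2, 4, 6]⟩, ⟨[42, 42, 42, 42, 42], 48, false, [4, 5, 6, 1, 4, 5, 6, 2, 4]⟩, ⟨[52, 52, 52, 52, 52, 52, 52, 52, 42, 42, 42, 42, 42], 40, true, [1, 4, 6, 4, 10, 5, 6, 2, 4, 10]⟩, ⟨[], 7, true, [0, 2, 4, 6, 4, 10, 5, 3, 6, 4]⟩],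
  [⟨[], 7, false, []⟩, ⟨[10], 40, false, [2, 4, 6, 4, 6, 4, 6, 10]⟩, ⟨[52, 52, 52, 52, 52, 52, 52, 52, 52, 52, 52, 52, 52, 52, 52, 52], 48, false, [1, 4, 6, 4, 5, 3, 5, 6, 2, 4]⟩, ⟨[42, 42, 42, 42, 42], 48, false, [0, 4, 5, 6, 4, 5, 6, 2, 4, 10]⟩, ⟨[52, 52, 52, 52, 52, 52, 52, 52, 42, 42, 42, 42, 42], 40, true, [4, 6, 4, 10, 5, 6, 2, 4, 10]⟩, ⟨[], 7, true, [1, 6, 2, 6, 4, 6, 10, 5, 3, 6, 4]⟩],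
  [⟨[], 7, false, []⟩, ⟨[14, 11, 11, 13, 12], 47, false, [2, 5, 3, 6, 5, 6, 10, 5, 3]⟩, ⟨[52, 52, 52, 52, 52, 52, 52, 52, 52, 52, 52, 52, 52, 52, 52, 52, 42, 42, 42, 42, 42], 40, true, [4, 6, 1, 4, 10, 5, 6, 2, 4]⟩, ⟨[], 7, true, [2, 4, 6, 4, 10, 5, 6, 4]⟩],
  [⟨[], 7, false, []⟩, ⟨[14, 13, 12], 47, false, [0, 10, 5, 6, 10, 5, 3, 6, 5]⟩, ⟨[52, 52, 52, 52, 52, 52, 52, 52, 52, 52, 52, 52, 52, 52, 52, 52, 42, 42, 42, 42, 42], 40, true, [4, 6, 1, 4, 10, 5, 6, 2, 4]⟩, ⟨[], 7, true, [2, 4, 6, 4, 10, 5, 6, 4]⟩],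
  [⟨[], 7, false, []⟩, ⟨[14, 13, 12, 11, 11, 11, 11], 47, false, [2, 5, 3, 6, 5, 6, 2, 10, 5]⟩, ⟨[52, 52, 52, 52, 52, 52, 52, 52, 52, 52, 52, 52, 52, 52, 52, 52, 42, 42, 42, 42, 42], 40, true, [3, 6, 5, 3, 6, 5, 3, 6, 5]⟩, ⟨[], 7, true, [1, 5, 6, 10, 5, 6, 10, 5, 6]⟩],
  [⟨[], 7, false, []⟩, ⟨[14, 11, 11, 13, 12], 47, false, [2, 5, 3, 6, 5, 6, 2]⟩, ⟨[44, 44, 44, 44, 44, 44, 44, 44, 44, 44, 42, 42, 42, 42, 42], 47, true, [10, 5, 3, 6, 1, 2]⟩, ⟨[], 7, true, [6, 4, 5, 3, 5, 6, 2, 5, 3]⟩],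
  [⟨[], 7, false, []⟩, ⟨[10], 40, false, [4, 6, 1, 4, 6, 4, 6, 10]⟩, ⟨[], 40, true, [0, 2, 4, 6, 4, 6, 4, 6, 5, 3]⟩, ⟨[], 7, true, [0, 1, 2]⟩],
  [⟨[], 7, false, []⟩, ⟨[10], 40, false, [4, 6, 1, 4, 6, 4, 6, 10]⟩, ⟨[52, 52, 52, 52, 52, 52, 52, 52], 47, true, [10, 5, 6, 5, 3, 5, 6]⟩, ⟨[], 7, true, [5, 3, 5, 6, 5, 6, 4, 6, 4]⟩],
  [⟨[], 7, false, []⟩, ⟨[10], 40, false, [4, 6, 1, 4, 6, 4, 6, 10]⟩, ⟨[52, 52, 52, 52, 52, 52, 52, 52, 52, 52, 52, 52, 52, 52, 52, 52], 48, false, [0, 5, 3, 6, 2, 6, 5, 6, 2]⟩, ⟨[42, 42, 42, 42, 42, 42, 42, 42, 42, 42], 48, false, [3, 4, 6, 1, 2, 6, 4, 5, 6, 2]⟩, ⟨[44, 44, 44, 44, 44, 44, 44, 44, 44, 44, 52, 52, 52, 52, 52, 52, 52, 52], 47, true, [1, 5, 3, 5, 6, 2, 5, 6]⟩, ⟨[], 7,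 true, [2, 4, 5, 3, 6, 1, 4, 6, 5]⟩],
  [⟨[], 7, false, []⟩, ⟨[14, 11, 11, 13, 12], 47, false, [2, 5, 3, 6, 5, 3, 6]⟩, ⟨[52, 52, 52, 52, 52, 52, 52, 52, 42, 42, 42, 42, 42, 42, 42, 42, 42, 42], 48, false, [1, 2, 6, 4, 6, 5, 6, 2, 4]⟩, ⟨[44, 44, 44, 44, 44, 52, 52, 52, 52, 52, 52, 52, 52, 52, 52, 52, 52, 52, 52, 52, 52], 47, true, [1, 6, 2, 6, 5, 3, 6]⟩, ⟨[], 7, true, [5, 3, 6, 1, 4, 5, 6]⟩],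
  [⟨[], 7, false, []⟩, ⟨[14, 11, 11, 11, 11, 13, 12], 47, false, [0, 10, 5, 6, 10, 5, 6, 10]⟩, ⟨[], 47, true, [1, 5, 6, 10, 5, 6, 2, 5, 10]⟩, ⟨[], 7, true, [0, 2, 3, 6, 2, 4, 5, 6, 2]⟩],
  [⟨[], 7, false, []⟩, ⟨[14, 11, 11, 13, 12], 54, false, [0, 2, 4, 6, 4, 6, 5, 6, 2]⟩, ⟨[], 54, false, [2, 5, 6, 4, 5, 6, 5, 6, 2]⟩, ⟨[], 7, true, [5, 3, 5, 6, 4, 6, 5, 6]⟩],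
  [⟨[], 7, false, []⟩, ⟨[10], 40, false, [2, 4, 6, 4, 6, 4, 6, 10]⟩, ⟨[44, 44, 44, 44, 44, 44, 44, 44, 44, 44, 52, 52, 52, 52, 52, 52, 52, 52], 47, true, [0, 5, 6, 5, 10, 5, 6, 2]⟩, ⟨[], 7, true, [5, 3, 5, 6, 5, 6, 4, 6, 4]⟩],
  [⟨[], 7, false, []⟩, ⟨[14, 11, 11, 13, 12], 47, false, [2, 5, 3, 6, 5, 3, 6]⟩, ⟨[52, 52, 52, 52, 52, 52, 52, 52, 44, 44, 44, 44, 44, 42, 42, 42, 42, 42], 47, true, [6, 2, 6, 5, 6, 5, 3]⟩, ⟨[12, 13, 12, 11, 11], 54, false, [3, 5, 3, 6, 4, 5, 6, 2, 5]⟩, ⟨[], 7, true, [3, 4, 5, 6, 1, 4, 5]⟩],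
  [⟨[], 7, false, []⟩, ⟨[14, 11, 11, 13, 12], 54, false, [0, 2, 4, 6, 4, 6, 5, 6, 2, 10]⟩, ⟨[], 54, false, [0, 4, 10, 5, 6, 2, 4, 5, 6, 5]⟩, ⟨[], 7, true, [5, 3, 5, 6, 4, 6, 5, 6]⟩],
  [⟨[], 7, false, []⟩, ⟨[14, 11, 11, 13, 12], 47, false, [2, 5, 3, 6, 5, 6, 2]⟩, ⟨[52, 52, 52, 52, 52, 52, 52, 52, 52, 52, 52, 52, 52, 52, 52, 52, 42, 42, 42, 42, 42], 40, true, [0, 4, 6, 4, 10, 5, 6, 2, 4, 5]⟩, ⟨[], 7, true, [1, 6, 2, 4, 6, 10, 5, 3, 6, 4, 6]⟩],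
  [⟨[], 7, false, []⟩, ⟨[10], 40, false, [4, 5, 6, 4, 6, 4, 6, 10, 5]⟩, ⟨[], 40, true, [0, 4, 5, 3, 5, 6, 4, 6, 4, 6]⟩, ⟨[], 7, true, [1, 4, 6, 4, 6, 2, 4]⟩],
  [⟨[], 7, false, []⟩, ⟨[10], 40, false, [2, 4, 6, 4, 6, 4, 6, 10]⟩, ⟨[52, 52, 52, 52, 52, 52, 52, 52, 52, 52, 52, 52, 52, 52, 52, 52], 48, false, [1, 4, 6, 4, 5, 3, 5, 6, 2, 4]⟩, ⟨[44, 44, 44, 44, 44, 44, 44, 44, 44, 44], 47, true, [3, 5, 3, 6, 2, 6, 5, 10, 5, 6]⟩, ⟨[], 7, true, [3, 5, 6, 1, 4, 6, 5]⟩],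
  [⟨[], 7, false, []⟩, ⟨[14, 11, 11, 13, 12], 47, false, [2, 5, 3, 6, 5, 3, 6, 2]⟩, ⟨[44, 44, 44, 44, 44, 42, 42, 42, 42, 42, 42, 42, 42, 42, 42], 47, true, [4, 10, 5, 6, 2, 6, 4, 5, 6, 2, 6]⟩, ⟨[], 7, true, [2, 6, 1, 4, 5, 6, 2, 6, 10, 5]⟩],
  [⟨[], 7, false, []⟩, ⟨[10], 40, false, [4, 6, 1, 4, 6, 4, 6, 10]⟩, ⟨[52, 52, 52, 52, 52, 52, 52, 52, 52, 52, 52, 52, 52, 52, 52, 52], 48, false, [0, 5, 3, 6, 2, 6, 5, 6, 2, 10]⟩, ⟨[52, 52, 52, 52, 52, 52, 52, 52, 42, 42, 42, 42, 42], 40, true, [2, 5, 6, 1, 2, 5, 3]⟩, ⟨[], 7, true, [5, 6, 5, 6, 2, 6]⟩],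
  [⟨[], 7, false, []⟩, ⟨[10], 40, false, [2, 4, 6, 4, 6, 4, 6, 5, 10]⟩, ⟨[], 40, true, [0, 3, 4, 6, 4, 6, 4, 6]⟩, ⟨[], 7, true, [1, 4, 6, 4, 6, 2, 4]⟩],
  [⟨[], 7, false, []⟩, ⟨[10], 40, false, [2, 4, 6, 4, 6, 4, 6, 10]⟩, ⟨[52, 52, 52, 52, 52, 52, 52, 52, 52, 52, 52, 52, 52, 52, 52, 52], 48, false, [1, 4, 6, 2, 4, 10, 5, 6, 4]⟩, ⟨[52, 52, 52, 52, 52, 52, 52, 52], 48, false, [0, 2, 3, 4, 6, 5, 3, 6, 2, 4, 5]⟩, ⟨[52, 52, 52, 52, 52, 52, 52, 52, 42, 42, 42, 42, 42], 40, true, [3, 4, 5, 6, 5, 6, 4, 6, 5, 6]⟩, ⟨[], 7, true, [4, 6, 1, 10, 5, 3, 6, 2, 4]⟩],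
  [⟨[], 7, false, []⟩, ⟨[14, 11, 11, 13, 12], 47, false, [0, 10, 5, 6, 10, 5, 3, 6]⟩, ⟨[44, 44, 44, 44, 44, 44, 44, 44, 44, 44, 42, 42, 42, 42, 42], 51, false, [1, 3, 5, 3, 6, 2]⟩, ⟨[42, 42, 42, 42, 42], 48, false, [4, 6, 10, 5, 6, 4, 6, 5, 6]⟩, ⟨[52, 52, 52, 52, 52, 52, 52, 52, 42, 42, 42, 42, 42], 40, true, [2, 3, 6, 2, 6]⟩, ⟨[], 7, true, [0, 2, 4, 6, 4, 6, 4, 6]⟩],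
  [⟨[], 7, false, []⟩, ⟨[14, 11, 11, 13, 12], 47, false, [2, 5, 3, 6, 5, 6, 10]⟩, ⟨[52, 52, 52, 52, 52, 52, 52, 52, 52, 52, 52, 52, 52, 52, 52, 52, 42, 42, 42, 42, 42], 40, true, [4, 6, 1, 4, 10, 5, 3, 6, 4]⟩, ⟨[], 7, true, [1, 5, 6, 10, 5, 6, 10, 5, 6]⟩],
  [⟨[], 7, false, []⟩, ⟨[10], 40, false, [4, 5, 6, 4, 6, 4, 6, 10]⟩, ⟨[], 40, true, [0, 4, 6, 4, 6, 4, 6, 5, 3]⟩, ⟨[], 7, true, [1, 4, 6, 4, 6, 2, 4]⟩],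
  [⟨[], 7, false, []⟩, ⟨[14, 11, 11, 13, 12], 47, false, [2, 5, 3, 6, 5, 6, 2]⟩, ⟨[52, 52, 52, 52, 52, 52, 52, 52, 42, 42, 42, 42, 42], 40, true, [3, 5, 3, 6, 5, 6, 10, 5, 3]⟩, ⟨[], 7, true, [0, 5, 6, 10, 5, 6, 10, 5, 6]⟩],
  [⟨[], 7, false, []⟩, ⟨[14, 13, 12], 54, false, [2, 3, 5, 6, 4, 5, 10, 5, 6, 2]⟩, ⟨[], 7, true, [1, 2, 3, 6, 4, 6, 2, 5, 6, 2]⟩],
  [⟨[], 7, false, []⟩, ⟨[14, 11, 11, 13, 12], 47, false, [2, 5, 3, 6, 5, 6]⟩, ⟨[], 47, true, [1, 5, 6, 10, 5, 6, 2]⟩, ⟨[], 7, true, [0, 2, 3, 6, 2, 4, 5, 6, 2]⟩],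
  [⟨[], 7, false, []⟩, ⟨[14, 11, 11, 13, 12], 54, false, [0, 2, 4, 6, 4, 6, 5, 3, 6, 2]⟩, ⟨[12, 11, 11, 11, 11, 13, 12], 47, false, [3, 6, 5, 6, 2, 5, 3]⟩, ⟨[52, 52, 52, 52, 52, 52, 52, 52, 52, 52, 52, 52, 52, 52, 52, 52], 47, true, [4, 6, 4, 5, 3, 6, 4, 5, 6]⟩, ⟨[], 7, true, [0, 3, 6, 4, 6, 5]⟩],
  [⟨[], 7, false, []⟩, ⟨[14, 11, 11, 13, 12], 47, false, [0, 10, 5, 6, 10, 5, 3, 6]⟩, ⟨[52, 52, 52, 52, 52, 52, 52, 52, 42, 42, 42, 42, 42, 42, 42, 42, 42, 42], 48, false, [0, 2, 6, 4, 5, 6, 5, 6, 2, 4]⟩, ⟨[44, 44, 44, 44, 44, 52, 52, 52, 52, 52, 52, 52, 52, 52, 52, 52, 52, 52, 52, 52, 52], 47, true, [1, 6, 2, 6, 5, 6, 10, 5, 10]⟩, ⟨[], 7, true, [5, 3, 6, 1, 4, 5, 6]⟩],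
  [⟨[], 7, false, []⟩, ⟨[10], 40, false, [2, 4, 6, 4, 6, 4, 6, 10]⟩, ⟨[52, 52, 52, 52, 52, 52, 52, 52, 52, 52, 52, 52, 52, 52, 52, 52], 48, false, [1, 4, 6, 4, 5, 3, 5, 6, 4]⟩, ⟨[52, 52, 52, 52, 52, 52, 52, 52, 42, 42, 42, 42, 42, 52, 52, 52, 52, 52, 52, 52, 52], 47, true, [1, 3, 5, 6]⟩, ⟨[], 7, true, [6, 2, 4, 5, 6, 10, 5, 10]⟩],
  [⟨[], 7, false, []⟩, ⟨[14, 11, 11, 13, 12], 47, false, [2, 5, 3, 6, 5, 3, 6, 2]⟩, ⟨[44, 44, 44, 44, 44, 42, 42, 42, 42, 42, 42, 42, 42, 42, 42], 47, true, [0, 5, 6, 2, 4, 5, 6, 2, 5, 6, 4, 6]⟩, ⟨[], 7, true, [2, 6, 1, 4, 5, 6, 2, 6, 10, 5]⟩],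
  [⟨[], 7, false, []⟩, ⟨[10], 40, false, [4, 5, 6, 4, 6, 4, 6, 10, 5]⟩, ⟨[44, 44, 44, 44, 44], 47, true, [1, 4, 6, 4, 10, 5, 6, 4, 10]⟩, ⟨[], 7, true, [2, 3, 6, 5, 6, 5, 3, 5, 6, 4]⟩],
  [⟨[], 7, false, []⟩, ⟨[14, 11, 11, 11, 11, 13, 12], 47, false, [2, 5, 3, 6, 5, 3, 6, 5, 3]⟩, ⟨[], 47, true, [1, 5, 6, 10, 5, 6, 5, 3, 5]⟩, ⟨[], 7, true, [0, 2, 6, 4, 5, 10, 5, 6, 2]⟩],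
  [⟨[], 7, false, []⟩, ⟨[14, 11, 11, 13, 12], 54, false, [2, 3, 5, 6, 4, 5, 10, 5, 6]⟩, ⟨[], 7, true, [1, 2, 3, 6, 4, 6, 2, 5, 6, 2, 10]⟩],
  [⟨[], 7, false, []⟩, ⟨[14, 11, 11, 13, 12], 47, false, [0, 10, 5, 6, 10, 5, 3, 6]⟩, ⟨[44, 44, 44, 44, 44, 42, 42, 42, 42, 42, 42, 42, 42, 42, 42], 47, true, [3, 4, 5, 6, 4, 5, 6, 4, 5, 3, 6]⟩, ⟨[], 7, true, [2, 6, 1, 4, 5, 6, 2, 6, 10, 5]⟩],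
  [⟨[], 7, false, []⟩, ⟨[10], 40, false, [2, 4, 6, 4, 6, 4, 6, 10]⟩, ⟨[44, 44, 44, 44, 44, 44, 44, 44, 44, 44, 52, 52, 52, 52, 52, 52, 52, 52], 47, true, [0, 5, 3, 6, 2, 5, 6]⟩, ⟨[], 7, true, [2, 6, 1, 2, 4, 5, 6, 10, 5, 3]⟩],
  [⟨[], 7, false, []⟩, ⟨[10], 40, false, [4, 5, 6, 4, 6, 4, 6]⟩, ⟨[52, 52, 52, 52, 52, 52, 52, 52, 52, 52, 52, 52, 52, 52, 52, 52], 47, true, [0, 5, 3, 5, 6, 5, 3, 5, 6]⟩, ⟨[], 7, true, [0, 6, 4, 6, 5, 6, 5, 3, 5]⟩],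
  [⟨[], 7, false, []⟩, ⟨[10], 40, false, [2, 3, 4, 6, 4, 6, 4, 6, 5]⟩, ⟨[44, 44, 44, 44, 44, 52, 52, 52, 52, 52, 52, 52, 52], 47, true, [4, 5, 6, 5, 10, 5, 6, 4, 5]⟩, ⟨[], 7, true, [0, 4, 5, 3, 5, 6, 4, 6, 5]⟩],
  [⟨[], 7, false, []⟩, ⟨[14, 13, 10, 12, 11, 11, 11, 11], 47, false, [2, 5, 3, 6, 5, 6, 10, 5]⟩, ⟨[44, 44, 44, 44, 44, 42, 42, 42, 42, 42, 42, 42, 42, 42, 42], 47, true, [2, 3, 4, 6, 4, 5, 6, 4, 5, 3, 6]⟩, ⟨[], 7, true, [2, 3, 4, 5, 6, 1, 4, 5]⟩],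
  [⟨[], 7, false, []⟩, ⟨[14, 11, 11, 13, 12], 47, false, [2, 5, 3, 6, 5, 3, 6, 2]⟩, ⟨[52, 52, 52, 52, 52, 52, 52, 52, 42, 42, 42, 42, 42, 42, 42, 42, 42, 42], 48, false, [1, 3, 6, 4, 5, 6, 2, 10, 5, 6, 4]⟩, ⟨[44, 44, 44, 44, 44, 52, 52, 52, 52, 52, 52, 52, 52, 52, 52, 52, 52, 52, 52, 52, 52], 47, true, [1, 6, 2, 6, 5, 6, 5, 3, 5]⟩, ⟨[], 7, true, [5, 3, 6, 1, 4, 5, 6]⟩],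
  [⟨[], 7, false, []⟩, ⟨[14, 11, 11, 11, 11, 13, 12], 47, false, [0, 10, 5, 6, 10, 5, 6, 10, 5]⟩, ⟨[44, 44, 44, 44, 44, 44, 44, 44, 44, 44, 42, 42, 42, 42, 42], 47, true, [0, 10, 5, 3, 6, 5, 3]⟩, ⟨[], 7, true, [4, 10, 5, 6, 4, 10, 5, 6]⟩],
  [⟨[], 7, false, []⟩, ⟨[14, 11, 11, 13, 12], 47, false, [0, 10, 5, 6, 10, 5, 3, 6]⟩, ⟨[44, 44, 44, 44, 44, 44, 44, 44, 44, 44, 42, 42, 42, 42, 42], 51, false, [1, 3, 5, 3, 6]⟩, ⟨[52, 52, 52, 52, 52, 52, 52, 52, 52, 52, 52, 52, 52, 52, 52, 52, 44, 44, 44, 44, 44, 42, 42, 42, 42, 42], 47, true, [1, 2, 5, 6, 10, 5, 6, 2, 10]⟩, ⟨[], 7, true, [10, 5, 6, 4, 10, 5]⟩],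
  [⟨[], 7, false, []⟩, ⟨[14, 11, 11, 11, 11, 13, 12], 47, false, [0, 10, 5, 6, 10, 5, 6, 10, 5, 3]⟩, ⟨[44, 44, 44, 44, 44, 44, 44, 44, 44, 44, 42, 42, 42, 42, 42], 47, true, [0, 10, 5, 3, 6, 5, 3]⟩, ⟨[], 7, true, [4, 10, 5, 6, 4, 10, 5, 6]⟩],
  [⟨[], 7, false, []⟩, ⟨[14, 11, 11, 11, 11, 13, 12], 54, false, [5, 10, 5, 6, 2, 4, 5, 6, 2, 10]⟩, ⟨[], 7, true, [1, 2, 6, 4, 6, 5, 10, 5, 6, 2]⟩],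
  [⟨[], 7, false, []⟩, ⟨[14, 11, 11, 11, 11, 13, 12], 54, false, [5, 10, 5, 6, 2, 4, 5, 6]⟩, ⟨[], 7, true, [1, 2, 6, 4, 6, 5, 10, 5, 6, 2]⟩],
  [⟨[], 7, false, []⟩, ⟨[10], 40, false, [4, 6, 1, 4, 6, 4, 6, 10]⟩, ⟨[52, 52, 52, 52, 52, 52, 52, 52, 52, 52, 52, 52, 52, 52, 52, 52], 48, false, [0, 5, 3, 6, 2, 6, 5, 6, 2]⟩, ⟨[42, 42, 42, 42, 42], 51, false, [5, 6, 10, 5, 6, 2, 5, 10]⟩, ⟨[52, 52, 52, 52, 52, 52, 52, 52, 42, 42, 42, 42, 42], 40, true, [1, 6, 10, 5, 6, 2, 5, 6]⟩, ⟨[], 7, true, [2, 3, 5, 6, 5, 3, 5, 6, 5]⟩],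
  [⟨[], 7, false, []⟩, ⟨[10], 40, false, [2, 4, 6, 4, 6, 4, 6, 10]⟩, ⟨[44, 44, 44, 44, 44, 52, 52, 52, 52, 52, 52, 52, 52, 52, 52, 52, 52, 52, 52, 52, 52], 48, false, [1, 10, 5, 6, 5, 6, 2, 6]⟩, ⟨[42, 42, 42, 42, 42], 48, false, [2, 4, 5, 6, 2, 5, 3, 6, 4, 6]⟩, ⟨[52, 52, 52, 52, 52, 52, 52, 52, 42, 42, 42, 42, 42], 40, true, [4, 6, 10, 5, 6, 4, 6, 2]⟩, ⟨[], 7, true, [1, 5, 6, 10, 5, 6, 10, 5, 3]⟩],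
  [⟨[], 7, false, []⟩, ⟨[10], 40, false, [2, 4, 6, 4, 6, 4, 6, 10]⟩, ⟨[52, 52, 52, 52, 52, 52, 52, 52, 52, 52, 52, 52, 52, 52, 52, 52], 48, false, [1, 4, 6, 10, 5, 3, 6, 2, 4, 6]⟩, ⟨[42, 42, 42, 42, 42], 48, false, [0, 4, 5, 6, 4, 5, 6, 2, 4]⟩, ⟨[52, 52, 52, 52, 52, 52, 52, 52, 42, 42, 42, 42, 42], 40, true, [4, 6, 4, 10, 5, 6, 2, 4, 10]⟩, ⟨[], 7, true, [1, 6, 2, 6, 4, 6, 10, 5, 3, 6, 4]⟩],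
  [⟨[], 7, false, []⟩, ⟨[14, 11, 11, 13, 12], 47, false, [2, 5, 3, 6, 5, 6, 10, 5, 10]⟩, ⟨[44, 44, 44, 44, 44, 42, 42, 42, 42, 42], 48, false, [0, 1, 2, 5, 10]⟩, ⟨[52, 52, 52, 52, 52, 52, 52, 52, 42, 42, 42, 42, 42], 40, true, [2, 3, 4, 6, 2, 6, 4]⟩, ⟨[], 7, true, [0, 2, 4, 6, 4, 6, 4]⟩],
  [⟨[], 7, false, []⟩, ⟨[14, 11, 11, 13, 12], 47, false, [2, 5, 3, 6, 5, 3, 6, 2]⟩, ⟨[52, 52, 52, 52, 52, 52, 52, 52, 42, 42, 42, 42, 42, 42, 42, 42, 42, 42], 48, false, [1, 2, 6, 4, 6, 5, 3, 6, 2, 4, 5]⟩, ⟨[44, 44, 44, 44, 44, 44, 44, 44, 44, 44, 52, 52, 52, 52, 52, 52, 52, 52], 47, true, [6, 1, 2, 5, 3, 6]⟩, ⟨[], 7, true, [3, 6, 4, 5, 6, 2, 6, 2]⟩],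
  [⟨[], 7, false, []⟩, ⟨[14, 11, 11, 11, 11, 13, 12], 47, false, [2, 5, 3, 6, 5, 3, 6, 5, 10]⟩, ⟨[44, 44, 44, 44, 44, 44, 44, 44, 44, 44, 42, 42, 42, 42, 42], 47, true, [0, 10, 5, 6, 10, 5]⟩, ⟨[], 7, true, [4, 10, 5, 6, 4, 10, 5, 6]⟩],
  [⟨[], 7, false, []⟩, ⟨[14, 11, 11, 11, 11, 13, 12], 47, false, [2, 5, 3, 6, 5, 3, 6, 5]⟩, ⟨[], 40, true, [0, 4, 5, 6, 2, 5, 6, 4, 6, 2, 10]⟩, ⟨[], 7, true, [4, 6, 10, 5, 6, 4, 6, 2]⟩]]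

end CfsgLib.Sporadic.ThPres.Cent
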