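import Cfsg.Agent.Lib.Sporadic.ThPres.Cent.Upper
import Cfsg.Agent.Lib.Sporadic.ThPres.Cent.TableData

/-!
# The centraliser permutes 120 cosets (owner: helper9)
-/

set_option autoImplicit false
set_option maxRecDepth 20000
set_option Elab.async false

namespace CfsgLib.Sporadic.ThPres.Cent

open Cfsg Matrix
open CfsgLib.ThreeTrans.CosetIndex (forallFrom forallFrom_elim)

/-- A representative. -/
noncomputable def rep (k : ℕ) : List ℕ := cosetReps.getD k []

/-- The seven letters. -/
def letters7 : List ℕ := [0, 4, 6, 8, 10, 12, 14]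

/-- The images under the letters, in the order of `letters7`. -/
noncomputable def imgList (j : ℕ) : List ℕ :=
  [cosetImg0, cosetImg4, cosetImg6, cosetImg8, cosetImg10, cosetImg12, cosetImg14].getD j []

/-- The traces for a letter. -/
noncomputable def usesList (j : ℕ) : List (List Use) :=
  [cosetUses0, cosetUses4, cosetUses6, cosetUses8, cosetUses10, cosetUses12, cosetUses14].getD j []

/-- A word lies in the subgroup on seven generators, by tracing. -/
noncomputable def inHs (w : List ℕ) (us : List Use) : Bool :=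
  w.all (fun k => Nat.blt k 16) &&
  match trace factTree 2197 (opsOf w) us (0, [], []) with
  | some (k, _, _) => Nat.beq k 0
  | none => false

theorem inHs_sound {w : List ℕ} {us : List Use} (h : inHs w us = true) : (w.map thL).prod ∈ Hs := by
  simp only [inHs, Bool.and_eq_true, List.all_eq_true, Nat.blt_eq] at h
  obtain ⟨hlt, h⟩ := h
  split at h
  next k m n hk =>
    obtain rfl := Nat.eq_of_beq_eq_true h
    have T := trace_sound pairsHold holds hk
    have hz : Wv reps 0 = 1 := Wr_zero
    simp only [evT_nil, one_mul, hz, mul_one] at T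
    rw [← opsOf_prod hlt, T]
    exact mul_mem (evT_mem _) (evT_mem _)
  next => simp at h

/-- A step of the table. -/
noncomputable def stepOK (j k : ℕ) : Bool :=
  Nat.blt ((imgList j).getD k 120) 120 &&
    inHs (PairEnum.winv (rep ((imgList j).getD k 120)) ++ ([letters7.getD j 0] ++ rep k)) ((usesList j).getD k [])

theorem steps_ok : forallFrom (fun j => forallFrom (fun k => stepOK j k) 0 120 &&
    distinct ((List.range 120).map fun k => (imgList j).getD k 120) 0) 0 7 = true := by decide +kernel

theorem reps_ok : (cosetReps.all fun w => w.all fun k => Nat.blt k 16 && !(Nat.beq (k / 2) 1)) = true := by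
  decide +kernel

/-- A second test vector. -/
noncomputable def vec1 : ℕ := Lower.prowsE.getD 1 0

theorem vec1_eq : ∃ f, vec1 = Lower.encV f := by
  refine ⟨Lower.matE 16 ⟨1, by norm_num⟩, ?_⟩
  rw [vec1, show Lower.prowsE = Lower.prow 16 from rfl, Lower.prow_eq (by norm_num), Rep.enc,
    List.getD_eq_getElem _ _ (by simp), List.getElem_ofFn]
  rfl

/-- An invariant of a left coset. -/
noncomputable def invKey (k : ℕ) : ℕ := Lower.vwordP (rep k ++ ([16] ++ PairEnum.winv (rep k))) vec1

theorem keys_nodup : decide (((List.range 120).map invKey).Nodup) = true := by decide +kernel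

theorem rep_lt (k : ℕ) : ∀ x ∈ rep k, x < 16 := by
  intro x hx
  rcases Nat.lt_or_ge k cosetReps.length with h | h
  · rw [rep, List.getD_eq_getElem _ _ h] at hx
    have := List.all_eq_true.1 (List.all_eq_true.1 reps_ok _ (List.getElem_mem h)) x hx
    simp only [Bool.and_eq_true, Nat.blt_eq] at this
    exact this.1
  · rw [rep, List.getD_eq_default _ _ h] at hx
    simp at hx

theorem rho_word {M : Type*} [Monoid M] (f : ℕ → M) (g : ℕ → M) {w : List ℕ} (h : ∀ x ∈ w, f x = g x) :
    (w.map f).prod = (w.map g).prod := congrArg List.prod (List.map_congr_left h)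

theorem winv_lt16 {w : List ℕ} (h : ∀ x ∈ w, x < 16) : ∀ x ∈ PairEnum.winv w, x < 16 := by
  intro x hx
  simp only [PairEnum.winv, List.mem_map, List.mem_reverse] at hx
  obtain ⟨y, hy, rfl⟩ := hx
  exact Rep.xor_one_lt (h y hy)

/-- The coset of a representative. -/
noncomputable def cos (k : ℕ) : Spor.Th ⧸ Hs := (((rep k).map thL).prod : Spor.Th)

/-- The representation as a map to matrices. -/
noncomputable def mu : Spor.Th →* Rep.Mat 248 := (Units.coeHom _).comp Rep.rho

theorem mu_word {w : List ℕ} (hw : ∀ x ∈ w, x < 16) : mu (w.map thL).prod = (w.map Lower.matE).prod := by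
  rw [rho_word Lower.matE Rep.mat fun x hx => Lower.matE_eq (hw x hx)]
  exact Rep.rho_prod_val hw

theorem mu_comm (p : P0) : Commute (Lower.matE 16) (mu (toTh p)) := Lower.comm_toTh p

theorem conj_invariant {G M : Type*} [Group G] [Monoid M] (r : G →* M) (E : M) (g h : G) (hh : Commute E (r h)) :
    r (g * h) * (E * r (g * h)⁻¹) = r g * (E * r g⁻¹) := by
  rw [_root_.mul_inv_rev, map_mul, map_mul]
  calc r g * r h * (E * (r h⁻¹ * r g⁻¹)) = r g * ((r h * E) * r h⁻¹) * r g⁻¹ := by simp only [mul_assoc]
    _ = r g * (E * (r h * r h⁻¹)) * r g⁻¹ := by rw [← hh.eq]; simp only [mul_assoc]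
    _ = _ := by rw [← map_mul, mul_inv_cancel, map_one, mul_one, mul_assoc]

attribute [local irreducible] mu Lower.matE Lower.encV Lower.vwordP

theorem invKey_eq {k : ℕ} {f : Fin 248 → ZMod 3} (hf : vec1 = Lower.encV f) :
    invKey k = Lower.encV (f ᵥ* (mu ((rep k).map thL).prod * (Lower.matE 16 * mu ((rep k).map thL).prod⁻¹))) := by
  have hw : ∀ x ∈ rep k ++ ([16] ++ PairEnum.winv (rep k)), x < 17 := by
    intro x hx
    simp only [List.mem_append, List.mem_singleton] at hx
    rcases hx with hx | hx | hx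
    · exact (rep_lt k x hx).trans (by norm_num)
    · omega
    · exact (winv_lt16 (rep_lt k) x hx).trans (by norm_num)
  rw [invKey, hf, Lower.vwordP_eq hw, ← PairEnum.prod_winv thL_flp, mu_word (rep_lt k),
    mu_word (winv_lt16 (rep_lt k))]
  simp only [List.map_append, List.prod_append, List.map_singleton, List.prod_singleton]

theorem cos_inj {k k' : ℕ} (hk : k < 120) (hk' : k' < 120) (e : cos k = cos k') : k = k' := by
  obtain ⟨f, hf⟩ := vec1_eq
  rw [cos, cos, QuotientGroup.eq] at e
  obtain ⟨p, hp⟩ := e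
  rw [eq_inv_mul_iff_mul_eq] at hp
  have hkey : invKey k' = invKey k := by
    rw [invKey_eq hf, invKey_eq hf, ← hp, conj_invariant mu _ _ _ (mu_comm p)]
  have hn := of_decide_eq_true keys_nodup
  refine (List.Nodup.getElem_inj_iff hn (i := k) (j := k') (hi := by simp; omega) (hj := by simp; omega)).1 ?_
  simp [hkey]

/-- The subgroup of the seven letters. -/
noncomputable def MC : Subgroup Spor.Th := Subgroup.closure {g | ∃ x ∈ letters7, g = thL x}

theorem u_comm : U * thL 0 = thL 0 * U := by
  have h : (([15, 1, 14, 0] : List ℕ).map thL).prod = 1 := th_rel (by decide +kernel)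
  simp only [List.map_cons, List.map_nil, List.prod_cons, List.prod_nil, mul_one] at h
  rw [show thL 15 = U⁻¹ from thL_flp 14, show thL 1 = (thL 0)⁻¹ from thL_flp 0] at h
  calc U * thL 0 = thL 0 * U * (U⁻¹ * ((thL 0)⁻¹ * (U * thL 0))) := by group
    _ = thL 0 * U := by rw [h, mul_one]

theorem MC_le_CA : MC ≤ CA := by
  rw [MC, Subgroup.closure_le]
  rintro _ ⟨x, hx, rfl⟩
  simp only [letters7, List.mem_cons, List.not_mem_nil, or_false] at hx
  rw [SetLike.mem_coe]
  rcases Nat.lt_or_ge x 14 with h | h
  · rw [← toTh_L h, toTh_mem_CA, ← gen_eq_fix0, show x = 2 * (x / 2) by omega]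
    refine L_mem_gen ?_
    rcases hx with rfl | rfl | rfl | rfl | rfl | rfl | rfl <;> first | omega | simp
  · obtain rfl : x = 14 := by omega
    exact Subgroup.mem_centralizer_singleton_iff.2 u_comm

theorem fix0_le_MC {p : P0} (hp : p ∈ fix0) : toTh p ∈ MC := by
  rw [← gen_eq_fix0] at hp
  refine (Subgroup.closure_le (MC.comap toTh)).2 ?_ hp
  rintro _ ⟨x, hx, rfl⟩
  have h14 : 2 * x < 14 := by simp at hx; omega
  rw [SetLike.mem_coe, Subgroup.mem_comap, toTh_L h14]
  exact Subgroup.subset_closure ⟨2 * x, by simp [letters7] at hx ⊢; omega, rfl⟩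

theorem rep_mem_MC (k : ℕ) : ((rep k).map thL).prod ∈ MC := list_prod_mem fun g hg => by
  obtain ⟨x, hx, rfl⟩ := List.mem_map.1 hg
  rcases Nat.lt_or_ge k cosetReps.length with h | h
  · rw [rep, List.getD_eq_getElem _ _ h] at hx
    have hh := List.all_eq_true.1 (List.all_eq_true.1 reps_ok _ (List.getElem_mem h)) x hx
    simp only [Bool.and_eq_true, Nat.blt_eq, Bool.not_eq_true'] at hh
    have h2 : x / 2 ≠ 1 := fun e => by rw [e] at hh; simp at hh
    have hm : thL (2 * (x / 2)) ∈ MC :=
      Subgroup.subset_closure ⟨2 * (x / 2), by simp [letters7]; omega, rfl⟩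
    rcases Nat.mod_two_eq_zero_or_one x with h0 | h1
    · rwa [show 2 * (x / 2) = x by omega] at hm
    · have e : thL x = (thL (2 * (x / 2)))⁻¹ := by
        rw [← thL_flp]
        congr 1
        have h3 := flp_half (2 * (x / 2))
        have h4 := flp_mod (2 * (x / 2))
        omega
      rw [e]
      exact inv_mem hm
  · rw [rep, List.getD_eq_default _ _ h] at hx
    simp at hx

theorem card_MC_ge : 92897280 ≤ Nat.card MC := by
  classical
  let f : Fin 120 × ↥fix0 → MC := fun x =>
    ⟨((rep x.1).map thL).prod * toTh x.2.1, mul_mem (rep_mem_MC _) (fix0_le_MC x.2.2)⟩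
  have hf : Function.Injective f := by
    rintro ⟨k, p⟩ ⟨k', p'⟩ e
    have e' : ((rep k).map thL).prod * toTh p.1 = ((rep k').map thL).prod * toTh p'.1 := congrArg Subtype.val e
    have hk : k = k' := Fin.ext (cos_inj k.isLt k'.isLt (by
      rw [cos, cos, ← QuotientGroup.mk_mul_of_mem _ (show toTh p.1 ∈ Hs from ⟨_, rfl⟩), e',
        QuotientGroup.mk_mul_of_mem _ (show toTh p'.1 ∈ Hs from ⟨_, rfl⟩)]))
    subst hk
    exact Prod.ext rfl (Subtype.ext (toTh_injective (mul_left_cancel e')))
  have := Nat.card_le_card_of_injective f hf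
  rwa [Nat.card_prod, Nat.card_fin, card_fix0] at this

theorem CA_eq : CA = MC ∧ Nat.card CA = 92897280 := by
  have h := Subgroup.eq_of_le_of_card_ge MC_le_CA (card_CA_le.trans card_MC_ge)
  exact ⟨h.symm, le_antisymm card_CA_le (h ▸ card_MC_ge)⟩

/-- The permutation of the cosets by a letter. -/
noncomputable def letterPerm (j : Fin 7) : Equiv.Perm (Fin 120) :=
  Equiv.ofBijective (fun k => ⟨(imgList j).getD k 120 % 120, Nat.mod_lt _ (by norm_num)⟩) (by
    refine Finite.injective_iff_bijective.1 fun k k' e => ?_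
    have h := forallFrom_elim steps_ok (Nat.zero_le j.val) (by omega)
    rw [Bool.and_eq_true] at h
    have lt : ∀ k : Fin 120, (imgList j).getD k 120 < 120 := fun k => by
      have h2 := forallFrom_elim h.1 (Nat.zero_le k.val) (by omega)
      simp only [stepOK, Bool.and_eq_true, Nat.blt_eq] at h2
      exact h2.1
    have e' := congrArg Fin.val e
    simp only [Nat.mod_eq_of_lt (lt _)] at e'
    exact Fin.ext ((List.Nodup.getElem_inj_iff (distinct_nodup h.2).1 (i := k.val) (j := k'.val)
      (hi := by simp) (hj := by simp)).1 (by simpa using e')))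

theorem letter_smul (j : Fin 7) (k : Fin 120) : thL (letters7.getD j 0) • cos k = cos (letterPerm j k) := by
  have h := forallFrom_elim steps_ok (Nat.zero_le j.val) (by omega)
  rw [Bool.and_eq_true] at h
  have h2 := forallFrom_elim h.1 (Nat.zero_le k.val) (by omega)
  simp only [stepOK, Bool.and_eq_true, Nat.blt_eq] at h2
  obtain ⟨hlt, hin⟩ := h2
  have hm := inHs_sound hin
  rw [List.map_append, List.prod_append, List.map_append, List.prod_append, PairEnum.prod_winv thL_flp,
    List.map_singleton, List.prod_singleton] at hm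
  have e : ((letterPerm j k : Fin 120) : ℕ) = (imgList j).getD k 120 := Nat.mod_eq_of_lt hlt
  rw [cos, cos, e, MulAction.Quotient.smul_coe, smul_eq_mul, eq_comm, QuotientGroup.eq]
  exact hm

/-- An element carries the cosets by a permutation. -/
def Rel120 (g : Spor.Th) (σ : Equiv.Perm (Fin 120)) : Prop := ∀ k : Fin 120, g • cos k = cos (σ k)

theorem Rel120.unique {g : Spor.Th} {σ τ : Equiv.Perm (Fin 120)} (h : Rel120 g σ) (h' : Rel120 g τ) : σ = τ :=
  Equiv.ext fun k => Fin.ext (cos_inj (σ k).isLt (τ k).isLt ((h k).symm.trans (h' k)))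

theorem exists_rel {g : Spor.Th} (hg : g ∈ CA) : ∃ σ, Rel120 g σ := by
  rw [CA_eq.1] at hg
  induction hg using Subgroup.closure_induction with
  | mem g hg =>
    obtain ⟨x, hx, rfl⟩ := hg
    obtain ⟨j, hj, rfl⟩ := List.mem_iff_getElem.1 hx
    exact ⟨letterPerm ⟨j, hj⟩, fun k => by rw [← letter_smul, List.getD_eq_getElem _ _ hj]⟩
  | one => exact ⟨1, fun k => by simp⟩
  | mul g h _ _ hg hh =>
    obtain ⟨σ, hs⟩ := hg
    obtain ⟨τ, ht⟩ := hh
    exact ⟨σ * τ, fun k => by rw [mul_smul, ht k, hs]; rfl⟩
  | inv g _ hg =>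
    obtain ⟨σ, hs⟩ := hg
    refine ⟨σ⁻¹, fun k => ?_⟩
    rw [inv_smul_eq_iff, hs]
    simp

/-- The action on the cosets. -/
noncomputable def phi : CA →* Equiv.Perm (Fin 120) :=
  MonoidHom.mk' (fun g => (exists_rel g.2).choose) fun g h =>
    Rel120.unique (g := g.1 * h.1) (exists_rel (g * h).2).choose_spec fun k => by
      rw [mul_smul, (exists_rel h.2).choose_spec k, (exists_rel g.2).choose_spec]
      rfl

theorem phi_spec (g : CA) : Rel120 g.1 (phi g) := (exists_rel g.2).choose_spec

end CfsgLib.Sporadic.ThPres.Cent
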