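import Cfsg.Agent.Lib.Sporadic.ThPres.Pairs
import Cfsg.Agent.Lib.Sporadic.ThPres.Cent.ClassData

/-!
# The centraliser of the central involution in the 3D4(2):3 part (owner: helper9)

It is the stabiliser of the first of 819 points, so conjugates of the involution are numbered by the points.
-/

set_option autoImplicit false
set_option maxRecDepth 20000
set_option Elab.async false

namespace CfsgLib.Sporadic.ThPres.Cent

open Cfsg
open CfsgLib.ThreeTrans.CosetIndex (forallFrom forallFrom_elim)

/-- A word moving the first point to a given one. -/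
noncomputable def moveW (j : ℕ) : List ℕ :=
  (moveBlocks.getD (Nat.shiftRight j 5) []).getD (Nat.land j 31) []

/-- The word of the conjugate numbered by a point. -/
noncomputable def conjW (j : ℕ) : List ℕ := winv (moveW j) ++ ([0] ++ moveW j)

theorem moveW_ok : forallFrom (fun j => (moveW j).all (fun k => Nat.blt k 14) &&
    Nat.beq (rImg imgA (moveW j) 0) j) 0 819 = true := by decide +kernel

theorem moved_low : forallFrom (fun j => bases.any fun b => !(Nat.beq (rImg imgA (conjW j) b) (imgA 0 b))) 1 409 = true := by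
  decide +kernel

theorem moved_high : forallFrom (fun j => bases.any fun b => !(Nat.beq (rImg imgA (conjW j) b) (imgA 0 b))) 410 409 = true := by
  decide +kernel

theorem t_fix : (Nat.beq (img819 12 0) 0 && eqW [12, 0] [0, 12]) = true := by decide +kernel

theorem moveW_isA {j : ℕ} (hj : j < 819) : isA (moveW j) = true := by
  have h := forallFrom_elim moveW_ok (Nat.zero_le j) (by omega)
  simp only [Bool.and_eq_true, List.all_eq_true, Nat.blt_eq] at h
  exact isA_iff.2 fun k hk => (h.1 k hk).trans (by norm_num)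

theorem moveW_img {j : ℕ} (hj : j < 819) : t819.ract (ev (moveW j)) 0 = j := by
  have h := forallFrom_elim moveW_ok (Nat.zero_le j) (by omega)
  rw [Bool.and_eq_true, Nat.beq_eq] at h
  rw [ev_ract (moveW_isA hj) (by norm_num)]
  exact h.2

theorem conjW_isA {j : ℕ} (hj : j < 819) : isA (conjW j) = true := by
  rw [conjW, isA_append, isA_append, isA_winv (moveW_isA hj), moveW_isA hj]
  rfl

theorem ev_conjW (j : ℕ) : ev (conjW j) = (ev (moveW j))⁻¹ * L 0 * ev (moveW j) := by
  rw [conjW, ev_append, ev_append, ev_winv, ev_cons, ev_nil, mul_one, valA_small (by norm_num), mul_assoc]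

/-- The stabiliser of the first point. -/
noncomputable def fix0 : Subgroup P0 := t819.fix [0]

theorem mem_fix0 {g : P0} : g ∈ fix0 ↔ t819.ract g 0 = 0 := by
  rw [fix0, Tab.mem_fix]; simp

theorem card_fix0 : Nat.card fix0 = 774144 := by
  classical
  choose f hfP hf0 using fun x : Fin 819 => P1_transitive x.val x.isLt
  let Φ : Fin 819 × ↥fix0 → P0 := fun p => p.2.1 * f p.1
  have h0 : ∀ (i : Fin 819) (s : fix0), t819.ract (s.1 * f i) 0 = i := fun i s => by
    rw [t819.ract_mul, mem_fix0.1 s.2, hf0]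
  have hΦ : Function.Bijective Φ := by
    refine ⟨?_, fun g => ?_⟩
    · rintro ⟨i, s⟩ ⟨i', s'⟩ he
      have hi : i = i' := Fin.ext (by rw [← h0 i s, ← h0 i' s']; exact congrArg (fun g => t819.ract g 0) he)
      subst hi
      exact Prod.ext rfl (Subtype.ext (mul_right_cancel he))
    · have hlt := t819.ract_lt g (show 0 < 819 by norm_num)
      refine ⟨(⟨_, hlt⟩, ⟨g * (f ⟨_, hlt⟩)⁻¹, mem_fix0.2 ?_⟩), inv_mul_cancel_right _ _⟩
      rw [t819.ract_mul]
      conv_rhs => rw [← t819.ract_inv (f ⟨_, hlt⟩) 0, hf0]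
  have h := Nat.card_congr (Equiv.ofBijective Φ hΦ)
  rw [Nat.card_prod, Nat.card_fin, natCard_P0] at h
  omega

theorem card_cA_ge : 774144 ≤ Nat.card (gen [0, 2, 3, 4, 5, 6]) := by
  have hA : A5 ≤ gen [0, 2, 3, 4, 5, 6] := Subgroup.closure_mono (by
    rintro _ ⟨x, hx, rfl⟩
    exact ⟨x, by simp at hx ⊢; omega, rfl⟩)
  set G := gen [0, 2, 3, 4, 5, 6]
  obtain ⟨c, hc⟩ := Subgroup.card_dvd_of_le hA
  have ht : L 12 ∈ G := L_mem_gen (x := 6) (by simp)
  have h12 : L 12 ∉ P1 := fun h => by
    have htop : P1 = ⊤ := by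
      rw [eq_top_iff, ← L_closure, Subgroup.closure_le]
      rintro _ ⟨y, hy, rfl⟩
      rcases Nat.lt_or_ge y 12 with h' | h'
      · exact L_mem_P1 h'
      · obtain rfl : y = 12 := by simp at hy; omega
        exact h
    have := card_P1
    rw [htop, Subgroup.card_top, natCard_P0] at this
    norm_num at this
  have hP1 : A5 ≤ P1 := (Subgroup.closure_le _).2 (by rintro _ ⟨x, hx, rfl⟩; exact L_mem_P1 (by simp at hx; omega))
  have h12' : L 12 * L 12 ∉ P1 := fun h => h12 (by
    have e : L 12 * L 12 * (L 12 * L 12) = L 12 := by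
      have := L_rel (w := [12, 12, 12]) (by decide +kernel)
      simp only [List.map_cons, List.map_nil, List.prod_cons, List.prod_nil, mul_one] at this
      rw [mul_assoc, this, mul_one]
    rw [← e]; exact mul_mem h h)
  let f : Fin 3 × ↥A5 → G := fun x => ⟨L 12 ^ (x.1 : ℕ) * x.2.1, mul_mem (pow_mem ht _) (hA x.2.2)⟩
  have hf : Function.Injective f := by
    rintro ⟨i, a⟩ ⟨i', a'⟩ he
    have he' : L 12 ^ (i : ℕ) * a.1 = L 12 ^ (i' : ℕ) * a'.1 := congrArg Subtype.val he
    have hd : (L 12 ^ (i' : ℕ))⁻¹ * L 12 ^ (i : ℕ) ∈ P1 := by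
      rw [show (L 12 ^ (i' : ℕ))⁻¹ * L 12 ^ (i : ℕ) = a'.1 * a.1⁻¹ by
        rw [inv_mul_eq_iff_eq_mul, ← mul_assoc, ← he', mul_inv_cancel_right]]
      exact hP1 (mul_mem a'.2 (inv_mem a.2))
    have hi : i = i' := by
      have hd' := inv_mem hd
      rw [mul_inv_rev, inv_inv] at hd'
      fin_cases i <;> fin_cases i' <;>
        first
          | rfl
          | (exfalso; simp [pow_two, mul_assoc] at hd hd'; first | exact h12 hd | exact h12 hd' | exact h12' hd | exact h12' hd' | exact h12 (inv_mem_iff.1 hd))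
    subst hi
    exact Prod.ext rfl (Subtype.ext (mul_left_cancel he'))
  have := Nat.card_le_card_of_injective f hf
  rwa [Nat.card_prod, Nat.card_fin, card_A5] at this

theorem gen_eq_fix0 : gen [0, 2, 3, 4, 5, 6] = fix0 := by
  refine Subgroup.eq_of_le_of_card_ge ((Subgroup.closure_le _).2 ?_) (by rw [card_fix0]; exact card_cA_ge)
  rintro _ ⟨x, hx, rfl⟩
  rcases Nat.lt_or_ge x 6 with h | h
  · exact mem_fix0.2 (ract_A5 (L_mem_gen (by simp at hx ⊢; omega)))
  · obtain rfl : x = 6 := by simp at hx; omega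
    have h := t_fix
    rw [Bool.and_eq_true, Nat.beq_eq] at h
    rw [SetLike.mem_coe, mem_fix0, t819.ract_L (by norm_num) (show 0 < 819 by norm_num)]
    exact h.1

theorem fix0_comm {g : P0} (hg : g ∈ fix0) : g * L 0 = L 0 * g := by
  have hle : gen [0, 2, 3, 4, 5, 6] ≤ Subgroup.centralizer {L 0} := (Subgroup.closure_le _).2 (by
    rintro _ ⟨x, hx, rfl⟩
    refine Subgroup.mem_centralizer_singleton_iff.2 ?_
    rcases Nat.lt_or_ge x 6 with h | h
    · exact a_central (L_mem_gen (by simp at hx ⊢; omega))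
    · obtain rfl : x = 6 := by simp at hx; omega
      have h := t_fix
      rw [Bool.and_eq_true] at h
      have e := (eqW_sound h.2).2.2
      simpa [valA_small] using e)
  exact Subgroup.mem_centralizer_singleton_iff.1 (hle (gen_eq_fix0 ▸ hg))

/-- The conjugate of the involution depends on the image of the first point. -/
theorem conj_eq (p : P0) : p⁻¹ * L 0 * p = ev (conjW (t819.ract p 0)) := by
  have hj := t819.ract_lt p (show 0 < 819 by norm_num)
  set j := t819.ract p 0 with hjdef
  have hc : p * (ev (moveW j))⁻¹ ∈ fix0 := mem_fix0.2 (by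
    rw [t819.ract_mul, ← hjdef]
    conv_rhs => rw [← t819.ract_inv (ev (moveW j)) 0, moveW_img hj])
  rw [ev_conjW]
  have e := fix0_comm hc
  generalize ev (moveW j) = q at e ⊢
  calc p⁻¹ * L 0 * p = p⁻¹ * (L 0 * (p * q⁻¹)) * q := by group
    _ = q⁻¹ * L 0 * q := by rw [← e]; group

theorem mem_fix0_iff {g : P0} : g ∈ fix0 ↔ g * L 0 = L 0 * g := by
  refine ⟨fix0_comm, fun e => mem_fix0.2 (by_contra fun h0 => ?_)⟩
  have hlt := t819.ract_lt g (show 0 < 819 by norm_num)
  have e1 : ev (conjW (t819.ract g 0)) = L 0 := by rw [← conj_eq, mul_assoc, ← e, inv_mul_cancel_left]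
  have hany : (bases.any fun b => !(Nat.beq (rImg imgA (conjW (t819.ract g 0)) b) (imgA 0 b))) = true := by
    rcases Nat.lt_or_ge (t819.ract g 0) 410 with h | h
    · exact forallFrom_elim moved_low (by omega) (by omega)
    · exact forallFrom_elim moved_high h (show t819.ract g 0 < 410 + 409 from hlt)
  obtain ⟨b, hb, hne⟩ := List.any_eq_true.1 hany
  have hb' : b < 819 := by simp [bases] at hb; omega
  rw [← ev_ract (conjW_isA hlt) hb', e1, ← valA_small (show 0 < 14 by norm_num), (valA_ract (by norm_num) hb').1,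
    Nat.beq_refl] at hne
  simp at hne

/-- The number of points fixed by an element. -/
noncomputable def nFix (g : P0) : ℕ := Nat.card {x : Fin t819.n // t819.psi g x = x}

theorem nFix_conj (g h : P0) : nFix (h⁻¹ * g * h) = nFix g := by
  refine Nat.card_congr ((t819.psi h).subtypeEquiv fun x => ?_)
  rw [map_mul, map_mul, map_inv, Equiv.Perm.mul_apply, Equiv.Perm.mul_apply, Equiv.Perm.inv_eq_iff_eq]

/-- Counting fixed points of a word. -/
noncomputable def cntFix (w : List ℕ) : ℕ := (List.range 819).countP fun z => Nat.beq (rImg imgA w z) z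

theorem nFix_ev {w : List ℕ} (h : isA w = true) : nFix (ev w) = cntFix w := by
  classical
  rw [nFix, Nat.card_eq_fintype_card, Fintype.card_subtype]
  have e : ∀ x : Fin t819.n, t819.psi (ev w) x = x ↔ Nat.beq (rImg imgA w x) x = true := fun x => by
    rw [← ev_ract h (show (x : ℕ) < 819 from x.isLt), Tab.ract, dif_pos x.isLt, Nat.beq_eq, Fin.val_inj,
      Equiv.Perm.inv_eq_iff_eq]
    exact eq_comm
  rw [Finset.filter_congr fun x _ => e x, cntFix]
  have hr : ∀ n, (List.range n).countP (fun z => Nat.beq (rImg imgA w z) z) =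
      ((Finset.range n).filter fun z => Nat.beq (rImg imgA w z) z = true).card := fun n => by
    rw [← List.toFinset_range, ← List.toFinset_filter, List.toFinset_card_of_nodup (List.nodup_range.filter _),
      List.countP_eq_length_filter]
  rw [hr, ← Finset.card_map Fin.valEmbedding]
  congr 1
  ext z
  simp only [Finset.mem_map, Finset.mem_filter, Finset.mem_univ, true_and, Fin.valEmbedding_apply, Finset.mem_range]
  exact ⟨fun ⟨x, hx, e⟩ => e ▸ ⟨x.isLt, hx⟩, fun ⟨h1, h2⟩ => ⟨⟨z, h1⟩, h2, rfl⟩⟩

end CfsgLib.Sporadic.ThPres.Cent
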