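import Cfsg.Agent.Lib.Sporadic.ThPres.Lower.Simple
import Cfsg.Agent.Lib.Sporadic.ThPres.Cent.Points

/-!
# Which cosets can be moved from the first one by the centraliser of the central involution (owner: helper9)
-/

set_option autoImplicit false
set_option maxRecDepth 20000
set_option Elab.async false

namespace CfsgLib.Sporadic.ThPres.Cent

open Cfsg
open CfsgLib.ThreeTrans.CosetIndex (forallFrom forallFrom_elim)

/-- A double coset goes to left cosets. -/
noncomputable def cosetMap : (Σ i : Fin 11, P0 ⧸ stabP i) → Spor.Th ⧸ Hs := fun x =>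
  Quotient.liftOn' x.2 (fun p => ((toTh p * (Wr x.1)⁻¹ : Spor.Th) : Spor.Th ⧸ Hs)) (fun a b hab => by
    rw [QuotientGroup.leftRel_apply] at hab
    rw [QuotientGroup.eq]
    rw [mem_stabP, map_mul, map_inv] at hab
    simpa [mul_assoc] using hab)

theorem cosetMap_mk (i : Fin 11) (p : P0) :
    cosetMap ⟨i, (p : P0 ⧸ stabP i)⟩ = ((toTh p * (Wr i)⁻¹ : Spor.Th) : Spor.Th ⧸ Hs) := rfl

theorem cosetMap_surjective : Function.Surjective cosetMap := by
  intro q
  obtain ⟨g, rfl⟩ := QuotientGroup.mk_surjective q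
  obtain ⟨h, hh, i, hi, p, hg⟩ := mem_dcUnion g⁻¹
  refine ⟨⟨⟨i, hi⟩, ((p⁻¹ : P0) : P0 ⧸ stabP i)⟩, ?_⟩
  rw [cosetMap_mk, QuotientGroup.eq, map_inv, show g = (h * Wr i * toTh p)⁻¹ by rw [← hg, inv_inv]]
  simpa [mul_assoc] using inv_mem hh

theorem card_stabP {i : ℕ} (hi : i < 11) : Nat.card (stabP i) = stabOrders.getD i 0 := by
  classical
  refine le_antisymm (not_lt.1 fun hlt => ?_) (card_stabP_ge hi)
  have hle : ∀ j : Fin 11, (stabP j).index ≤ 634023936 / stabOrders.getD j 0 := fun j => by
    have h1 := (stabP j).index_mul_card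
    rw [natCard_P0] at h1
    rw [Nat.le_div_iff_mul_le (orders_sum.2 j), ← h1]
    exact Nat.mul_le_mul_left _ (card_stabP_ge j.isLt)
  have hstrict : (stabP i).index < 634023936 / stabOrders.getD i 0 := by
    refine lt_of_le_of_ne (hle ⟨i, hi⟩) fun he => ?_
    have h1 := (stabP i).index_mul_card
    rw [natCard_P0] at h1
    have hpos : 0 < (stabP i).index := Nat.pos_of_ne_zero fun h => by rw [h, Nat.zero_mul] at h1; omega
    have h2 : (stabP i).index * stabOrders.getD i 0 ≤ 634023936 := by rw [he]; exact Nat.div_mul_le_self _ _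
    have h3 : (stabP i).index * Nat.card (stabP i) ≤ (stabP i).index * stabOrders.getD i 0 := by
      rw [h1, he]
      have hd : stabOrders.getD i 0 ∣ 634023936 := by
        interval_cases i <;> (simp only [stabOrders, List.getD_cons_zero, List.getD_cons_succ]; norm_num)
      rw [Nat.div_mul_cancel hd]
    exact absurd (Nat.le_of_mul_le_mul_left h3 hpos) (not_le.2 hlt)
  have hs : (Hs : Subgroup Spor.Th).index ≤ ∑ j : Fin 11, (stabP j).index := by
    rw [Subgroup.index_eq_card]
    refine (Nat.card_le_card_of_surjective _ cosetMap_surjective).trans ?_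
    rw [Nat.card_sigma]
    exact le_of_eq (Finset.sum_congr rfl fun j _ => (Subgroup.index_eq_card _).symm)
  have hlt' : ∑ j : Fin 11, (stabP j).index < ∑ j : Fin 11, 634023936 / stabOrders.getD j 0 :=
    Finset.sum_lt_sum (fun j _ => hle j) ⟨⟨i, hi⟩, Finset.mem_univ _, hstrict⟩
  rw [orders_sum.1] at hlt'
  rw [index_Hs] at hs
  omega

/-- The classifications. -/
noncomputable def classAt (i : ℕ) : Class :=
  [⟨[], [], []⟩, class1, class2, class3, class4, class5, class6, class7, class8, class9, class10].getD i ⟨[], [], []⟩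

/-- The word of a generator. -/
noncomputable def genW (i k : ℕ) : List ℕ := (factAt factTree ((classAt i).gens.getD k 0)).1.a

/-- The gens are stabilising facts, and give the levels. -/
noncomputable def gensOK (i : ℕ) : Bool :=
  ((classAt i).gens.all fun g => Nat.blt g 2197 && ((factAt factTree g).1.st && (Nat.beq (factAt factTree g).1.i i &&
    (Nat.beq (factAt factTree g).1.a.length 1 && isA (factAt factTree g).1.a)))) &&
  (let items := (classAt i).gens.map fun g => (factAt factTree g).1.a.getD 0 999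
   (gensOf (lvlsAt i)).all fun w => w.all fun y => items.contains y || items.contains (Nat.xor y 1))

theorem gens_ok : forallFrom gensOK 1 10 = true := by decide +kernel

/-- The subgroup of the generators. -/
noncomputable def stabG (i : ℕ) : Subgroup P0 :=
  Subgroup.closure {s | ∃ g ∈ (classAt i).gens, s = ev (factAt factTree g).1.a}

theorem gen_spec {i : ℕ} (h1 : 1 ≤ i) (hi : i < 11) {g : ℕ} (hg : g ∈ (classAt i).gens) :
    g < 2197 ∧ (factAt factTree g).1.st = true ∧ (factAt factTree g).1.i = i ∧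
      (factAt factTree g).1.a.length = 1 ∧ isA (factAt factTree g).1.a = true := by
  have h := forallFrom_elim gens_ok h1 (show i < 1 + 10 by omega)
  simp only [gensOK, Bool.and_eq_true, List.all_eq_true, Nat.blt_eq, Nat.beq_eq] at h
  exact h.1 g hg

theorem stabP_eq {i : ℕ} (h1 : 1 ≤ i) (hi : i < 11) : stabP i = stabG i := by
  have hle : stabG i ≤ stabP i := (Subgroup.closure_le _).2 (by
    rintro _ ⟨g, hg, rfl⟩
    obtain ⟨hlt, hst, hii, -, -⟩ := gen_spec h1 hi hg
    exact stab_of_fact hlt hst hii)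
  refine (Subgroup.eq_of_le_of_card_ge hle ?_).symm
  rw [card_stabP hi]
  have hok := forallFrom_elim stab_lvls_ok h1 (show i < 1 + 10 by omega)
  simp only [Bool.and_eq_true, Nat.beq_eq] at hok
  obtain ⟨hl, hp, hg, -⟩ := hok
  have hitem : ∀ y ∈ (classAt i).gens.map (fun g => (factAt factTree g).1.a.getD 0 999), valA y ∈ stabG i := by
    intro y hy
    obtain ⟨g, hgm, rfl⟩ := List.mem_map.1 hy
    obtain ⟨-, -, -, hlen, -⟩ := gen_spec h1 hi hgm
    obtain ⟨z, hz⟩ := List.length_eq_one_iff.1 hlen
    have hm : ev (factAt factTree g).1.a ∈ stabG i := Subgroup.subset_closure ⟨g, hgm, rfl⟩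
    rw [hz] at hm ⊢
    simpa using hm
  have hfrom := forallFrom_elim gens_ok h1 (show i < 1 + 10 by omega)
  simp only [gensOK, Bool.and_eq_true, List.all_eq_true, Bool.or_eq_true, List.contains_iff_mem] at hfrom
  have hmem : ∀ w ∈ gensOf (lvlsAt i), ev w ∈ stabG i := fun w hw => list_prod_mem fun x hx => by
    obtain ⟨y, hy, rfl⟩ := List.mem_map.1 hx
    rcases hfrom.2 w hw y hy with h | h
    · exact hitem y h
    · have h2 := inv_mem (hitem _ h)
      rw [show valA (Nat.xor y 1) = (valA y)⁻¹ from valF_flp 112 y, inv_inv] at h2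
      exact h2
  have hle' := orbitProd_le t819 ev (rImg imgA) 10 (fun w => isA w = true) (fun w hw x hx => ev_ract hw hx)
    (stabG i) hl (List.all_eq_true.1 hg) hmem
  rw [hp] at hle'
  exact le_trans (Nat.le_mul_of_pos_right _ Nat.card_pos) hle'

/-- A conjugate lies in the stabiliser and goes to a conjugate. -/
def Cand (i j : ℕ) : Prop :=
  ev (conjW j) ∈ stabP i ∧ ∃ y : P0, Wr i * toTh (ev (conjW j)) * (Wr i)⁻¹ = toTh (y⁻¹ * L 0 * y)

theorem cand_step {i j : ℕ} (hj : j < 819) {s : P0} (hs : s ∈ stabP i) (h : Cand i (t819.ract s j)) : Cand i j := by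
  obtain ⟨hm, y, hy⟩ := h
  have e : ev (conjW (t819.ract s j)) = s⁻¹ * ev (conjW j) * s := by
    rw [show t819.ract s j = t819.ract (ev (moveW j) * s) 0 by rw [t819.ract_mul, moveW_img hj], ← conj_eq, ev_conjW]
    group
  rw [e] at hm hy
  refine ⟨?_, ?_⟩
  · have h := mul_mem (mul_mem hs hm) (inv_mem hs)
    rwa [show s * (s⁻¹ * ev (conjW j) * s) * s⁻¹ = ev (conjW j) by group] at h
  · obtain ⟨n, hn⟩ := hs
    refine ⟨y * n⁻¹, ?_⟩
    have e2 : Wr i * toTh (ev (conjW j)) * (Wr i)⁻¹ = Wr i * toTh s * (Wr i)⁻¹ *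
        (Wr i * toTh (s⁻¹ * ev (conjW j) * s) * (Wr i)⁻¹) * (Wr i * toTh s * (Wr i)⁻¹)⁻¹ := by
      simp only [map_mul, map_inv]; group
    have hn' : toTh n = Wr i * toTh s * (Wr i)⁻¹ := hn
    rw [e2, hy, ← hn']
    simp only [map_mul, map_inv]
    group

/-- The label of a point. -/
noncomputable def labAt (l : List ℕ) (z : ℕ) : ℕ :=
  Nat.land (Nat.shiftRight (l.getD (Nat.shiftRight z 6) 0) (Nat.mul 8 (Nat.land z 63))) 255

/-- Labels are kept by the generators. -/
noncomputable def labOK (i : ℕ) : Bool :=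
  forallFrom (fun k => forallFrom (fun z => Nat.beq (labAt (classAt i).lab (rImg imgA (genW i k) z))
    (labAt (classAt i).lab z)) 0 819) 0 (classAt i).gens.length

theorem lab_ok1 : labOK 1 = true := by decide +kernel

theorem lab_ok2 : labOK 2 = true := by decide +kernel

theorem lab_ok3 : labOK 3 = true := by decide +kernel

theorem lab_ok4 : labOK 4 = true := by decide +kernel

theorem lab_ok5 : labOK 5 = true := by decide +kernel

theorem lab_ok6 : labOK 6 = true := by decide +kernel

theorem lab_ok7 : labOK 7 = true := by decide +kernel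

theorem lab_ok8 : labOK 8 = true := by decide +kernel

theorem lab_ok9 : labOK 9 = true := by decide +kernel

theorem lab_ok10 : labOK 10 = true := by decide +kernel

theorem lab_ok {i : ℕ} (h1 : 1 ≤ i) (hi : i < 11) : labOK i = true := by
  interval_cases i
  exacts [lab_ok1, lab_ok2, lab_ok3, lab_ok4, lab_ok5, lab_ok6, lab_ok7, lab_ok8, lab_ok9, lab_ok10]

/-- The image of a packed pair. -/
noncomputable def pairImg (w : List ℕ) (p : ℕ) : ℕ :=
  Nat.add (rImg imgA w (Nat.land p 1023)) (Nat.mul 1024 (rImg imgA w (Nat.shiftRight p 10)))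

/-- The reason is valid for the conjugate numbered by `j`. -/
noncomputable def reasonOK (i j : ℕ) : Reason → Bool
  | .good => true
  | .outLab z => Nat.blt z 819 &&
      !(Nat.beq (labAt (classAt i).lab (rImg imgA (conjW j) z)) (labAt (classAt i).lab z))
  | .outPair P T a b =>
    let O := (List.range (T.length + 1)).map (pk 20 P)
    Nat.blt a 819 && (Nat.blt b 819 && (Nat.beq (pk 20 P 0) (Nat.add a (Nat.mul 1024 b)) &&
      ((O.all fun p => Nat.blt (Nat.land p 1023) 819 && (Nat.blt (Nat.shiftRight p 10) 819 &&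
        (List.range (classAt i).gens.length).all fun k => O.contains (pairImg (genW i k) p))) &&
      !(O.contains (pairImg (conjW j) (Nat.add a (Nat.mul 1024 b)))))))
  | .other h =>
    match hWord factTree 2197 i h with
    | some (aw, nw) => eqW aw (conjW j) && (isA nw && !(Nat.beq (cntFix nw) (cntFix [0])))
    | none => false

/-- The points of an orbit. -/
noncomputable def orbPts (o : ℕ × ℕ × List (ℕ × ℕ) × Reason) : List ℕ :=
  (List.range (o.2.2.1.length + 1)).map (pk 10 o.2.1)

/-- An orbit row is valid. -/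
noncomputable def orbOK (i : ℕ) (o : ℕ × ℕ × List (ℕ × ℕ) × Reason) : Bool :=
  Nat.blt o.1 819 && (Nat.beq (pk 10 o.2.1 0) o.1 && ((o.2.2.1.all fun e => Nat.blt e.1 (classAt i).gens.length) &&
    (treeOK (fun k z => rImg imgA (genW i k) z) 10 o.2.1 o.2.2.1 1 && reasonOK i o.1 o.2.2.2)))

/-- The points that may have a conjugate of the involution. -/
noncomputable def goodPts (i : ℕ) : List ℕ :=
  (classAt i).orbs.flatMap fun o => match o.2.2.2 with
    | .good => orbPts o
    | _ => []

/-- The bits of a list of numbers. -/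
noncomputable def bitsOf (l : List ℕ) : ℕ :=
  List.rec (motive := fun _ => ℕ) 0 (fun j _ ih => Nat.lor (Nat.shiftLeft 1 j) ih) l

theorem mem_of_testBit : ∀ {l : List ℕ} {j : ℕ}, Nat.testBit (bitsOf l) j = true → j ∈ l
  | [], j, h => by simp [bitsOf] at h
  | a :: l, j, h => by
    have h' : Nat.testBit ((1 <<< a) ||| bitsOf l) j = true := h
    rw [Nat.testBit_or, Bool.or_eq_true] at h'
    rcases h' with h' | h'
    · rw [Nat.one_shiftLeft, Nat.testBit_two_pow, decide_eq_true_eq] at h'
      exact h' ▸ List.mem_cons_self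
    · exact List.mem_cons_of_mem _ (mem_of_testBit h')

/-- All checks. -/
noncomputable def classOK (i : ℕ) : Bool :=
  (classAt i).orbs.all (orbOK i) && (Nat.beq (bitsOf ((classAt i).orbs.flatMap orbPts)) (Nat.sub (Nat.pow 2 819) 1) &&
    ((goodPts i).all fun z => (List.range (classAt i).gens.length).all fun k =>
      (goodPts i).contains (rImg imgA (genW i k) z)))

theorem class_ok1 : classOK 1 = true := by decide +kernel

theorem class_ok2 : classOK 2 = true := by decide +kernel

theorem class_ok3 : classOK 3 = true := by decide +kernel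

theorem class_ok4 : classOK 4 = true := by decide +kernel

theorem class_ok5 : classOK 5 = true := by decide +kernel

theorem class_ok6 : classOK 6 = true := by decide +kernel

theorem class_ok7 : classOK 7 = true := by decide +kernel

theorem class_ok8 : classOK 8 = true := by decide +kernel

theorem class_ok9 : classOK 9 = true := by decide +kernel

theorem class_ok10 : classOK 10 = true := by decide +kernel

theorem class_ok {i : ℕ} (h1 : 1 ≤ i) (hi : i < 11) : classOK i = true := by
  interval_cases i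
  exacts [class_ok1, class_ok2, class_ok3, class_ok4, class_ok5, class_ok6, class_ok7, class_ok8, class_ok9, class_ok10]

theorem good_lengths : (List.range 11).map (fun i => (goodPts i).length) = [0, 3, 0, 0, 0, 0, 1, 0, 0, 0, 0] := by
  decide +kernel

theorem genW_spec {i k : ℕ} (h1 : 1 ≤ i) (hi : i < 11) (hk : k < (classAt i).gens.length) :
    isA (genW i k) = true ∧ ev (genW i k) ∈ stabP i := by
  have hm : (classAt i).gens.getD k 0 ∈ (classAt i).gens := by
    rw [List.getD_eq_getElem _ _ hk]; exact List.getElem_mem hk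
  obtain ⟨hlt, hst, hii, -, hA⟩ := gen_spec h1 hi hm
  exact ⟨hA, stab_of_fact hlt hst hii⟩

theorem reason_sound {i j : ℕ} (h1 : 1 ≤ i) (hi : i < 11) (hj : j < 819) {r : Reason} (hr : reasonOK i j r = true)
    (hg : ∀ (_ : r = .good), False) : ¬ Cand i j := by
  rintro ⟨hmem, y, hy⟩
  rw [stabP_eq h1 hi] at hmem
  have hgen : ∀ g ∈ (classAt i).gens, ∃ k < (classAt i).gens.length, genW i k = (factAt factTree g).1.a := by
    intro g hgm
    obtain ⟨k, hk, rfl⟩ := List.mem_iff_getElem.1 hgm
    exact ⟨k, hk, by rw [genW, List.getD_eq_getElem _ _ hk]⟩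
  match r, hr, hg with
  | .good, _, hg => exact hg rfl
  | .outLab z, hr, _ =>
    simp only [reasonOK, Bool.and_eq_true, Nat.blt_eq, Bool.not_eq_true'] at hr
    have key : ∀ s ∈ stabG i, ∀ z < 819, labAt (classAt i).lab (t819.ract s z) = labAt (classAt i).lab z := by
      intro s hs
      induction hs using Subgroup.closure_induction with
      | mem s hs =>
        obtain ⟨g, hgm, rfl⟩ := hs
        obtain ⟨k, hk, e⟩ := hgen g hgm
        intro z hz
        have h := forallFrom_elim (forallFrom_elim (lab_ok h1 hi)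
          (Nat.zero_le k) (by omega)) (Nat.zero_le z) (show z < 0 + 819 by omega)
        rw [← e, ev_ract (genW_spec h1 hi hk).1 hz]
        exact Nat.eq_of_beq_eq_true h
      | one => intro z _; rw [t819.ract_one]
      | mul a b _ _ ha hb => intro z hz; rw [t819.ract_mul, hb _ (t819.ract_lt a hz), ha z hz]
      | inv a _ ha =>
        intro z hz
        have h := ha (t819.ract a⁻¹ z) (t819.ract_lt _ hz)
        rw [← t819.ract_mul, inv_mul_cancel, t819.ract_one] at h
        exact h.symm
    have := key _ hmem z hr.1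
    rw [ev_ract (conjW_isA hj) hr.1] at this
    rw [this, Nat.beq_refl] at hr
    simp at hr
  | .outPair P T a b, hr, _ =>
    simp only [reasonOK, Bool.and_eq_true, Nat.blt_eq, Bool.not_eq_true', Nat.beq_eq, List.all_eq_true,
      List.mem_range, List.contains_iff_mem] at hr
    obtain ⟨ha, hb, hp0, hcl, hout⟩ := hr
    set O := (List.range (T.length + 1)).map (pk 20 P)
    let S : Set (ℕ × ℕ) := {q | q.1 < 819 ∧ q.2 < 819 ∧ q.1 + 1024 * q.2 ∈ O}
    have hS : S.Finite := ((Set.finite_Iio 819).prod (Set.finite_Iio 819)).subset fun q hq => ⟨hq.1, hq.2.1⟩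
    have dec : ∀ u v : ℕ, u < 819 → Nat.land (u + 1024 * v) 1023 = u ∧ Nat.shiftRight (u + 1024 * v) 10 = v := by
      intro u v hu
      refine ⟨?_, ?_⟩
      · show (u + 1024 * v) &&& (2 ^ 10 - 1) = u
        rw [Nat.and_two_pow_sub_one_eq_mod]; omega
      · show (u + 1024 * v) >>> 10 = v
        rw [Nat.shiftRight_eq_div_pow]; omega
    let P' : Subgroup P0 :=
      { carrier := {s | ∀ q : ℕ × ℕ, q ∈ S ↔ (t819.ract s q.1, t819.ract s q.2) ∈ S}
        one_mem' := fun q => by simp [t819.ract_one]
        mul_mem' := fun {a b} ha hb q => by rw [ha q, hb (_, _), ← t819.ract_mul, ← t819.ract_mul]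
        inv_mem' := fun {a} ha q => by
          rw [ha (t819.ract a⁻¹ q.1, t819.ract a⁻¹ q.2)]
          simp only [← t819.ract_mul, inv_mul_cancel, t819.ract_one] }
    have hle : stabG i ≤ P' := (Subgroup.closure_le _).2 (by
      rintro _ ⟨g, hgm, rfl⟩
      obtain ⟨k, hk, e⟩ := hgen g hgm
      rw [← e]
      set f : ℕ × ℕ → ℕ × ℕ := fun q => (t819.ract (ev (genW i k)) q.1, t819.ract (ev (genW i k)) q.2)
      have hmap : Set.MapsTo f S S := by
        rintro ⟨u, v⟩ ⟨hu, hv, hq⟩
        refine ⟨t819.ract_lt _ hu, t819.ract_lt _ hv, ?_⟩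
        have h := (hcl _ hq).2.2 k hk
        rw [pairImg, (dec u v hu).1, (dec u v hu).2] at h
        show t819.ract (ev (genW i k)) u + 1024 * t819.ract (ev (genW i k)) v ∈ O
        rwa [ev_ract (genW_spec h1 hi hk).1 hu, ev_ract (genW_spec h1 hi hk).1 hv]
      have hinj : Function.Injective f := fun q q' e =>
        Prod.ext (t819.ract_inj _ (congrArg Prod.fst e)) (t819.ract_inj _ (congrArg Prod.snd e))
      intro q
      refine ⟨fun hq => hmap hq, fun hq => ?_⟩
      obtain ⟨q', hq', e'⟩ := (Set.Finite.surjOn_iff_bijOn_of_mapsTo hS hmap).2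
        ((Set.Finite.injOn_iff_bijOn_of_mapsTo hS hmap).1 (hinj.injOn)) |>.trans le_rfl hq
      rwa [← hinj e'])
    have h0 : (a, b) ∈ S := ⟨ha, hb, List.mem_map.2 ⟨0, by simp, hp0⟩⟩
    have h := (hle hmem (a, b)).1 h0
    rw [ev_ract (conjW_isA hj) ha, ev_ract (conjW_isA hj) hb] at h
    have h' := h.2.2
    rw [pairImg, show Nat.add a (Nat.mul 1024 b) = a + 1024 * b from rfl, (dec a b ha).1, (dec a b ha).2] at hout
    have h'' : O.contains ((rImg imgA (conjW j) a).add (Nat.mul 1024 (rImg imgA (conjW j) b))) = true :=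
      List.contains_iff_mem.2 h'
    rw [h''] at hout
    simp at hout
  | .other h, hr, _ =>
    simp only [reasonOK] at hr
    split at hr
    next aw nw hh =>
      simp only [Bool.and_eq_true, Bool.not_eq_true'] at hr
      obtain ⟨heq, hn, hne⟩ := hr
      have hs : Wr i * evT aw = evT nw * Wr i := hWord_sound holds hh
      rw [evT_eqW heq] at hs
      have e : toTh (ev nw) = toTh (y⁻¹ * L 0 * y) := by
        rw [← hy]
        show evT nw = Wr i * evT (conjW j) * (Wr i)⁻¹
        rw [hs, mul_inv_cancel_right]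
      have e' : nFix (ev nw) = nFix (ev [0]) := by
        rw [toTh_injective e, nFix_conj, ev_cons, ev_nil, mul_one, valA_small (by norm_num)]
      rw [nFix_ev hn, nFix_ev (by decide +kernel)] at e'
      rw [e', Nat.beq_refl] at hne
      simp at hne
    next => simp at hr

theorem cand_good {i j : ℕ} (h1 : 1 ≤ i) (hi : i < 11) (hj : j < 819) (h : Cand i j) : j ∈ goodPts i := by
  have hok := class_ok h1 hi
  simp only [classOK, Bool.and_eq_true, List.all_eq_true, Nat.beq_eq] at hok
  obtain ⟨horbs, hcover, -⟩ := hok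
  have hc : j ∈ (classAt i).orbs.flatMap orbPts := mem_of_testBit (by
    rw [hcover]
    exact (Nat.testBit_two_pow_sub_one 819 j).trans (decide_eq_true hj))
  obtain ⟨o, ho, hjo⟩ := List.mem_flatMap.1 hc
  by_cases hg : o.2.2.2 = .good
  · exact List.mem_flatMap.2 ⟨o, ho, by rw [hg]; exact hjo⟩
  exfalso
  have hok := horbs o ho
  simp only [orbOK, Bool.and_eq_true, Nat.blt_eq, Nat.beq_eq, List.all_eq_true] at hok
  obtain ⟨hr, hp, hk, htree, hreason⟩ := hok
  obtain ⟨q, hq, rfl⟩ := List.mem_map.1 hjo
  rw [List.mem_range] at hq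
  have := treeOK_mem (P := fun z => z < 819 ∧ ¬ Cand i z) _ 1 (fun q' hq' => ?_) (fun e he z hz => ?_) htree q
    (by omega)
  · exact this.2 h
  · rw [Nat.lt_one_iff.1 hq', hp]
    exact ⟨hr, reason_sound h1 hi hr hreason fun e => hg e⟩
  · obtain ⟨hz, hn⟩ := hz
    obtain ⟨hA, hs⟩ := genW_spec h1 hi (hk e he)
    rw [← ev_ract hA hz]
    exact ⟨t819.ract_lt _ hz, fun hc => hn (cand_step hz hs hc)⟩

end CfsgLib.Sporadic.ThPres.Cent
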