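import Cfsg.Agent.Lib.Sporadic.ThPres.Cent.Quot
import Cfsg.Agent.Lib.PGroups.Extraspecial

/-!
# The kernel is extraspecial of order 512 (owner: helper9)
-/

set_option autoImplicit false
set_option maxRecDepth 20000
set_option Elab.async false

namespace CfsgLib.Sporadic.ThPres.Cent

open Cfsg
open CfsgLib.ThreeTrans.CosetIndex (forallFrom forallFrom_elim)
open scoped commutatorElement

/-- The central involution. -/
noncomputable def za : CA := caX 0

theorem za_val : (za : Spor.Th) = thL 0 := caX_val (by simp)

theorem za_sq : za * za = 1 := by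
  refine Subtype.ext ?_
  rw [Subgroup.coe_mul, za_val, Subgroup.coe_one, ← toTh_L (show 0 < 14 by norm_num), ← map_mul]
  have h := L_rel (w := [0, 0]) (by decide +kernel)
  simp only [List.map_cons, List.map_nil, List.prod_cons, List.prod_nil, mul_one] at h
  rw [h, map_one]

theorem za_ne : za ≠ 1 := fun h => by
  have e : (za : Spor.Th) = 1 := by rw [h, Subgroup.coe_one]
  rw [za_val, ← toTh_L (show 0 < 14 by norm_num)] at e
  exact rho_toTh_L0 (by rw [e, map_one])

theorem za_comm (g : CA) : g * za = za * g :=
  Subtype.ext (by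
    rw [Subgroup.coe_mul, Subgroup.coe_mul, za_val]
    exact Subgroup.mem_centralizer_singleton_iff.1 g.2)

/-- A power of the central involution by a bit. -/
noncomputable def zb (b : Bool) : CA := cond b za 1

theorem zb_mul (b c : Bool) : zb b * zb c = zb (xor b c) := by
  cases b <;> cases c <;> simp [zb, za_sq]

theorem zb_inj {b c : Bool} (h : zb b = zb c) : b = c := by
  cases b <;> cases c <;> simp only [zb, cond_true, cond_false] at h <;>
    first | rfl | exact absurd h za_ne | exact absurd h.symm za_ne

theorem zb_comm (g : CA) (b : Bool) : g * zb b = zb b * g := by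
  cases b
  · simp [zb]
  · exact za_comm g

/-- A generator of the kernel. -/
noncomputable def kx (i : ℕ) : CA := caW (kerWords.getD i [])

/-- An entry of the form. -/
def formB (i j : ℕ) : Bool := Nat.testBit (formRows.getD i 0) j

theorem kerWords_ok : ((List.range 8).all fun i => isC (kerWords.getD i [])) = true := by decide +kernel

theorem kerWords_chi : ∀ i : Fin 8, ((kerWords.getD i []).map nineL).prod = 1 := by decide +kernel

theorem za_chi : chi za = 1 := by
  rw [za, chi_caX]; decide +kernel

theorem sq_ok : ((List.range 8).all fun i =>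
    isOne factTree 2197 (kerWords.getD i [] ++ kerWords.getD i []) (sqUses.getD i [])) = true := by decide +kernel

/-- A commutator relation. -/
noncomputable def commOK (i j : ℕ) : Bool :=
  isOne factTree 2197 (PairEnum.winv (kerWords.getD i []) ++ PairEnum.winv (kerWords.getD j []) ++
    kerWords.getD i [] ++ kerWords.getD j [] ++ cond (formB i j) [0] []) (commUses.getD (8 * i + j) [])

theorem comm_ok : ((List.range 8).all fun i => (List.range 8).all fun j => commOK i j) = true := by decide +kernel

theorem kx_val {i : ℕ} (hi : i < 8) : (kx i : Spor.Th) = ((kerWords.getD i []).map thL).prod :=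
  caW_val (List.all_eq_true.1 kerWords_ok i (List.mem_range.2 hi))

theorem kx_sq {i : ℕ} (hi : i < 8) : kx i * kx i = 1 := by
  refine Subtype.ext ?_
  rw [Subgroup.coe_mul, Subgroup.coe_one, kx_val hi, ← List.prod_append, ← List.map_append]
  exact isOne_sound pairsHold reps_first.1 holds (List.all_eq_true.1 sq_ok i (List.mem_range.2 hi))

theorem kx_comm {i j : ℕ} (hi : i < 8) (hj : j < 8) : kx i * kx j = kx j * kx i * zb (formB i j) := by
  have h := List.all_eq_true.1 (List.all_eq_true.1 comm_ok i (List.mem_range.2 hi)) j (List.mem_range.2 hj)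
  have e := isOne_sound pairsHold reps_first.1 holds h
  simp only [List.map_append, List.prod_append, PairEnum.prod_winv thL_flp, ← kx_val hi, ← kx_val hj] at e
  have hz : ((cond (formB i j) [0] [] : List ℕ).map thL).prod = (zb (formB i j) : Spor.Th) := by
    cases formB i j <;> simp [zb, za_val]
  rw [hz, ← Subgroup.coe_inv, ← Subgroup.coe_inv, ← Subgroup.coe_mul, ← Subgroup.coe_mul, ← Subgroup.coe_mul,
    ← Subgroup.coe_mul, OneMemClass.coe_eq_one] at e
  have h1 : kx i * kx j * zb (formB i j) = kx j * kx i := by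
    calc kx i * kx j * zb (formB i j)
        = kx j * kx i * ((kx i)⁻¹ * (kx j)⁻¹ * kx i * kx j * zb (formB i j)) := by group
      _ = _ := by rw [e, mul_one]
  rw [← h1, mul_assoc, zb_mul]
  simp [zb]

/-- The product of the generators chosen by the bits of a number, in a given order. -/
noncomputable def prodOn (n : ℕ) (l : List ℕ) : CA := (l.map fun i => cond (Nat.testBit n i) (kx i) 1).prod

/-- The parity of a pairing. -/
def parOn (n : ℕ) (l : List ℕ) (j : ℕ) : Bool :=
  l.foldr (fun i b => xor (Nat.testBit n i && formB i j) b) false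

theorem prodOn_comm (n : ℕ) {j : ℕ} (hj : j < 8) : ∀ {l : List ℕ}, (∀ i ∈ l, i < 8) →
    prodOn n l * kx j = kx j * prodOn n l * zb (parOn n l j)
  | [], _ => by simp [prodOn, parOn, zb]
  | i :: l, h => by
    have ih := prodOn_comm n hj (l := l) fun k hk => h k (List.mem_cons_of_mem _ hk)
    show cond (Nat.testBit n i) (kx i) 1 * prodOn n l * kx j =
      kx j * (cond (Nat.testBit n i) (kx i) 1 * prodOn n l) * zb (xor (Nat.testBit n i && formB i j) (parOn n l j))
    rw [mul_assoc, ih]
    cases Nat.testBit n i with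
    | false => simp
    | true =>
      simp only [cond_true, Bool.true_and]
      calc kx i * (kx j * prodOn n l * zb (parOn n l j))
          = kx i * kx j * prodOn n l * zb (parOn n l j) := by group
        _ = kx j * kx i * (zb (formB i j) * prodOn n l) * zb (parOn n l j) := by
          rw [kx_comm (h i List.mem_cons_self) hj]; group
        _ = kx j * kx i * prodOn n l * (zb (formB i j) * zb (parOn n l j)) := by rw [← zb_comm]; group
        _ = _ := by rw [zb_mul]; group

/-- The parities of a number, packed. -/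
def parVec (n : ℕ) : List Bool := (List.range 8).map fun j => parOn n (List.range 8) j

theorem parVec_nodup : decide (((List.range 256).map parVec).Nodup) = true := by decide +kernel

/-- The kernel. -/
noncomputable abbrev QK : Subgroup CA := chi.ker

theorem za_mem : za ∈ QK := MonoidHom.mem_ker.2 za_chi

theorem kx_mem {i : ℕ} (hi : i < 8) : kx i ∈ QK :=
  MonoidHom.mem_ker.2 (by rw [kx, chi_caW]; exact kerWords_chi ⟨i, hi⟩)

/-- A normal form. -/
noncomputable def normForm (x : Fin 256 × Bool) : CA := prodOn x.1 (List.range 8) * zb x.2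

theorem normForm_mem (x : Fin 256 × Bool) : normForm x ∈ QK := by
  refine mul_mem (list_prod_mem fun g hg => ?_) ?_
  · obtain ⟨i, hi, rfl⟩ := List.mem_map.1 hg
    cases Nat.testBit x.1 i
    · exact one_mem _
    · exact kx_mem (List.mem_range.1 hi)
  · cases x.2
    · exact one_mem _
    · exact za_mem

theorem normForm_comm (x : Fin 256 × Bool) {j : ℕ} (hj : j < 8) :
    normForm x * kx j = kx j * normForm x * zb (parOn x.1 (List.range 8) j) := by
  calc prodOn x.1 (List.range 8) * zb x.2 * kx j = prodOn x.1 (List.range 8) * kx j * zb x.2 := by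
        rw [mul_assoc, ← zb_comm, ← mul_assoc]
    _ = kx j * (prodOn x.1 (List.range 8) * zb (parOn x.1 (List.range 8) j) * zb x.2) := by
        rw [prodOn_comm _ hj fun i hi => List.mem_range.1 hi]; group
    _ = _ := by rw [mul_assoc (prodOn _ _), zb_mul, Bool.xor_comm, ← zb_mul, normForm]; group

theorem par_eq {x y : Fin 256 × Bool} (h : ∀ j < 8, parOn x.1 (List.range 8) j = parOn y.1 (List.range 8) j) :
    x.1 = y.1 := by
  refine Fin.ext ((List.Nodup.getElem_inj_iff (of_decide_eq_true parVec_nodup) (i := x.1.val) (j := y.1.val)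
    (hi := by simp) (hj := by simp)).1 ?_)
  simp only [List.getElem_map, List.getElem_range, parVec]
  exact List.map_congr_left fun j hj => h j (List.mem_range.1 hj)

theorem normForm_injective : Function.Injective normForm := by
  intro x y e
  have h1 : x.1 = y.1 := par_eq fun j hj => by
    have ex := normForm_comm x hj
    rw [e, normForm_comm y hj] at ex
    exact (zb_inj (mul_left_cancel ex)).symm
  refine Prod.ext h1 (zb_inj ?_)
  unfold normForm at e
  rw [h1] at e
  exact mul_left_cancel e

theorem normForm_surjective {q : CA} (hq : q ∈ QK) : ∃ x, normForm x = q := by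
  have hinj : Function.Injective fun x => (⟨normForm x, normForm_mem x⟩ : QK) := fun x y e =>
    normForm_injective (congrArg Subtype.val e)
  have hb := hinj.bijective_of_nat_card_le (le_of_eq (by
    rw [card_ker_chi, Nat.card_prod, Nat.card_fin, Nat.card_eq_fintype_card, Fintype.card_bool]))
  obtain ⟨x, hx⟩ := hb.2 ⟨q, hq⟩
  exact ⟨x, congrArg Subtype.val hx⟩

theorem comm_mem_center_aux {q : CA} (hq : q ∈ QK) {j : ℕ} (hj : j < 8) : ∃ b, q * kx j = kx j * q * zb b := by
  obtain ⟨x, rfl⟩ := normForm_surjective hq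
  exact ⟨_, normForm_comm x hj⟩

theorem comm_za {q r : CA} (hq : q ∈ QK) (hr : r ∈ QK) : ∃ b, q * r = r * q * zb b := by
  obtain ⟨x, rfl⟩ := normForm_surjective hr
  suffices h : ∀ l : List ℕ, (∀ i ∈ l, i < 8) → ∃ b, q * prodOn x.1 l = prodOn x.1 l * q * zb b by
    obtain ⟨b, hb⟩ := h (List.range 8) fun i hi => List.mem_range.1 hi
    refine ⟨b, ?_⟩
    calc q * (prodOn x.1 (List.range 8) * zb x.2) = q * prodOn x.1 (List.range 8) * zb x.2 := by group
      _ = prodOn x.1 (List.range 8) * q * (zb b * zb x.2) := by rw [hb]; group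
      _ = prodOn x.1 (List.range 8) * (q * zb x.2) * zb b := by rw [zb_mul, Bool.xor_comm, ← zb_mul]; group
      _ = _ := by rw [zb_comm q x.2, normForm]; group
  intro l hl
  induction l with
  | nil => exact ⟨false, by simp [prodOn, zb]⟩
  | cons i l ih =>
    obtain ⟨b, hb⟩ := ih fun k hk => hl k (List.mem_cons_of_mem _ hk)
    show ∃ b, q * (cond (Nat.testBit x.1 i) (kx i) 1 * prodOn x.1 l) =
      cond (Nat.testBit x.1 i) (kx i) 1 * prodOn x.1 l * q * zb b
    cases Nat.testBit x.1 i with
    | false => exact ⟨b, by simpa using hb⟩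
    | true =>
      obtain ⟨c, hc⟩ := comm_mem_center_aux hq (hl i List.mem_cons_self)
      refine ⟨xor b c, ?_⟩
      simp only [cond_true]
      calc q * (kx i * prodOn x.1 l) = q * kx i * prodOn x.1 l := by group
        _ = kx i * q * (zb c * prodOn x.1 l) := by rw [hc]; group
        _ = kx i * (q * prodOn x.1 l) * zb c := by rw [← zb_comm]; group
        _ = kx i * prodOn x.1 l * q * (zb b * zb c) := by rw [hb]; group
        _ = _ := by rw [zb_mul]

theorem sq_za {q : CA} (hq : q ∈ QK) : ∃ b, q * q = zb b := by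
  obtain ⟨x, rfl⟩ := normForm_surjective hq
  suffices h : ∀ l : List ℕ, (∀ i ∈ l, i < 8) → ∃ b, prodOn x.1 l * prodOn x.1 l = zb b by
    obtain ⟨b, hb⟩ := h (List.range 8) fun i hi => List.mem_range.1 hi
    refine ⟨b, ?_⟩
    calc prodOn x.1 (List.range 8) * zb x.2 * (prodOn x.1 (List.range 8) * zb x.2)
        = prodOn x.1 (List.range 8) * (zb x.2 * prodOn x.1 (List.range 8)) * zb x.2 := by group
      _ = prodOn x.1 (List.range 8) * prodOn x.1 (List.range 8) * (zb x.2 * zb x.2) := by rw [← zb_comm]; group
      _ = _ := by rw [hb, zb_mul, zb_mul, Bool.xor_self, Bool.xor_false]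
  intro l hl
  induction l with
  | nil => exact ⟨false, by simp [prodOn, zb]⟩
  | cons i l ih =>
    have hl' : ∀ k ∈ l, k < 8 := fun k hk => hl k (List.mem_cons_of_mem _ hk)
    obtain ⟨b, hb⟩ := ih hl'
    show ∃ b, cond (Nat.testBit x.1 i) (kx i) 1 * prodOn x.1 l * (cond (Nat.testBit x.1 i) (kx i) 1 * prodOn x.1 l) =
      zb b
    cases Nat.testBit x.1 i with
    | false => exact ⟨b, by simpa using hb⟩
    | true =>
      have hi := hl i List.mem_cons_self
      refine ⟨xor (parOn x.1 l i) b, ?_⟩
      simp only [cond_true]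
      calc kx i * prodOn x.1 l * (kx i * prodOn x.1 l) = kx i * (prodOn x.1 l * kx i) * prodOn x.1 l := by group
        _ = kx i * kx i * prodOn x.1 l * (zb (parOn x.1 l i) * prodOn x.1 l) := by rw [prodOn_comm _ hi hl']; group
        _ = prodOn x.1 l * prodOn x.1 l * zb (parOn x.1 l i) := by rw [kx_sq hi, ← zb_comm]; group
        _ = _ := by rw [hb, zb_mul, Bool.xor_comm]

theorem parOn_zero : ∀ j < 8, parOn ((0 : Fin 256) : ℕ) (List.range 8) j = false := by decide +kernel

theorem center_QK : Subgroup.center QK = Subgroup.zpowers (⟨za, za_mem⟩ : QK) := by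
  refine le_antisymm (fun q hq => ?_) (Subgroup.zpowers_le.2 (Subgroup.mem_center_iff.2 fun r =>
    Subtype.ext (za_comm r.1)))
  obtain ⟨x, hx⟩ := normForm_surjective q.2
  have h0 : x.1 = 0 := par_eq (y := (0, false)) fun j hj => by
    have e : q.1 * kx j = kx j * q.1 := (congrArg Subtype.val (Subgroup.mem_center_iff.1 hq ⟨_, kx_mem hj⟩)).symm
    have e2 := normForm_comm x hj
    rw [hx, e] at e2
    have hp : parOn x.1 (List.range 8) j = false := zb_inj (b := parOn x.1 (List.range 8) j) (c := false)
      (mul_left_cancel (a := kx j * q.1) (by rw [← e2]; simp [zb]))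
    rw [hp]
    exact (parOn_zero j hj).symm
  have hp : prodOn ((0 : Fin 256) : ℕ) (List.range 8) = 1 := List.prod_eq_one fun g hg => by
    obtain ⟨i, -, rfl⟩ := List.mem_map.1 hg
    simp
  unfold normForm at hx
  rw [h0, hp, one_mul] at hx
  cases hb : x.2 with
  | false =>
    rw [hb] at hx
    rw [show q = 1 from Subtype.ext hx.symm]
    exact one_mem _
  | true =>
    rw [hb] at hx
    rw [show q = ⟨za, za_mem⟩ from Subtype.ext hx.symm]
    exact Subgroup.mem_zpowers _

theorem zb_mem_center {b : Bool} {q : QK} (h : q.1 = zb b) : q ∈ Subgroup.center QK := by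
  rw [Subgroup.mem_center_iff]
  intro r
  exact Subtype.ext (by rw [Subgroup.coe_mul, Subgroup.coe_mul, h, zb_comm])

theorem extraspecial_QK : Cfsg.IsExtraspecial 2 QK := by
  haveI : _root_.Fact (Nat.Prime 2) := ⟨Nat.prime_two⟩
  refine CfsgLib.PGroups.isExtraspecial_of (IsPGroup.of_card (n := 9) (by rw [card_ker_chi]; norm_num)) (fun h => ?_)
    ?_ ?_ fun x => ?_
  · have e := congrArg Subtype.val (h.is_comm.comm (⟨kx 0, kx_mem (by norm_num)⟩ : QK) ⟨kx 1, kx_mem (by norm_num)⟩)
    have e' := kx_comm (show 0 < 8 by norm_num) (show 1 < 8 by norm_num)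
    rw [show kx 0 * kx 1 = kx 1 * kx 0 from e, show formB 0 1 = true by decide +kernel, left_eq_mul] at e'
    exact za_ne e'
  · rw [center_QK, Nat.card_zpowers]
    exact orderOf_eq_prime (Subtype.ext (by simp [pow_two, za_sq])) fun e => za_ne (congrArg Subtype.val e)
  · rw [commutator_def, Subgroup.commutator_le]
    intro q _ r _
    obtain ⟨b, hb⟩ := comm_za q.2 r.2
    refine zb_mem_center (b := b) ?_
    show q.1 * r.1 * q.1⁻¹ * r.1⁻¹ = zb b
    rw [hb, mul_assoc (r.1 * q.1), ← zb_comm]
    group
    rw [zb_comm]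
    group
  · obtain ⟨b, hb⟩ := sq_za x.2
    exact zb_mem_center (b := b) (by rw [pow_two]; exact hb)

theorem exists_centralizer : ∃ (Q : Subgroup CA) (_ : Q.Normal), Nat.card Q = 2 ^ 9 ∧ Cfsg.IsExtraspecial 2 Q ∧
    Nonempty (CA ⧸ Q ≃* alternatingGroup (Fin 9)) :=
  ⟨QK, inferInstance, card_ker_chi.trans (by norm_num), extraspecial_QK,
    ⟨(QuotientGroup.quotientKerEquivRange chi).trans (MulEquiv.subgroupCongr range_chi)⟩⟩

end CfsgLib.Sporadic.ThPres.Cent
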