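import Cfsg.Agent.Lib.Sporadic.ThPres.Cent.Table
import Cfsg.Agent.Lib.Sporadic.ThPres.Cent.QuotData

/-!
# The centraliser maps onto the alternating group of degree nine (owner: helper9)

Nine sets of pairs of cosets are permuted.
-/

set_option autoImplicit false
set_option maxRecDepth 20000
set_option Elab.async false

namespace CfsgLib.Sporadic.ThPres.Cent

open Cfsg
open CfsgLib.ThreeTrans.CosetIndex (forallFrom forallFrom_elim)

/-- The label of a pair. -/
noncomputable def labP (u v : ℕ) : ℕ := Nat.land (Nat.shiftRight (pairLab.getD u 0) (Nat.mul 4 v)) 15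

/-- The image of one of the nine. -/
def nineFn (j : ℕ) (k : Fin 9) : Fin 9 := ⟨(nineImgs.getD j []).getD k.val 0 % 9, Nat.mod_lt _ (by norm_num)⟩

/-- The preimage. -/
def nineInv (j : ℕ) (k : Fin 9) : Fin 9 := ⟨(nineImgs.getD j []).idxOf k.val % 9, Nat.mod_lt _ (by norm_num)⟩

theorem nine_inverse : ∀ j : Fin 7, ∀ k : Fin 9, nineInv j (nineFn j k) = k ∧ nineFn j (nineInv j k) = k := by
  decide +kernel

/-- The permutation of the nine sets by a letter. -/
def ninePerm (j : Fin 7) : Equiv.Perm (Fin 9) :=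
  ⟨nineFn j, nineInv j, fun k => (nine_inverse j k).1, fun k => (nine_inverse j k).2⟩

/-- The action of a permutation on labels. -/
def ext9 (τ : Equiv.Perm (Fin 9)) (n : ℕ) : ℕ := if h : n < 9 then (τ ⟨n, h⟩ : ℕ) else 9

/-- A permutation of cosets induces one of the nine sets. -/
def Rel9 (σ : Equiv.Perm (Fin 120)) (τ : Equiv.Perm (Fin 9)) : Prop :=
  ∀ u v : Fin 120, labP (σ u) (σ v) = ext9 τ (labP u v)

theorem labP_range : forallFrom (fun u => forallFrom (fun v => Nat.ble (labP u v) 9) 0 120) 0 120 = true := by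
  decide +kernel

theorem labP_onto : forallFrom (fun k => (List.range 120).any fun u => (List.range 120).any fun v =>
    Nat.beq (labP u v) k) 0 9 = true := by decide +kernel

/-- The check for one letter. -/
noncomputable def nineOK (j : ℕ) : Bool :=
  let im := imgList j
  let t := nineImgs.getD j []
  forallFrom (fun u => forallFrom (fun v =>
    Nat.beq (labP (im.getD u 120) (im.getD v 120)) (cond (Nat.beq (labP u v) 9) 9 (Nat.mod (t.getD (labP u v) 0) 9)))
      0 120) 0 120

theorem nine_ok0 : nineOK 0 = true := by decide +kernel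
theorem nine_ok1 : nineOK 1 = true := by decide +kernel
theorem nine_ok2 : nineOK 2 = true := by decide +kernel
theorem nine_ok3 : nineOK 3 = true := by decide +kernel
theorem nine_ok4 : nineOK 4 = true := by decide +kernel
theorem nine_ok5 : nineOK 5 = true := by decide +kernel
theorem nine_ok6 : nineOK 6 = true := by decide +kernel

theorem nine_ok (j : Fin 7) : nineOK j = true := by
  fin_cases j
  exacts [nine_ok0, nine_ok1, nine_ok2, nine_ok3, nine_ok4, nine_ok5, nine_ok6]

theorem letter_nine (j : Fin 7) : Rel9 (letterPerm j) (ninePerm j) := by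
  intro u v
  have hok : nineOK j = true := nine_ok j
  unfold nineOK at hok
  have h := forallFrom_elim (forallFrom_elim hok (Nat.zero_le u.val) (by omega)) (Nat.zero_le v.val) (by omega)
  have lt : ∀ k : Fin 120, ((letterPerm j k : Fin 120) : ℕ) = (imgList j).getD k 120 := fun k => by
    have h := forallFrom_elim steps_ok (Nat.zero_le j.val) (by omega)
    rw [Bool.and_eq_true] at h
    have h2 := forallFrom_elim h.1 (Nat.zero_le k.val) (by omega)
    simp only [stepOK, Bool.and_eq_true, Nat.blt_eq] at h2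
    exact Nat.mod_eq_of_lt h2.1
  rw [lt, lt, Nat.eq_of_beq_eq_true h]
  have hr := forallFrom_elim (forallFrom_elim labP_range (Nat.zero_le u.val) (by omega)) (Nat.zero_le v.val) (by omega)
  rw [Nat.ble_eq] at hr
  generalize labP u v = n at hr
  rcases Nat.lt_or_ge n 9 with hn | hn
  · rw [show Nat.beq n 9 = false from by
      cases hb : Nat.beq n 9 with
      | false => rfl
      | true => exact absurd (Nat.eq_of_beq_eq_true hb) (by omega), cond_false, ext9, dif_pos hn]
    rfl
  · obtain rfl : n = 9 := by omega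
    rw [ext9, dif_neg (by omega)]
    rfl

theorem Rel9.unique {σ : Equiv.Perm (Fin 120)} {τ τ' : Equiv.Perm (Fin 9)} (h : Rel9 σ τ) (h' : Rel9 σ τ') :
    τ = τ' := by
  refine Equiv.ext fun k => ?_
  have hw := forallFrom_elim labP_onto (Nat.zero_le k.val) (by omega)
  simp only [List.any_eq_true, List.mem_range] at hw
  obtain ⟨u, hu, v, hv, e⟩ := hw
  have e' := (h ⟨u, hu⟩ ⟨v, hv⟩).symm.trans (h' ⟨u, hu⟩ ⟨v, hv⟩)
  simp only [Nat.eq_of_beq_eq_true e, ext9, dif_pos k.isLt] at e'
  exact Fin.ext e'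

theorem ext9_mul (τ τ' : Equiv.Perm (Fin 9)) (n : ℕ) : ext9 (τ * τ') n = ext9 τ (ext9 τ' n) := by
  unfold ext9
  split_ifs with h h2
  · rfl
  · exact absurd (τ' ⟨n, h⟩).isLt h2
  · omega
  · rfl

theorem exists_rel9 (g : CA) : ∃ τ, Rel9 (phi g) τ := by
  obtain ⟨g, hg⟩ := g
  have hg' : g ∈ MC := CA_eq.1 ▸ hg
  suffices h : ∀ x ∈ MC, ∀ hx : x ∈ CA, ∃ τ, Rel9 (phi ⟨x, hx⟩) τ from h g hg' hg
  intro x hx
  induction hx using Subgroup.closure_induction with
  | mem x hx =>
    intro hxc
    obtain ⟨y, hy, rfl⟩ := hx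
    obtain ⟨j, hj, rfl⟩ := List.mem_iff_getElem.1 hy
    refine ⟨ninePerm ⟨j, hj⟩, ?_⟩
    rw [Rel120.unique (phi_spec ⟨_, hxc⟩) (τ := letterPerm ⟨j, hj⟩) fun k => by
      rw [← letter_smul, List.getD_eq_getElem _ _ hj]]
    exact letter_nine ⟨j, hj⟩
  | one =>
    intro h1
    refine ⟨1, fun u v => ?_⟩
    rw [show (⟨1, h1⟩ : CA) = 1 from rfl, map_one]
    have hr := forallFrom_elim (forallFrom_elim labP_range (Nat.zero_le u.val) (by omega)) (Nat.zero_le v.val) (by omega)
    rw [Nat.ble_eq] at hr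
    simp only [ext9, Equiv.Perm.one_apply]
    split_ifs <;> omega
  | mul a b ha hb iha ihb =>
    intro hab
    have hac : a ∈ CA := CA_eq.1 ▸ ha
    have hbc : b ∈ CA := CA_eq.1 ▸ hb
    obtain ⟨s, hs⟩ := iha hac
    obtain ⟨t, ht⟩ := ihb hbc
    refine ⟨s * t, fun u v => ?_⟩
    rw [show (⟨a * b, hab⟩ : CA) = ⟨a, hac⟩ * ⟨b, hbc⟩ from rfl, map_mul, ext9_mul, ← ht u v, ← hs]
    rfl
  | inv a ha iha =>
    intro hia
    have hac : a ∈ CA := CA_eq.1 ▸ ha
    obtain ⟨s, hs⟩ := iha hac
    refine ⟨s⁻¹, fun u v => ?_⟩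
    rw [show (⟨a⁻¹, hia⟩ : CA) = ⟨a, hac⟩⁻¹ from rfl, map_inv]
    set σ := phi ⟨a, hac⟩
    have h := hs (σ⁻¹ u) (σ⁻¹ v)
    simp only [Equiv.Perm.coe_inv, Equiv.apply_symm_apply] at h ⊢
    rw [h, ← ext9_mul, inv_mul_cancel]
    simp only [ext9, Equiv.Perm.one_apply]
    have hr := forallFrom_elim (forallFrom_elim labP_range (Nat.zero_le (σ.symm u).val) (by omega))
      (Nat.zero_le (σ.symm v).val) (by omega)
    rw [Nat.ble_eq] at hr
    split_ifs <;> omega

/-- The map to permutations of nine sets. -/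
noncomputable def chi : CA →* Equiv.Perm (Fin 9) :=
  MonoidHom.mk' (fun g => (exists_rel9 g).choose) fun g h =>
    Rel9.unique (exists_rel9 (g * h)).choose_spec fun u v => by
      rw [map_mul, ext9_mul, ← (exists_rel9 h).choose_spec u v, ← (exists_rel9 g).choose_spec]
      rfl

theorem letter_mem (j : Fin 7) : thL (letters7.getD j 0) ∈ CA := by
  rw [CA_eq.1]
  refine Subgroup.subset_closure ⟨_, ?_, rfl⟩
  rw [List.getD_eq_getElem _ _ j.isLt]
  exact List.getElem_mem _

/-- A letter in the centraliser. -/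
noncomputable def caL (j : Fin 7) : CA := ⟨_, letter_mem j⟩

theorem chi_caL (j : Fin 7) : chi (caL j) = ninePerm j := by
  refine Rel9.unique (exists_rel9 (caL j)).choose_spec ?_
  rw [Rel120.unique (phi_spec (caL j)) (τ := letterPerm j) fun k => letter_smul j k]
  exact letter_nine j

/-- The number of a letter. -/
def idx7 : ℕ → Fin 7
  | 0 => 0 | 1 => 0 | 4 => 1 | 5 => 1 | 6 => 2 | 7 => 2 | 8 => 3 | 9 => 3 | 10 => 4 | 11 => 4 | 12 => 5 | 13 => 5
  | _ => 6

/-- A word in the letters of the centraliser. -/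
def isC (w : List ℕ) : Bool := w.all fun x => ([0, 1, 4, 5, 6, 7, 8, 9, 10, 11, 12, 13, 14, 15] : List ℕ).contains x

/-- The permutation of the nine sets by a letter or an inverse. -/
def nineL (x : ℕ) : Equiv.Perm (Fin 9) := if x % 2 = 0 then ninePerm (idx7 x) else (ninePerm (idx7 x))⁻¹

/-- A letter or inverse in the centraliser. -/
noncomputable def caX (x : ℕ) : CA := if x % 2 = 0 then caL (idx7 x) else (caL (idx7 x))⁻¹

theorem caX_val {x : ℕ} (h : x ∈ ([0, 1, 4, 5, 6, 7, 8, 9, 10, 11, 12, 13, 14, 15] : List ℕ)) :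
    (caX x : Spor.Th) = thL x := by
  simp only [List.mem_cons, List.not_mem_nil, or_false] at h
  rcases h with rfl | rfl | rfl | rfl | rfl | rfl | rfl | rfl | rfl | rfl | rfl | rfl | rfl | rfl <;>
    simp only [caX, caL, idx7] <;> first
      | rfl
      | exact (thL_flp _).symm

theorem chi_caX (x : ℕ) : chi (caX x) = nineL x := by
  rw [caX, nineL]
  split_ifs
  · exact chi_caL _
  · rw [map_inv, chi_caL]

/-- A word as an element of the centraliser. -/
noncomputable def caW (w : List ℕ) : CA := (w.map caX).prod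

theorem caW_val {w : List ℕ} (h : isC w = true) : (caW w : Spor.Th) = (w.map thL).prod := by
  rw [caW, ← Subgroup.coe_subtype, map_list_prod, List.map_map]
  refine congrArg List.prod (List.map_congr_left fun x hx => ?_)
  exact caX_val (List.contains_iff_mem.1 (List.all_eq_true.1 h x hx))

theorem chi_caW (w : List ℕ) : chi (caW w) = (w.map nineL).prod := by
  rw [caW, map_list_prod, List.map_map]
  exact congrArg List.prod (List.map_congr_left fun x _ => chi_caX x)

theorem signs : ∀ j : Fin 7, Equiv.Perm.sign (ninePerm j) = 1 := by decide +kernel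

theorem three_ok : ∀ k : Fin 7, ((threeWords.getD k []).map nineL).prod =
    Equiv.swap 0 ⟨k.val + 2, by omega⟩ * Equiv.swap 0 1 := by decide +kernel

theorem closure_mem_alt {α : Type*} [Fintype α] [DecidableEq α] (R : Subgroup (Equiv.Perm α)) (o z : α) (hz : z ≠ o)
    (h : ∀ k, k ≠ o → Equiv.swap o k * Equiv.swap o z ∈ R) : alternatingGroup α ≤ R := by
  have h2 : ∀ x y, x ≠ o → y ≠ o → Equiv.swap o x * Equiv.swap o y ∈ R := fun x y hx hy => by
    have := mul_mem (h x hx) (inv_mem (h y hy))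
    rwa [_root_.mul_inv_rev, Equiv.swap_inv, Equiv.swap_inv, mul_assoc, ← mul_assoc (Equiv.swap o z),
      Equiv.swap_mul_self, one_mul] at this
  have hconj : ∀ a b, a ≠ o → b ≠ o → a ≠ b → Equiv.swap a b = Equiv.swap o a * Equiv.swap o b * Equiv.swap o a :=
    fun a b ha hb hab => by
      conv_rhs => rw [show Equiv.swap o a * Equiv.swap o b * Equiv.swap o a =
        Equiv.swap o a * Equiv.swap o b * (Equiv.swap o a)⁻¹ by rw [Equiv.swap_inv], ← Equiv.swap_apply_apply,
        Equiv.swap_apply_left, Equiv.swap_apply_of_ne_of_ne hb hab.symm]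
  rw [← Equiv.Perm.closure_three_cycles_eq_alternating, Subgroup.closure_le]
  intro σ hσ
  obtain ⟨a, b, c, hab, hac, hbc, rfl⟩ : ∃ a b c, a ≠ b ∧ a ≠ c ∧ b ≠ c ∧ σ = Equiv.swap a b * Equiv.swap a c := by
    have h3 : σ.IsThreeCycle := hσ
    obtain ⟨x, hx⟩ : ∃ x, x ∈ σ.support := Finset.card_pos.1 (by rw [h3.card_support]; norm_num)
    have hn := h3.nodup_iff_mem_support.2 hx
    simp only [List.nodup_cons, List.mem_cons, List.not_mem_nil, or_false, not_or, List.nodup_nil, and_true,
      not_false_eq_true] at hn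
    refine ⟨σ x, x, σ (σ x), Ne.symm hn.1.1, hn.2, hn.1.2, ?_⟩
    rw [Equiv.swap_comm (σ x) x]
    exact h3.eq_swap_mul_swap_iff_mem_support.2 hx
  by_cases ha : a = o
  · subst ha; exact h2 b c hab.symm hac.symm
  by_cases hb : b = o
  · subst hb
    rw [SetLike.mem_coe, Equiv.swap_comm a b, hconj a c ha hbc.symm hac]
    simp only [← mul_assoc, Equiv.swap_mul_self, one_mul]
    exact h2 c a hbc.symm ha
  by_cases hc : c = o
  · subst hc
    rw [SetLike.mem_coe, Equiv.swap_comm a c, hconj a b ha hb hab, mul_assoc, Equiv.swap_mul_self, mul_one]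
    exact h2 a b ha hb
  · rw [SetLike.mem_coe, hconj a b ha hb hab, hconj a c ha hc hac]
    rw [show Equiv.swap o a * Equiv.swap o b * Equiv.swap o a * (Equiv.swap o a * Equiv.swap o c * Equiv.swap o a) =
      (Equiv.swap o a * Equiv.swap o b) * (Equiv.swap o a * Equiv.swap o a) * (Equiv.swap o c * Equiv.swap o a) by
        simp only [mul_assoc], Equiv.swap_mul_self, mul_one]
    exact mul_mem (h2 a b ha hb) (h2 c a hc ha)

theorem range_chi : chi.range = alternatingGroup (Fin 9) := by
  refine le_antisymm ?_ ?_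
  · rintro _ ⟨g, rfl⟩
    have hg : g.1 ∈ MC := CA_eq.1 ▸ g.2
    suffices h : ∀ x ∈ MC, ∀ hx : x ∈ CA, chi ⟨x, hx⟩ ∈ alternatingGroup (Fin 9) from h g.1 hg g.2
    intro x hx
    induction hx using Subgroup.closure_induction with
    | mem x hx =>
      intro hxc
      obtain ⟨y, hy, rfl⟩ := hx
      obtain ⟨j, hj, rfl⟩ := List.mem_iff_getElem.1 hy
      rw [show (⟨thL letters7[j], hxc⟩ : CA) = caL ⟨j, hj⟩ from Subtype.ext
        (congrArg thL (List.getD_eq_getElem _ _ hj).symm), chi_caL, Equiv.Perm.mem_alternatingGroup]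
      exact signs _
    | one => intro h1; rw [show (⟨1, h1⟩ : CA) = 1 from rfl, map_one]; exact one_mem _
    | mul a b ha hb iha ihb =>
      intro hab
      have hac : a ∈ CA := CA_eq.1 ▸ ha
      have hbc : b ∈ CA := CA_eq.1 ▸ hb
      rw [show (⟨a * b, hab⟩ : CA) = ⟨a, hac⟩ * ⟨b, hbc⟩ from rfl, map_mul]
      exact mul_mem (iha hac) (ihb hbc)
    | inv a ha iha =>
      intro hia
      have hac : a ∈ CA := CA_eq.1 ▸ ha
      rw [show (⟨a⁻¹, hia⟩ : CA) = ⟨a, hac⟩⁻¹ from rfl, map_inv]
      exact inv_mem (iha hac)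
  · refine closure_mem_alt _ 0 1 (by decide) fun k hk => ?_
    by_cases h1 : k = 1
    · subst h1; rw [Equiv.swap_mul_self]; exact one_mem _
    · have hk2 : 2 ≤ k.val := by
        have : k.val ≠ 0 := fun e => hk (Fin.ext e)
        have : k.val ≠ 1 := fun e => h1 (Fin.ext e)
        omega
      refine ⟨caW (threeWords.getD (k.val - 2) []), ?_⟩
      rw [chi_caW, three_ok ⟨k.val - 2, by omega⟩]
      congr 2
      exact Fin.ext (by show k.val - 2 + 2 = k.val; omega)

theorem card_ker_chi : Nat.card chi.ker = 512 := by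
  have h := chi.ker.index_mul_card
  rw [Subgroup.index_ker, range_chi, CA_eq.2, nat_card_alternatingGroup, Nat.card_fin] at h
  norm_num [Nat.factorial] at h
  exact Nat.eq_of_mul_eq_mul_left (show 0 < 181440 by norm_num) (h.trans (by norm_num))

end CfsgLib.Sporadic.ThPres.Cent
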