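import Cfsg.Agent.Lib.Sporadic.ThPres.Cent.Classify

/-!
# The centraliser of the central involution has order at most 92897280 (owner: helper9)
-/

set_option autoImplicit false
set_option maxRecDepth 20000
set_option Elab.async false

namespace CfsgLib.Sporadic.ThPres.Cent

open Cfsg
open CfsgLib.ThreeTrans.CosetIndex (forallFrom forallFrom_elim)

/-- The centraliser of the central involution. -/
noncomputable abbrev CA : Subgroup Spor.Th := Subgroup.centralizer ({thL 0} : Set Spor.Th)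

theorem toTh_mem_CA {p : P0} : toTh p ∈ CA ↔ p ∈ fix0 := by
  rw [Subgroup.mem_centralizer_singleton_iff, mem_fix0_iff, ← toTh_L (show 0 < 14 by norm_num), ← map_mul, ← map_mul]
  exact toTh_injective.eq_iff

theorem card_CA_inf : Nat.card (CA ⊓ Hs : Subgroup Spor.Th) = 774144 := by
  rw [← card_fix0]
  refine (Nat.card_congr (Equiv.ofBijective
    (fun p : fix0 => (⟨toTh p.1, toTh_mem_CA.2 p.2, p.1, rfl⟩ : (CA ⊓ Hs : Subgroup Spor.Th))) ⟨?_, ?_⟩)).symm
  · intro p q e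
    exact Subtype.ext (toTh_injective (congrArg Subtype.val e))
  · rintro ⟨g, hg, p, rfl⟩
    exact ⟨⟨p, toTh_mem_CA.1 hg⟩, rfl⟩

theorem good_closed {i : ℕ} (h1 : 1 ≤ i) (hi : i < 11) {s : P0} (hs : s ∈ stabP i) :
    ∀ z < 819, z ∈ goodPts i → t819.ract s z ∈ goodPts i := by
  rw [stabP_eq h1 hi] at hs
  have hok := class_ok h1 hi
  simp only [classOK, Bool.and_eq_true, List.all_eq_true, List.mem_range, List.contains_iff_mem] at hok
  induction hs using Subgroup.closure_induction with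
  | mem s hs =>
    obtain ⟨g, hg, rfl⟩ := hs
    obtain ⟨k, hk, rfl⟩ := List.mem_iff_getElem.1 hg
    intro z hz hzg
    have h := hok.2.2 z hzg k hk
    rwa [← ev_ract (genW_spec h1 hi hk).1 hz, genW, List.getD_eq_getElem _ _ hk] at h
  | one => intro z _ h; rwa [t819.ract_one]
  | mul a b _ _ ha hb => intro z hz h; rw [t819.ract_mul]; exact hb _ (t819.ract_lt a hz) (ha z hz h)
  | inv a _ ha =>
    have hinv : a⁻¹ = a ^ (orderOf a - 1) :=
      inv_eq_of_mul_eq_one_right (by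
        rw [← pow_succ', Nat.sub_add_cancel (orderOf_pos a), pow_orderOf_eq_one])
    rw [hinv]
    generalize orderOf a - 1 = n
    induction n with
    | zero => intro z _ h; rwa [pow_zero, t819.ract_one]
    | succ n ih => intro z hz h; rw [pow_succ, t819.ract_mul]; exact ha _ (t819.ract_lt _ hz) (ih z hz h)

theorem card_points_over (l : List ℕ) : Nat.card {p : P0 // t819.ract p 0 ∈ l} ≤ l.length * 774144 := by
  classical
  choose f hfP hf0 using fun x : Fin 819 => P1_transitive x.val x.isLt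
  let Φ : {p : P0 // t819.ract p 0 ∈ l} → Fin l.length × ↥fix0 := fun p =>
    (⟨l.idxOf (t819.ract p.1 0), List.idxOf_lt_length_iff.2 p.2⟩,
      ⟨p.1 * (f ⟨_, t819.ract_lt p.1 (show 0 < 819 by norm_num)⟩)⁻¹, mem_fix0.2 (by
        rw [t819.ract_mul]
        conv_rhs => rw [← t819.ract_inv (f ⟨_, t819.ract_lt p.1 (show 0 < 819 by norm_num)⟩) 0, hf0])⟩)
  have hΦ : Function.Injective Φ := by
    rintro ⟨p, hp⟩ ⟨p', hp'⟩ e
    have e1 : l.idxOf (t819.ract p 0) = l.idxOf (t819.ract p' 0) := congrArg (fun x => x.1.val) e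
    have e2 : t819.ract p 0 = t819.ract p' 0 := (List.idxOf_inj hp).1 e1
    have e3 := congrArg (fun x => x.2.1) e
    simp only [Φ, e2] at e3
    exact Subtype.ext (mul_right_cancel e3)
  have := Nat.card_le_card_of_injective Φ hΦ
  rwa [Nat.card_prod, Nat.card_fin, card_fix0] at this

/-- The candidate left cosets in one double coset. -/
def Cands (i : ℕ) : Set (P0 ⧸ stabP i) :=
  {x | ∃ p : P0, (p : P0 ⧸ stabP i) = x ∧ t819.ract p 0 ∈ goodPts i}

theorem card_Cands {i : ℕ} (h1 : 1 ≤ i) (hi : i < 11) :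
    Nat.card (Cands i) * stabOrders.getD i 0 ≤ (goodPts i).length * 774144 := by
  rw [← card_stabP hi]
  refine le_trans (le_of_eq ?_) (card_points_over (goodPts i))
  rw [mul_comm, ← Nat.card_prod]
  refine (Nat.card_congr ((QuotientGroup.preimageMkEquivSubgroupProdSet (stabP i) (Cands i)).symm.trans
    (Equiv.subtypeEquivRight fun p => ⟨fun hp => ?_, fun hp => ⟨p, rfl, hp⟩⟩)))
  obtain ⟨q, hq, hgood⟩ := hp
  rw [QuotientGroup.eq] at hq
  have h := good_closed h1 hi hq _ (t819.ract_lt q (show 0 < 819 by norm_num)) hgood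
  rwa [← t819.ract_mul, mul_inv_cancel_left] at h

theorem card_Cands_le {i : ℕ} (h1 : 1 ≤ i) (hi : i < 11) :
    Nat.card (Cands i) ≤ [0, 63, 0, 0, 0, 0, 56, 0, 0, 0, 0].getD i 0 := by
  have h := card_Cands h1 hi
  have hl : (goodPts i).length = [0, 3, 0, 0, 0, 0, 1, 0, 0, 0, 0].getD i 0 := by
    rw [← good_lengths, List.getD_eq_getElem _ _ (by simp; omega), List.getElem_map, List.getElem_range]
  rw [hl] at h
  interval_cases i <;> simp only [stabOrders, List.getD_cons_zero, List.getD_cons_succ] at h ⊢ <;>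
    exact Nat.le_of_mul_le_mul_right (h.trans (by norm_num)) (by norm_num)

theorem orbit_cases (c : CA) : ((c.1 : Spor.Th) : Spor.Th ⧸ Hs) = ((1 : Spor.Th) : Spor.Th ⧸ Hs) ∨
    ∃ i : Fin 11, 1 ≤ i.val ∧ ∃ x ∈ Cands i, cosetMap ⟨i, x⟩ = ((c.1 : Spor.Th) : Spor.Th ⧸ Hs) := by
  obtain ⟨⟨i, x⟩, hx⟩ := cosetMap_surjective ((c.1 : Spor.Th) : Spor.Th ⧸ Hs)
  obtain ⟨p, rfl⟩ := QuotientGroup.mk_surjective x
  rcases Nat.eq_zero_or_pos i.val with hi0 | hpos
  · left
    rw [← hx, cosetMap_mk, hi0, Wr_zero, inv_one, mul_one, eq_comm, QuotientGroup.eq, inv_one, one_mul]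
    exact ⟨p, rfl⟩
  refine Or.inr ⟨i, hpos, _, ⟨p, rfl, ?_⟩, hx⟩
  have hlt := t819.ract_lt p (show 0 < 819 by norm_num)
  refine cand_good hpos i.isLt hlt ?_
  rw [cosetMap_mk, QuotientGroup.eq] at hx
  obtain ⟨n, hn⟩ := hx
  have hc : thL 0 = c.1 * thL 0 * c.1⁻¹ := by
    have := Subgroup.mem_centralizer_singleton_iff.1 c.2
    rw [this, mul_inv_cancel_right]
  have e : Wr i * toTh (p⁻¹ * L 0 * p) * (Wr i)⁻¹ = toTh (n⁻¹⁻¹ * L 0 * n⁻¹) := by
    simp only [map_mul, map_inv, toTh_L (show 0 < 14 by norm_num), inv_inv, hn]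
    conv_lhs => rw [hc]
    group
  rw [conj_eq] at e
  exact ⟨⟨_, e.symm⟩, n⁻¹, e⟩

theorem card_orbit_le :
    Nat.card (Set.range fun c : CA => ((c.1 : Spor.Th) : Spor.Th ⧸ Hs)) ≤ 120 := by
  classical
  let J : Finset (Fin 11) := Finset.univ.filter fun i => 1 ≤ i.val
  have hsub : (Set.range fun c : CA => ((c.1 : Spor.Th) : Spor.Th ⧸ Hs)) ⊆
      ({((1 : Spor.Th) : Spor.Th ⧸ Hs)} : Set _) ∪ ⋃ i ∈ J, (fun x => cosetMap ⟨i, x⟩) '' Cands i := by
    rintro _ ⟨c, rfl⟩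
    rcases orbit_cases c with h | ⟨i, hi, x, hx, h⟩
    · exact Or.inl h
    · exact Or.inr (Set.mem_biUnion (Finset.mem_filter.2 ⟨Finset.mem_univ _, hi⟩) ⟨x, hx, h⟩)
  rw [Nat.card_coe_set_eq]
  refine (Set.ncard_le_ncard hsub (Set.toFinite _)).trans ?_
  refine (Set.ncard_union_le _ _).trans ?_
  rw [Set.ncard_singleton]
  rw [show (120 : ℕ) = 1 + 119 from rfl]
  refine Nat.add_le_add_left ((Finset.set_ncard_biUnion_le J _).trans ?_) 1
  refine le_trans (Finset.sum_le_sum (g := fun i : Fin 11 => [0, 63, 0, 0, 0, 0, 56, 0, 0, 0, 0].getD i.val 0)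
    fun i hi => ?_) ?_
  · refine (Set.ncard_image_le (Set.toFinite _)).trans ?_
    rw [← Nat.card_coe_set_eq]
    exact card_Cands_le (Finset.mem_filter.1 hi).2 i.isLt
  · decide +kernel

theorem smul_one_coset (c : CA) :
    c • ((1 : Spor.Th) : Spor.Th ⧸ Hs) = ((c.1 : Spor.Th) : Spor.Th ⧸ Hs) := by
  show ((c.1 * 1 : Spor.Th) : Spor.Th ⧸ Hs) = _
  rw [mul_one]

theorem mem_stab_one {c : CA} : c ∈ MulAction.stabilizer CA ((1 : Spor.Th) : Spor.Th ⧸ Hs) ↔ c.1 ∈ Hs := by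
  rw [MulAction.mem_stabilizer_iff, smul_one_coset, eq_comm, QuotientGroup.eq, inv_one, one_mul]

theorem card_CA_le : Nat.card CA ≤ 92897280 := by
  classical
  have h := Nat.card_congr (MulAction.orbitProdStabilizerEquivGroup CA ((1 : Spor.Th) : Spor.Th ⧸ Hs))
  rw [Nat.card_prod] at h
  rw [← h]
  refine (Nat.mul_le_mul (le_of_eq_of_le ?_ card_orbit_le) (le_of_eq ?_)).trans
    (show 120 * 774144 ≤ 92897280 by norm_num)
  · congr 2
    refine Set.ext fun q => ⟨?_, ?_⟩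
    · rintro ⟨c, rfl⟩
      exact ⟨c, (smul_one_coset c).symm⟩
    · rintro ⟨c, rfl⟩
      exact ⟨c, smul_one_coset c⟩
  · rw [← card_CA_inf]
    exact Nat.card_congr ⟨fun c => ⟨c.1.1, Subgroup.mem_inf.2 ⟨c.1.2, mem_stab_one.1 c.2⟩⟩,
      fun g => ⟨⟨g.1, (Subgroup.mem_inf.1 g.2).1⟩, mem_stab_one.2 (Subgroup.mem_inf.1 g.2).2⟩, fun _ => rfl,
      fun _ => rfl⟩

end CfsgLib.Sporadic.ThPres.Cent
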